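import Cfsg.Agent.KFacts.FiTTh.BasTau
import Cfsg.Agent.Fischer.Fi23Z
import Cfsg.Agent.Lib.PermNetPt
import Cfsg.Agent.Lib.PermNetFix

/-!
# `2^11 : M23` in `Fi23`: kernel checks in the degree 31671 action (helper286)

The points `lab p` belong to 23 commuting transpositions; the words `W 0, …, W 6` permute them as
`BasTau.tau 0, …, tau 6`.
-/

set_option autoImplicit false
set_option maxRecDepth 100000
set_option Elab.async false

namespace Cfsg.Agent.KFacts.FiTTh.BasChk

open Cfsg Cfsg.Agent.Lib.PermNet Cfsg.Agent.Lib.PermNetPt Cfsg.Agent.Lib.PermNetFix Cfsg.Agent.Lib.PermNetOrbit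
open Cfsg.Agent.Fischer.Fi23Nets Cfsg.Agent.Fischer.Fi23Rel Cfsg.Agent.Fischer.Fi23Hom Cfsg.Agent.Fischer.Fi23Orb
open Cfsg.Agent.Fischer.Fi23Z Cfsg.Agent.Fischer.Fi23OrbData
open Cfsg.Agent.KFacts.FiTTh.BasTau Cfsg.Agent.SporadicA.GolayWalk
open Cfsg.Spor.Fi23 (Gen)

/-- The points of the 23 transpositions (the last entry belongs to `none`). -/
def labL : List ℕ := [11589, 8003, 8001, 7999, 8005, 3153, 174, 6796, 52, 7159, 726, 899, 14202, 0, 2524, 2828, 15822, 2663, 7687, 749, 714, 6580, 15821, 32768]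

/-- The point of the representation belonging to a point of `GolayPt`. -/
def lab (p : GolayPt) : ℕ := labL.getD (idx p) 0

/-- The seven words. -/
def W : ℕ → List Gen
  | 0 => [.d, .e, .d, .c, .d, .e]
  | 1 => [.d, .h, .d, .c, .d, .h]
  | 2 => [.d, .h, .e, .d, .e, .h]
  | 3 => [.f, .g, .f, .e, .f, .g]
  | 4 => [.b, .a, .c, .b]
  | 5 => [.i, .h, .i, .d, .h, .e, .d, .c, .d, .e, .h, .d, .i, .h]
  | 6 => [.j, .g, .f, .g, .j, .e, .d, .h, .j, .g, .f, .e, .d, .c, .d, .e, .f, .g, .j, .h, .d, .e]
  | _ => []

/-- The pairs (point, image). -/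
def rows : ℕ → List (ℕ × ℕ)
  | 0 => [(11589, 11589), (8003, 8001), (8001, 8003), (7999, 3153), (8005, 8005), (3153, 7999), (174, 714), (6796, 7159), (52, 52), (7159, 6796), (726, 749), (899, 899), (14202, 7687), (0, 0), (2524, 2524), (2828, 6580), (15822, 15821), (2663, 2663), (7687, 14202), (749, 726), (714, 174), (6580, 2828), (15821, 15822), (32768, 32768)]
  | 1 => [(11589, 11589), (8003, 7999), (8001, 3153), (7999, 8003), (8005, 8005), (3153, 8001), (174, 726), (6796, 6580), (52, 52), (7159, 2828), (726, 174), (899, 899), (14202, 15822), (0, 0), (2524, 2524), (2828, 7159), (15822, 14202), (2663, 2663), (7687, 15821), (749, 714), (714, 749), (6580, 6796), (15821, 7687), (32768, 32768)]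
  | 2 => [(11589, 11589), (8003, 3153), (8001, 7999), (7999, 8001), (8005, 8005), (3153, 8003), (174, 749), (6796, 2828), (52, 52), (7159, 6580), (726, 714), (899, 899), (14202, 15821), (0, 0), (2524, 2524), (2828, 6796), (15822, 7687), (2663, 2663), (7687, 15822), (749, 174), (714, 726), (6580, 7159), (15821, 14202), (32768, 32768)]
  | 3 => [(11589, 11589), (8003, 8003), (8001, 8005), (7999, 7999), (8005, 8001), (3153, 899), (174, 174), (6796, 14202), (52, 52), (7159, 6580), (726, 726), (899, 3153), (14202, 6796), (0, 0), (2524, 714), (2828, 7687), (15822, 15821), (2663, 749), (7687, 2828), (749, 2663), (714, 2524), (6580, 7159), (15821, 15822), (32768, 32768)]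
  | 4 => [(11589, 8003), (8003, 11589), (8001, 8001), (7999, 7999), (8005, 8005), (3153, 2663), (174, 52), (6796, 14202), (52, 174), (7159, 2828), (726, 726), (899, 749), (14202, 6796), (0, 0), (2524, 2524), (2828, 7159), (15822, 15821), (2663, 3153), (7687, 6580), (749, 899), (714, 714), (6580, 7687), (15821, 15822), (32768, 32768)]
  | 5 => [(11589, 11589), (8003, 8003), (8001, 8001), (7999, 3153), (8005, 8005), (3153, 7999), (174, 6580), (6796, 749), (52, 899), (7159, 726), (726, 7159), (899, 52), (14202, 7687), (0, 0), (2524, 2663), (2828, 714), (15822, 15822), (2663, 2524), (7687, 14202), (749, 6796), (714, 2828), (6580, 174), (15821, 15821), (32768, 32768)]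
  | 6 => [(11589, 11589), (8003, 8003), (8001, 3153), (7999, 7999), (8005, 8005), (3153, 8001), (174, 726), (6796, 15822), (52, 0), (7159, 7687), (726, 174), (899, 899), (14202, 6580), (0, 52), (2524, 2663), (2828, 15821), (15822, 6796), (2663, 2524), (7687, 7159), (749, 749), (714, 714), (6580, 14202), (15821, 2828), (32768, 32768)]
  | _ => []

/-- All pairs of a list are (point, image) under a word. -/
noncomputable def chkP (w : List Net) (l : List (ℕ × ℕ)) : Bool :=
  List.rec (motive := fun _ => Bool) true (fun a _ ih => Bool.rec false ih (chkPt w a.1 a.2)) l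

theorem chkP_spec {w : List Net} {l : List (ℕ × ℕ)} (h : chkP w l = true) : ∀ a ∈ l, chkPt w a.1 a.2 = true := by
  induction l with
  | nil => intro a ha; exact absurd ha (by simp)
  | cons a l ih =>
    have h' : (Bool.rec false (chkP w l) (chkPt w a.1 a.2) : Bool) = true := h
    have h1 : chkPt w a.1 a.2 = true := by
      cases hc : chkPt w a.1 a.2 with
      | false => rw [hc] at h'; exact absurd h' (by simp)
      | true => rfl
    rw [h1] at h'
    intro x hx
    rcases List.mem_cons.1 hx with rfl | hx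
    · exact h1
    · exact ih h' x hx

theorem rho_of_chkPt {u : List Gen} {a b : ℕ} (h : chkPt (u.map net) a b = true) : rho (word u) a = b := by
  rw [rho_word]
  exact chkPt_spec (wok u) h

theorem rho_of_chkP {u : List Gen} {l : List (ℕ × ℕ)} (h : chkP (u.map net) l = true) :
    ∀ a ∈ l, rho (word u) a.1 = a.2 := fun a ha => rho_of_chkPt (chkP_spec h a ha)

theorem c0 : chkP ((W 0).map net) (rows 0) = true := by decide +kernel
theorem c1 : chkP ((W 1).map net) (rows 1) = true := by decide +kernel
theorem c2 : chkP ((W 2).map net) (rows 2) = true := by decide +kernel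
theorem c3 : chkP ((W 3).map net) (rows 3) = true := by decide +kernel
theorem c4 : chkP ((W 4).map net) (rows 4) = true := by decide +kernel
theorem c5 : chkP ((W 5).map net) (rows 5) = true := by decide +kernel
theorem c6 : chkP ((W 6).map net) (rows 6) = true := by decide +kernel

theorem mem_rows : ∀ k < 7, ∀ p, (lab p, lab (tau k p)) ∈ rows k := by
  intro k hk
  interval_cases k <;> decide +kernel

/-- The word `W k` acts on the points as `tau k`. -/
theorem rho_tau (k : ℕ) (hk : k < 7) (p : GolayPt) : rho (word (W k)) (lab p) = lab (tau k p) := by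
  have h : chkP ((W k).map net) (rows k) = true := by
    interval_cases k
    · exact c0
    · exact c1
    · exact c2
    · exact c3
    · exact c4
    · exact c5
    · exact c6
  exact rho_of_chkP h _ (mem_rows k hk p)

/-! ### The points of the generators -/

/-- The numbers of the points of the generators. -/
def pn : Gen → ℕ
  | .a => 11589
  | .b => 8004
  | .c => 8003
  | .d => 8000
  | .e => 8001
  | .f => 8002
  | .g => 8005
  | .j => 8006
  | .h => 7999
  | .i => 8007

theorem pt_j : chkPt [nz, nj] 0 8006 = true := by decide +kernel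
theorem pt_g : chkPt [nj, ng] 8006 8005 = true := by decide +kernel
theorem pt_f : chkPt [ng, nf] 8005 8002 = true := by decide +kernel
theorem pt_e : chkPt [nf, ne] 8002 8001 = true := by decide +kernel
theorem pt_d : chkPt [ne, nd] 8001 8000 = true := by decide +kernel
theorem pt_c : chkPt [nd, nc] 8000 8003 = true := by decide +kernel
theorem pt_b : chkPt [nc, nb] 8003 8004 = true := by decide +kernel
theorem pt_a : chkPt [nb, na] 8004 11589 = true := by decide +kernel
theorem pt_h : chkPt [nd, nh] 8000 7999 = true := by decide +kernel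
theorem pt_i : chkPt [nh, ni] 7999 8007 = true := by decide +kernel

/-! ### The octad -/

def u5 : List Gen := [.d, .h, .c, .d]
def u6 : List Gen := [.b, .c, .d, .h, .a, .b, .c, .d]
def u7 : List Gen := [.f, .e, .d, .h, .c, .b, .d, .c, .e, .d, .h, .a, .b, .c, .d, .e]

theorem pu5 : chkPt (u5.map net) 8001 3153 = true := by decide +kernel
theorem pu6 : chkPt (u6.map net) 8001 2663 = true := by decide +kernel
theorem pu7 : chkPt (u7.map net) 8002 2524 = true := by decide +kernel

/-- The octad. -/
def oct0 : List GolayPt := [none, some 0, some 1, some 2, some 3, some 5, some 17, some 14]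

/-- The word of the product over the octad. -/
def WO : List Gen :=
  ([] ++ Gen.a :: ([] : List Gen).reverse) ++
  (([] ++ Gen.c :: ([] : List Gen).reverse) ++ (([] ++ Gen.e :: ([] : List Gen).reverse) ++
  (([] ++ Gen.h :: ([] : List Gen).reverse) ++ ((u5 ++ Gen.e :: u5.reverse) ++
  ((u6 ++ Gen.e :: u6.reverse) ++ ((u7 ++ Gen.f :: u7.reverse) ++ []))))))

theorem fix_WO (x : Gen) : chkPt (WO.map net) (pn x) (pn x) = true := by
  cases x <;> decide +kernel

/-! ### The transposition `b` -/

/-- The octad of the points whose transpositions commute with `b`. -/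
def octB : List GolayPt := [none, some 2, some 3, some 4, some 10, some 13, some 14, some 20]

theorem fix_b : chkP [nb] [(32768, 32768), (8001, 8001), (7999, 7999), (8005, 8005), (726, 726), (0, 0), (2524, 2524),
  (714, 714)] = true := by decide +kernel

theorem mem_fix_b : ∀ p ∈ octB, (lab p, lab p) ∈ ([(32768, 32768), (8001, 8001), (7999, 7999), (8005, 8005),
  (726, 726), (0, 0), (2524, 2524), (714, 714)] : List (ℕ × ℕ)) := by decide +kernel

theorem tau4_octB : ∀ p ∈ octB, tau 4 p = p := by decide +kernel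
theorem tau4_zero : tau 4 (some 0) = some 1 := by decide +kernel
theorem tau4_one : tau 4 (some 1) = some 0 := by decide +kernel

/-! ### Points fixed by `z0, a, c, e, g, h` -/

/-- the mask of a list of points -/
noncomputable def maskL (l : List ℕ) : ℕ :=
  List.rec (motive := fun _ => ℕ) 0 (fun a _ ih => Nat.lor (Nat.pow 2 a) ih) l

theorem testBit_maskL {l : List ℕ} {q : ℕ} (h : (maskL l).testBit q = true) : q ∈ l := by
  induction l with
  | nil =>
    have h' : (0 : ℕ).testBit q = true := h
    simp at h'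
  | cons a l ih =>
    have h' : (2 ^ a ||| maskL l).testBit q = true := h
    rw [Nat.testBit_or, Bool.or_eq_true, Nat.testBit_two_pow] at h'
    rcases h' with h' | h'
    · rw [decide_eq_true_eq] at h'
      rw [← h']
      exact List.mem_cons_self
    · exact List.mem_cons_of_mem _ (ih h')

theorem only6 : Nat.beq (movedL 15 [[nz], [na], [nc], [ne], [ng], [nh]])
    (Nat.xor (Nat.sub (Nat.pow 2 (31671 : ℕ)) 1) (maskL (labL.take 23))) = true := by
  decide +kernel

/-! ### The stabiliser chain -/

/-- words fixing the points `0`, `11589` -/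
def v2 : List (List Gen) := [[.d], [.e], [.f], [.c], [.g], [.h, .d, .h], [.i, .h, .i], [.b, .c, .d, .h, .a, .b, .c, .d, .e, .d, .c, .b, .a, .h, .d, .c, .b]]

/-- words fixing the points `0`, `11589`, `8003` -/
def v3 : List (List Gen) := [[.f], [.g], [.e, .f, .e], [.d, .h, .c, .d, .e, .d, .c, .h, .d], [.i, .d, .h, .c, .d, .e, .d, .c, .h, .d, .i], [.h, .i, .d, .h, .c, .d, .e, .d, .c, .h, .d, .i, .h], [.b, .c, .d, .h, .a, .b, .c, .d, .e, .d, .c, .b, .a, .h, .d, .c, .b]]

/-- words fixing the points `0`, `11589`, `8003`, `8001` -/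
def v4 : List (List Gen) := [[.i], [.i, .h, .i], [.d, .h, .c, .d, .e, .d, .c, .h, .d], [.f, .e, .d, .h, .c, .d, .e, .f, .g, .f, .e, .d, .c, .h, .d, .e, .f], [.b, .c, .d, .h, .a, .b, .c, .d, .e, .d, .c, .b, .a, .h, .d, .c, .b], [.b, .c, .f, .e, .d, .h, .a, .b, .c, .d, .e, .f, .g, .f, .e, .d, .c, .b, .a, .h, .d, .e, .f, .c, .b]]

/-- a word fixing the points `0`, `11589`, `8003`, `8001`, `7999` -/
def v5 : List (List Gen) := [[.d, .h, .c, .d, .h, .b, .c, .b, .a, .b, .c, .i, .h, .i, .d, .h, .e, .d, .c, .d, .e, .h, .d, .i, .h, .f, .g, .f, .e, .f, .g, .b, .c, .b, .a, .b, .c, .d, .h, .d, .c, .d, .h, .f, .g, .f, .e, .f, .g, .d, .h, .e, .d, .e, .h, .b, .c, .b, .a, .b, .c, .i, .h, .i, .d, .h, .e, .d, .c, .d, .e, .h, .d, .i, .h, .b, .c, .b, .a, .b, .c, .d, .h, .e, .d, .e, .h]]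

theorem dfix1 : fixAllB (nw w1) [0] = true := by decide +kernel
theorem dm1 : Nat.ble (3510 : ℕ) (pc 15 (sat (nw w1) 8 (Nat.pow 2 (11589 : ℕ)))) = true := by decide +kernel
theorem dlt1 : Nat.beq (Nat.shiftRight (sat (nw w1) 8 (Nat.pow 2 (11589 : ℕ))) (Nat.pow 2 (15 : ℕ))) 0 = true := by
  decide +kernel

theorem dfix2 : fixAllB (nw v2) [11589, 0] = true := by decide +kernel
theorem dm2 : Nat.ble (693 : ℕ) (pc 15 (sat (nw v2) 4 (Nat.pow 2 (8003 : ℕ)))) = true := by decide +kernel
theorem dlt2 : Nat.beq (Nat.shiftRight (sat (nw v2) 4 (Nat.pow 2 (8003 : ℕ))) (Nat.pow 2 (15 : ℕ))) 0 = true := by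
  decide +kernel

theorem dfix3 : fixAllB (nw v3) [8003, 11589, 0] = true := by decide +kernel
theorem dm3 : Nat.ble (180 : ℕ) (pc 15 (sat (nw v3) 3 (Nat.pow 2 (8001 : ℕ)))) = true := by decide +kernel
theorem dlt3 : Nat.beq (Nat.shiftRight (sat (nw v3) 3 (Nat.pow 2 (8001 : ℕ))) (Nat.pow 2 (15 : ℕ))) 0 = true := by
  decide +kernel

theorem dfix4 : fixAllB (nw v4) [8001, 8003, 11589, 0] = true := by decide +kernel
theorem dm4 : Nat.ble (48 : ℕ) (pc 15 (sat (nw v4) 2 (Nat.pow 2 (7999 : ℕ)))) = true := by decide +kernel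
theorem dlt4 : Nat.beq (Nat.shiftRight (sat (nw v4) 2 (Nat.pow 2 (7999 : ℕ))) (Nat.pow 2 (15 : ℕ))) 0 = true := by
  decide +kernel

theorem dfix5 : fixAllB (nw v5) [7999, 8001, 8003, 11589, 0] = true := by decide +kernel
theorem dm5 : Nat.ble (3 : ℕ) (pc 15 (sat (nw v5) 2 (Nat.pow 2 (8005 : ℕ)))) = true := by decide +kernel
theorem dlt5 : Nat.beq (Nat.shiftRight (sat (nw v5) 2 (Nat.pow 2 (8005 : ℕ))) (Nat.pow 2 (15 : ℕ))) 0 = true := by
  decide +kernel

end Cfsg.Agent.KFacts.FiTTh.BasChk
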