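import Cfsg.Agent.Schreier.CocodeSmall
import Cfsg.Agent.SporadicA.OctadSpan
import Cfsg.Agent.S0352
import Cfsg.Agent.S0353
import Cfsg.Agent.S0358
import Cfsg.Agent.S0363
import Cfsg.Agent.S0366

/-!
# The even cocode, without the Feit-Thompson closure

Copies of the first parts of helper128's `Schreier/CocodeOrbit.lean` and `Schreier/CocodeSys.lean` (which import
`Schreier/Crit.lean`): transitivity of `M24` on tuples, `isCocode_of`, `exists_red`, `card_of_pres`.
-/

set_option autoImplicit false

namespace Cfsg.Agent.KFacts.FiTTh.BasCode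

open Cfsg Cfsg.Agent.J4Type.DuadStab Cfsg.Agent.J4Type.ClosingCocode Cfsg.Agent.Schreier.CocodeSmall

/-! ### Transitivity of `M24` -/

theorem card_pt : Nat.card GolayPt = 24 := by
  rw [Nat.card_eq_fintype_card]; decide +kernel

theorem exists_map_emb {n : ℕ} (hn : n ≤ 5) (x y : Fin n ↪ GolayPt) :
    ∃ m : M24, ∀ i, (m : Equiv.Perm GolayPt) (x i) = y i := by
  have h5 : MulAction.IsMultiplyPretransitive M24 GolayPt 5 := Cfsg.Agent.S0366.result
  have h : MulAction.IsMultiplyPretransitive M24 GolayPt n :=
    MulAction.isMultiplyPretransitive_of_le (n := 5) hn (by rw [card_pt]; norm_num)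
  obtain ⟨m, hm⟩ := h.exists_smul_eq x y
  exact ⟨m, fun i => DFunLike.congr_fun hm i⟩

theorem exists_map_pair {i j k l : GolayPt} (hij : i ≠ j) (hkl : k ≠ l) :
    ∃ m : M24, (m : Equiv.Perm GolayPt) i = k ∧ (m : Equiv.Perm GolayPt) j = l := by
  obtain ⟨m, hm⟩ := exists_map_emb (n := 2) (by norm_num)
    ⟨![i, j], by intro a b; fin_cases a <;> fin_cases b <;> simp [hij, hij.symm]⟩
    ⟨![k, l], by intro a b; fin_cases a <;> fin_cases b <;> simp [hkl, hkl.symm]⟩
  exact ⟨m, hm 0, hm 1⟩

theorem exists_map_card {S T : Finset GolayPt} (h5 : S.card ≤ 5) (h : S.card = T.card) :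
    ∃ m : M24, S.map (m : Equiv.Perm GolayPt).toEmbedding = T := by
  let eS : Fin S.card ≃ S := (Finset.equivFin S).symm
  let eT : Fin S.card ≃ T := (Finset.equivFinOfCardEq h.symm).symm
  obtain ⟨m, hm⟩ := exists_map_emb h5 (eS.toEmbedding.trans (Function.Embedding.subtype _))
    (eT.toEmbedding.trans (Function.Embedding.subtype _))
  refine ⟨m, ?_⟩
  apply Finset.eq_of_subset_of_card_le
  · intro p hp
    obtain ⟨q, hq, rfl⟩ := Finset.mem_map.1 hp
    have h1 := hm (eS.symm ⟨q, hq⟩)
    simp only [Function.Embedding.trans_apply, Equiv.toEmbedding_apply, Equiv.apply_symm_apply,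
      Function.Embedding.subtype_apply] at h1
    show (m : Equiv.Perm GolayPt) q ∈ T
    rw [h1]
    exact Subtype.coe_prop _
  · rw [Finset.card_map, h]

section comm

variable {A : Type*} [CommGroup A] {e : GolayPt → A}

/-- The product of the elements over the support of a word. -/
def fw (e : GolayPt → A) (w : GolayPt → ZMod 2) : A := ∏ p ∈ support₂ w, e p

theorem support₂_add (v w : GolayPt → ZMod 2) : support₂ (v + w) = symmDiff (support₂ v) (support₂ w) := by
  ext p
  rw [Finset.mem_symmDiff]
  simp only [support₂, Finset.mem_filter, Finset.mem_univ, true_and, Pi.add_apply]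
  generalize v p = a
  generalize w p = b
  revert a b
  decide

theorem fw_add (hsq : ∀ i, e i * e i = 1) (v w : GolayPt → ZMod 2) : fw e (v + w) = fw e v * fw e w := by
  unfold fw
  rw [support₂_add, prod_symmDiff hsq]

theorem fw_zero : fw e 0 = 1 := by
  unfold fw
  have : support₂ (0 : GolayPt → ZMod 2) = ∅ := by
    ext p; simp [support₂]
  rw [this, Finset.prod_empty]

theorem fw_code (hsq : ∀ i, e i * e i = 1) (ho : ∀ O ∈ octads, ∏ p ∈ O, e p = 1) {w : GolayPt → ZMod 2}
    (hw : w ∈ golayCode) : fw e w = 1 := by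
  rw [SporadicA.OctadSpan.golayCode_eq_span_octads] at hw
  induction hw using Submodule.span_induction with
  | mem x hx => exact ho _ hx
  | zero => exact fw_zero
  | add x y _ _ hx hy => rw [fw_add hsq, hx, hy, mul_one]
  | smul a x _ hx =>
    rcases (by decide : ∀ a : ZMod 2, a = 0 ∨ a = 1) a with rfl | rfl
    · rw [zero_smul]; exact fw_zero
    · rw [one_smul]; exact hx

/-- Reduction of even sets modulo the code. -/
theorem exists_red (S : Finset GolayPt) (hS : Even S.card) :
    ∃ T : Finset GolayPt, (T.card = 0 ∨ T.card = 2 ∨ T.card = 4) ∧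
      symmDiff S T ∈ supports (golayCode : Set (GolayPt → ZMod 2)) := by
  classical
  have key : ∀ n : ℕ, ∀ S : Finset GolayPt, S.card ≤ n → Even S.card →
      ∃ T : Finset GolayPt, (T.card = 0 ∨ T.card = 2 ∨ T.card = 4) ∧
        symmDiff S T ∈ supports (golayCode : Set (GolayPt → ZMod 2)) := by
    have h0 : (∅ : Finset GolayPt) ∈ supports (golayCode : Set (GolayPt → ZMod 2)) := by
      refine ⟨0, zero_mem golayCode, ?_⟩
      ext p; simp [support₂]
    intro n
    induction n with
    | zero =>
      intro S h1 _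
      exact ⟨S, Or.inl (by omega), by rw [symmDiff_self]; exact h0⟩
    | succ n ih =>
      intro S hn hev
      by_cases h5 : S.card < 5
      · refine ⟨S, ?_, by rw [symmDiff_self]; exact h0⟩
        rw [Nat.even_iff] at hev
        omega
      push Not at h5
      obtain ⟨T, hTS, hT5⟩ := Finset.exists_subset_card_eq h5
      obtain ⟨O, ⟨hO, hTO⟩, -⟩ := Cfsg.Agent.S0363.result.2 T hT5
      have hO8 : O.card = 8 := Cfsg.Agent.S0363.result.1 O hO
      have hOs : O ∈ supports (golayCode : Set (GolayPt → ZMod 2)) := hO.1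
      have hcard : (symmDiff S O).card + 2 * (S ∩ O).card = S.card + O.card := by
        have h6 := Finset.card_sdiff_add_card_inter S O
        have h7 := Finset.card_sdiff_add_card_inter O S
        rw [Finset.inter_comm O S] at h7
        have h8 : (symmDiff S O).card = (S \ O).card + (O \ S).card := by
          rw [symmDiff_def, Finset.sup_eq_union, Finset.card_union_of_disjoint
            disjoint_sdiff_sdiff]
        omega
      have hint : 5 ≤ (S ∩ O).card := by
        rw [← hT5]
        exact Finset.card_le_card (Finset.subset_inter hTS hTO)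
      obtain ⟨T', hT', hp⟩ := ih (symmDiff S O) (by omega) (by
        rw [Nat.even_iff] at hev ⊢
        rw [card_symmDiff_parity, Nat.add_mod, hev, hO8])
      refine ⟨T', hT', ?_⟩
      have h9 := SporadicA.GolayBase.symmDiff_mem_supports hp hOs
      have h10 : symmDiff (symmDiff (symmDiff S O) T') O = symmDiff S T' := by
        rw [symmDiff_comm S O, symmDiff_assoc O S T', symmDiff_comm O (symmDiff S T'), symmDiff_assoc,
          symmDiff_self, Finset.bot_eq_empty]
        exact symmDiff_bot _
      rwa [h10] at h9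
  exact key _ S le_rfl hS

/-- Criterion for `IsCocode`: the even products over the code are trivial, and no product over a 2-set or a 4-set
is trivial. -/
theorem isCocode_of (hsq : ∀ i, e i * e i = 1) (ho : ∀ O ∈ octads, ∏ p ∈ O, e p = 1)
    (h24 : ∀ T : Finset GolayPt, T.card = 2 ∨ T.card = 4 → ∏ p ∈ T, e p ≠ 1) : IsCocode e := by
  have hcode : ∀ S ∈ supports (golayCode : Set (GolayPt → ZMod 2)), ∏ p ∈ S, e p = 1 := by
    rintro _ ⟨w, hw, rfl⟩
    exact fw_code hsq ho hw
  refine ⟨hsq, fun S hS => ⟨fun h => ?_, hcode S⟩⟩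
  obtain ⟨T, hT, h1⟩ := exists_red S hS
  have h2 := hcode _ h1
  rw [prod_symmDiff hsq, h, one_mul] at h2
  rcases hT with h3 | h3 | h3
  · rw [Finset.card_eq_zero.1 h3] at h1
    have h4 : symmDiff S (∅ : Finset GolayPt) = S := symmDiff_bot S
    rwa [h4] at h1
  · exact absurd h2 (h24 T (Or.inl h3))
  · exact absurd h2 (h24 T (Or.inr h3))

/-- The order of the even cocode. -/
theorem card_of_pres (P : Pres e) : Nat.card A = 2 ^ 11 := by
  classical
  -- the sum map
  let s : (GolayPt → ZMod 2) →+ ZMod 2 :=
    { toFun := fun w => ∑ p, w p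
      map_zero' := by simp
      map_add' := fun v w => by simp [Finset.sum_add_distrib] }
  have hs : Function.Surjective s := by
    intro a
    refine ⟨Pi.single Option.none a, ?_⟩
    show ∑ p, (Pi.single Option.none a : GolayPt → ZMod 2) p = a
    rw [Finset.sum_pi_single']
    simp
  have hev : ∀ w : GolayPt → ZMod 2, s w = 0 ↔ Even (support₂ w).card := by
    intro w
    have h1 : s w = ((support₂ w).card : ZMod 2) := by
      show ∑ p, w p = _
      rw [Finset.card_eq_sum_ones, Nat.cast_sum]
      have h2 : ∑ p, w p = ∑ p ∈ support₂ w, w p := by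
        symm
        apply Finset.sum_subset (Finset.subset_univ _)
        intro p _ hp
        by_contra hne
        exact hp (by simp [support₂, hne])
      rw [h2]
      apply Finset.sum_congr rfl
      intro p hp
      have h3 : w p ≠ 0 := by simpa [support₂] using hp
      rcases (by decide : ∀ a : ZMod 2, a = 0 ∨ a = 1) (w p) with h | h
      · exact absurd h h3
      · rw [h]; simp
    rw [h1, ZMod.natCast_eq_zero_iff_even]
  have hV : Nat.card (GolayPt → ZMod 2) = 2 ^ 24 := by
    rw [Nat.card_pi]
    simp [Nat.card_eq_fintype_card, ZMod.card]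
  have hV0 : Nat.card s.ker = 2 ^ 23 := by
    have h1 := AddSubgroup.card_mul_index s.ker
    rw [AddSubgroup.index_ker, AddMonoidHom.range_eq_top.2 hs, AddSubgroup.card_top, Nat.card_zmod, hV] at h1
    have : (2 : ℕ) ^ 24 = 2 ^ 23 * 2 := by norm_num
    omega
  -- the map onto `A`
  let ψ : Multiplicative s.ker →* A :=
    { toFun := fun w => fw e ((Multiplicative.toAdd w : s.ker) : GolayPt → ZMod 2)
      map_one' := fw_zero
      map_mul' := fun v w => fw_add P.he.sq _ _ }
  have hψ : Function.Surjective ψ := by
    intro a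
    obtain ⟨S, hS, rfl⟩ := P.hgen a
    let w : GolayPt → ZMod 2 := fun p => if p ∈ S then 1 else 0
    have hw : support₂ w = S := by
      ext p; simp [support₂, w]
    have hw0 : w ∈ s.ker := by
      rw [AddMonoidHom.mem_ker, hev, hw]; exact hS
    refine ⟨Multiplicative.ofAdd ⟨w, hw0⟩, ?_⟩
    show fw e w = _
    rw [fw, hw]
  have hker : Nat.card ψ.ker = 2 ^ 12 := by
    have h1 : Nat.card golayCode = 4096 := Cfsg.Agent.S0358.card_golayCode
    have h2 : Nat.card ψ.ker = Nat.card golayCode := by
      symm
      have hcs : ∀ w : golayCode, support₂ (w : GolayPt → ZMod 2) ∈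
          supports (golayCode : Set (GolayPt → ZMod 2)) := fun w => ⟨w, w.2, rfl⟩
      have hce : ∀ w : golayCode, Even (support₂ (w : GolayPt → ZMod 2)).card := by
        intro w
        have := SporadicA.GolayBase.card_of_mem_supports (hcs w)
        rw [Nat.even_iff]
        omega
      refine Nat.card_congr (Equiv.ofBijective (fun w : golayCode =>
        (⟨Multiplicative.ofAdd ⟨(w : GolayPt → ZMod 2), (hev _).2 (hce w)⟩, ?_⟩ : ψ.ker)) ⟨?_, ?_⟩)
      · rw [MonoidHom.mem_ker]
        show fw e (w : GolayPt → ZMod 2) = 1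
        rw [fw, P.he.ker _ (hce w)]
        exact hcs w
      · intro v w h
        apply Subtype.ext
        exact congrArg (fun x : ψ.ker => ((Multiplicative.toAdd (x : Multiplicative s.ker) : s.ker) :
          GolayPt → ZMod 2)) h
      · rintro ⟨w, hw⟩
        rw [MonoidHom.mem_ker] at hw
        have h3 : fw e ((Multiplicative.toAdd w : s.ker) : GolayPt → ZMod 2) = 1 := hw
        have h4 : Even (support₂ ((Multiplicative.toAdd w : s.ker) : GolayPt → ZMod 2)).card :=
          (hev _).1 (Multiplicative.toAdd w : s.ker).2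
        rw [fw, P.he.ker _ h4] at h3
        obtain ⟨v, hv, hvw⟩ := h3
        have h5 : v = ((Multiplicative.toAdd w : s.ker) : GolayPt → ZMod 2) := by
          funext p
          have h6 : (p ∈ support₂ v) ↔ (p ∈ support₂ ((Multiplicative.toAdd w : s.ker) : GolayPt → ZMod 2)) := by
            rw [hvw]
          simp only [support₂, Finset.mem_filter, Finset.mem_univ, true_and] at h6
          generalize v p = a at h6 ⊢
          generalize ((Multiplicative.toAdd w : s.ker) : GolayPt → ZMod 2) p = b at h6 ⊢
          revert a b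
          decide
        refine ⟨⟨v, hv⟩, ?_⟩
        apply Subtype.ext
        show Multiplicative.ofAdd _ = w
        apply Multiplicative.toAdd.injective
        apply Subtype.ext
        exact h5
    rw [h2, h1]
    norm_num
  have h1 := Subgroup.card_mul_index ψ.ker
  rw [Subgroup.index_ker, MonoidHom.range_eq_top.2 hψ, Subgroup.card_top, hker] at h1
  have h2 : Nat.card (Multiplicative s.ker) = 2 ^ 23 := hV0
  rw [h2, show (2 : ℕ) ^ 23 = 2 ^ 12 * 2 ^ 11 by norm_num] at h1
  exact Nat.eq_of_mul_eq_mul_left (by positivity) h1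

end comm

end Cfsg.Agent.KFacts.FiTTh.BasCode
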