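import Cfsg.Agent.KFacts.FiTTh.BasCode
import Cfsg.Agent.S0376
import Cfsg.Prelude.Def_Spor_Mathieu

/-!
# 23 commuting involutions permuted as `M23` (helper286)

`Base e`: `e none = 1`, the `e (some i)` are 23 commuting involutions permuted by `K` as `M23`, the product over an
octad through `none` is trivial. Then `A e = ⟨e p⟩` has order `2^11`, every element is a unique product of at most
three of the `e (some i)`, `N_K(A)` induces `M23` with kernel `A`.
-/

set_option autoImplicit false

namespace Cfsg.Agent.KFacts.FiTTh.BasDef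

open scoped Pointwise
open Cfsg Subgroup Cfsg.Agent.J4Type.DuadStab Cfsg.Agent.Schreier.CocodeSmall
  Cfsg.Agent.KFacts.FiTTh.BasCode

variable {K : Type*} [Group K] {e : GolayPt → K}

/-- The subgroup generated by the `e p`. -/
def A (e : GolayPt → K) : Subgroup K := closure (Set.range e)

/-- The product of the `e p`, `p ∈ T` (all `e p` commute). -/
noncomputable def pr (e : GolayPt → K) (T : Finset GolayPt) : K := (T.toList.map e).prod

/-- The elements `e p`. -/
structure Pre (e : GolayPt → K) : Prop where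
  zero : e none = 1
  sq : ∀ p, e p * e p = 1
  comm : ∀ p q, e p * e q = e q * e p
  inj : Function.Injective e
  oct : ∃ l : List GolayPt, l.Nodup ∧ none ∈ l ∧ l.toFinset ∈ octads ∧ (l.map e).prod = 1
  full : ∀ m ∈ Spor.M23, ∃ n : K, ∀ p, n * e p * n⁻¹ = e (m p)

/-- ... and they are the conjugates of each other in `A`, and `A` is its own centraliser. -/
structure Base (e : GolayPt → K) : Prop extends Pre e where
  nrm : ∀ (n : K) (p : GolayPt), n * e p * n⁻¹ ∈ A e → ∃ q, n * e p * n⁻¹ = e q
  cen : ∀ g : K, (∀ p, g * e p = e p * g) → g ∈ A e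

theorem mem_A (e : GolayPt → K) (p : GolayPt) : e p ∈ A e := subset_closure ⟨p, rfl⟩

/-- The elements `e p` in `A`. -/
def eA (e : GolayPt → K) (p : GolayPt) : A e := ⟨e p, mem_A e p⟩

theorem mem_M23 {m : Equiv.Perm GolayPt} : m ∈ Spor.M23 ↔ m ∈ M24 ∧ m none = none := by
  unfold Spor.M23
  rw [mem_inf, MulAction.mem_stabilizer_iff]
  rfl

/-! ### The product -/

theorem pr_empty : pr e ∅ = 1 := by simp [pr]

theorem pr_singleton (p : GolayPt) : pr e {p} = e p := by simp [pr]

namespace Pre

variable (B : Pre e)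

include B

theorem comm_A : ∀ a b : A e, a * b = b * a := by
  have h : IsMulCommutative (A e) := isMulCommutative_closure (by
    rintro _ ⟨p, rfl⟩ _ ⟨q, rfl⟩
    exact B.comm p q)
  exact h.is_comm.comm

theorem comm' {a b : K} (ha : a ∈ A e) (hb : b ∈ A e) : a * b = b * a :=
  congrArg Subtype.val (B.comm_A ⟨a, ha⟩ ⟨b, hb⟩)

/-- `A` as a commutative group. -/
@[reducible] def cg : CommGroup (A e) := { (inferInstance : Group (A e)) with mul_comm := B.comm_A }

theorem pr_eq (T : Finset GolayPt) : pr e T = ((@Finset.prod _ (A e) B.cg.toCommMonoid T (eA e) : A e) : K) := by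
  let _ : CommGroup (A e) := B.cg
  have h1 : (∏ p ∈ T, eA e p) = (T.toList.map (eA e)).prod := (Finset.prod_map_toList T (eA e)).symm
  show pr e T = (A e).subtype (∏ p ∈ T, eA e p)
  rw [h1, map_list_prod, List.map_map]
  rfl

theorem pr_mem (T : Finset GolayPt) : pr e T ∈ A e := by
  rw [B.pr_eq]; exact Subtype.coe_prop _

theorem eA_sq (p : GolayPt) : eA e p * eA e p = 1 := Subtype.ext (B.sq p)

theorem pr_symmDiff (S T : Finset GolayPt) : pr e (symmDiff S T) = pr e S * pr e T := by
  let _ : CommGroup (A e) := B.cg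
  rw [B.pr_eq, B.pr_eq S, B.pr_eq T, ← Subgroup.coe_mul]
  exact congrArg Subtype.val (prod_symmDiff B.eA_sq S T)

theorem pr_insert {p : GolayPt} {T : Finset GolayPt} (h : p ∉ T) : pr e (insert p T) = e p * pr e T := by
  let _ : CommGroup (A e) := B.cg
  rw [B.pr_eq, B.pr_eq T]
  exact congrArg Subtype.val (Finset.prod_insert h)

theorem pr_pair {p q : GolayPt} (h : p ≠ q) : pr e {p, q} = e p * e q := by
  rw [B.pr_insert (by simpa using h), pr_singleton]

theorem pr_sq (T : Finset GolayPt) : pr e T * pr e T = 1 := by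
  rw [← B.pr_symmDiff, symmDiff_self]
  exact pr_empty

theorem sq_A {a : K} (ha : a ∈ A e) : a * a = 1 := by
  have hc := @Pre.comm' _ _ _ B
  unfold A at ha
  induction ha using closure_induction with
  | mem x hx => obtain ⟨p, rfl⟩ := hx; exact B.sq p
  | one => exact one_mul 1
  | mul x y hx' hy' hx hy =>
    have h1 : x * y = y * x := hc hx' hy'
    calc x * y * (x * y) = x * (y * x) * y := by group
      _ = x * x * (y * y) := by rw [← h1]; group
      _ = 1 := by rw [hx, hy, one_mul]
  | inv x _ hx => rw [← mul_inv_rev, hx, inv_one]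

theorem pr_erase_none (T : Finset GolayPt) : pr e (T.erase none) = pr e T := by
  by_cases h : none ∈ T
  · conv_rhs => rw [← Finset.insert_erase h]
    rw [B.pr_insert (Finset.notMem_erase _ _), B.zero, one_mul]
  · rw [Finset.erase_eq_of_notMem h]

theorem conj_pr {n : K} {m : Equiv.Perm GolayPt} (h : ∀ p, n * e p * n⁻¹ = e (m p)) (T : Finset GolayPt) :
    n * pr e T * n⁻¹ = pr e (T.map m.toEmbedding) := by
  induction T using Finset.induction_on with
  | empty => rw [Finset.map_empty, pr_empty]; group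
  | insert p T hp ih =>
    rw [B.pr_insert hp, Finset.map_insert, Equiv.coe_toEmbedding, B.pr_insert (by
      intro h1
      obtain ⟨q, hq, hqp⟩ := Finset.mem_map.1 h1
      exact hp (m.injective hqp ▸ hq)), ← ih, ← h]
    group

/-! ### The octads -/

theorem pr_oct_none {O : Finset GolayPt} (hO : O ∈ octads) (hn : none ∈ O) : pr e O = 1 := by
  classical
  obtain ⟨l, hl1, hln, hl2, hl3⟩ := B.oct
  have h0 : pr e l.toFinset = 1 := by
    rw [← hl3]
    have h1 : (l.toFinset.toList).Perm l := List.toFinset_toList hl1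
    let _ : CommGroup (A e) := B.cg
    rw [B.pr_eq, ← Finset.prod_map_toList]
    show (A e).subtype ((l.toFinset.toList.map (eA e)).prod) = _
    rw [(h1.map (eA e)).prod_eq, map_list_prod, List.map_map]
    rfl
  -- an element of `M23` carrying the octad to `O`
  obtain ⟨m, hm, hmn⟩ : ∃ m : M24, l.toFinset.map (m : Equiv.Perm GolayPt).toEmbedding = O ∧
      (m : Equiv.Perm GolayPt) none = none := by
    obtain ⟨S, hS, hS4⟩ := Finset.exists_subset_card_eq (s := l.toFinset.erase none) (n := 4) (by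
      rw [Finset.card_erase_of_mem (List.mem_toFinset.2 hln), hl2.2]; norm_num)
    obtain ⟨T, hT, hT4⟩ := Finset.exists_subset_card_eq (s := O.erase none) (n := 4) (by
      rw [Finset.card_erase_of_mem hn, hO.2]; norm_num)
    let eS : Fin 4 ≃ S := (Finset.equivFinOfCardEq hS4).symm
    let eT : Fin 4 ≃ T := (Finset.equivFinOfCardEq hT4).symm
    have hSn : ∀ i, ((eS i : S) : GolayPt) ≠ none := fun i h => by
      have := hS (eS i).2
      rw [h] at this
      exact Finset.notMem_erase _ _ this
    have hTn : ∀ i, ((eT i : T) : GolayPt) ≠ none := fun i h => by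
      have := hT (eT i).2
      rw [h] at this
      exact Finset.notMem_erase _ _ this
    have hemb : ∀ {U : Finset GolayPt} (f : Fin 4 ≃ U), (∀ i, ((f i : U) : GolayPt) ≠ none) →
        Function.Injective (Fin.cons none (fun i => ((f i : U) : GolayPt)) : Fin 5 → GolayPt) := by
      intro U f hf
      rw [Fin.cons_injective_iff]
      refine ⟨?_, fun i j h => f.injective (Subtype.ext h)⟩
      rintro ⟨i, hi⟩
      exact hf i hi
    obtain ⟨m, hm⟩ := exists_map_emb (n := 5) (by norm_num) ⟨_, hemb eS hSn⟩ ⟨_, hemb eT hTn⟩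
    have hm0 : (m : Equiv.Perm GolayPt) none = none := hm 0
    refine ⟨m, ?_, hm0⟩
    have hO' : l.toFinset.map (m : Equiv.Perm GolayPt).toEmbedding ∈ octads := by
      rw [← SporadicA.GolayPerm.smul_finset_eq_map]
      exact (SporadicA.GolayPerm.smul_mem_octads m.2).2 hl2
    -- both contain `insert none T`
    obtain ⟨X, -, hX⟩ := Cfsg.Agent.S0363.result.2 (insert none T) (by
      rw [Finset.card_insert_of_notMem (fun h => by
        have := hT h
        exact Finset.notMem_erase _ _ this), hT4])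
    have h1 : O = X := hX O ⟨hO, by
      intro p hp
      rcases Finset.mem_insert.1 hp with rfl | hp
      · exact hn
      · exact Finset.mem_of_mem_erase (hT hp)⟩
    have h2 : l.toFinset.map (m : Equiv.Perm GolayPt).toEmbedding = X := hX _ ⟨hO', by
      intro p hp
      rw [Finset.mem_map]
      rcases Finset.mem_insert.1 hp with rfl | hp
      · exact ⟨none, List.mem_toFinset.2 hln, hm0⟩
      · refine ⟨eS (eT.symm ⟨p, hp⟩), Finset.mem_of_mem_erase (hS (Subtype.coe_prop _)), ?_⟩
        have h3 := hm (Fin.succ (eT.symm ⟨p, hp⟩))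
        have h4 : (m : Equiv.Perm GolayPt) ((eS (eT.symm ⟨p, hp⟩) : S) : GolayPt) =
            ((eT (eT.symm ⟨p, hp⟩) : T) : GolayPt) := h3
        rw [Equiv.apply_symm_apply] at h4
        exact h4⟩
    rw [h1, h2]
  obtain ⟨n, hn⟩ := B.full m (mem_M23.2 ⟨m.2, hmn⟩)
  have h5 := B.conj_pr hn l.toFinset
  rw [h0, hm] at h5
  rw [← h5]
  group

theorem pr_oct {O : Finset GolayPt} (hO : O ∈ octads) : pr e O = 1 := by
  classical
  by_cases hn : none ∈ O
  · exact B.pr_oct_none hO hn
  obtain ⟨T, hT, hT4⟩ := Finset.exists_subset_card_eq (s := O) (n := 4) (by rw [hO.2]; norm_num)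
  obtain ⟨X, ⟨hX, hTX⟩, -⟩ := Cfsg.Agent.S0363.result.2 (insert none T) (by
    rw [Finset.card_insert_of_notMem (fun h => hn (hT h)), hT4])
  have hXn : none ∈ X := hTX (Finset.mem_insert_self _ _)
  have hne : O ≠ X := fun h => hn (h ▸ hXn)
  have hα : Fintype.card Cfsg.GolayPt = 24 := by simp
  have h4 : (O ∩ X).card = 4 := by
    have h1 : 4 ≤ (O ∩ X).card := by
      rw [← hT4]
      exact Finset.card_le_card (Finset.subset_inter hT (fun p hp => hTX (Finset.mem_insert_of_mem hp)))
    rcases Cfsg.Agent.S0352.result hα Cfsg.Agent.S0363.result hO hX hne with h | h | h <;> omega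
  have hD : symmDiff O X ∈ octads := Cfsg.Agent.S0353.result hα Cfsg.Agent.S0363.result hO hX h4
  have hDn : none ∈ symmDiff O X := by
    rw [Finset.mem_symmDiff]; exact Or.inr ⟨hXn, hn⟩
  have h1 := B.pr_oct_none hD hDn
  rw [B.pr_symmDiff, B.pr_oct_none hX hXn, mul_one] at h1
  exact h1

theorem exists_M23 {a b c d d' : GolayPt} (hab : a ≠ b) (hac : a ≠ c) (hbc : b ≠ c) (had : a ≠ d) (hbd : b ≠ d)
    (hcd : c ≠ d) (had' : a ≠ d') (hbd' : b ≠ d') (hcd' : c ≠ d') (ha : a ≠ none) (hb : b ≠ none) (hc : c ≠ none)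
    (hd : d ≠ none) (hd' : d' ≠ none) :
    ∃ n : K, n * e a * n⁻¹ = e a ∧ n * e b * n⁻¹ = e b ∧ n * e c * n⁻¹ = e c ∧ n * e d * n⁻¹ = e d' := by
  obtain ⟨m, hm⟩ := exists_map_emb (n := 5) (by norm_num)
    ⟨![none, a, b, c, d], by
      intro x y
      fin_cases x <;> fin_cases y <;>
        simp [hab, hac, hbc, had, hbd, hcd, hab.symm, hac.symm, hbc.symm, had.symm, hbd.symm, hcd.symm,
          ha, hb, hc, hd, ha.symm, hb.symm, hc.symm, hd.symm]⟩
    ⟨![none, a, b, c, d'], by
      intro x y
      fin_cases x <;> fin_cases y <;>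
        simp [hab, hac, hbc, had', hbd', hcd', hab.symm, hac.symm, hbc.symm, had'.symm, hbd'.symm, hcd'.symm,
          ha, hb, hc, hd', ha.symm, hb.symm, hc.symm, hd'.symm]⟩
  have m0 : (m : Equiv.Perm GolayPt) none = none := hm 0
  have m1 : (m : Equiv.Perm GolayPt) a = a := hm 1
  have m2 : (m : Equiv.Perm GolayPt) b = b := hm 2
  have m3 : (m : Equiv.Perm GolayPt) c = c := hm 3
  have m4 : (m : Equiv.Perm GolayPt) d = d' := hm 4
  obtain ⟨n, hn⟩ := B.full m (mem_M23.2 ⟨m.2, m0⟩)
  exact ⟨n, by rw [hn, m1], by rw [hn, m2], by rw [hn, m3], by rw [hn, m4]⟩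

end Pre

end Cfsg.Agent.KFacts.FiTTh.BasDef
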