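import Cfsg.Agent.KFacts.FiTTh.Masks
import Cfsg.Agent.Fischer.Fi23Cover
import Cfsg.Agent.Fischer.Fi23Simple

/-!
# K-facts for `Fi₂₃`: the centralizers of `z0`, `z0 a` and `z0 a c`

The fields `qs cen thirteen gen c2 c3 der2 der3` of `OddHalf.D8.Fi23.Sheet` with `a 0 = z0`, `a 1 = gen .a`,
`a 2 = gen .c`.
-/

set_option autoImplicit false
set_option maxRecDepth 100000
set_option linter.constructorNameAsVariable false
set_option linter.style.haveILetI false

namespace Cfsg.Agent.KFacts.FiTTh.Cent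

open Subgroup
open Cfsg.Agent.Lib.PermNet Cfsg.Agent.Lib.PermNetFix Cfsg.Agent.Fischer.Fi23Nets
open Cfsg.Agent.Fischer.Fi23Z Cfsg.Agent.Fischer.Fi23Hom Cfsg.Agent.Fischer.Fi23Rel
open Cfsg.Agent.Fischer Cfsg.Agent.Fischer.Fi23Class Cfsg.Agent.Fischer.Fi23Simple
open Cfsg.Agent.KFacts.FiTTh.Masks
open Cfsg.Agent.Fischer.Fi23OrbData
open Cfsg.Spor Cfsg.Spor.Fi23
open Cfsg.Agent.Fischer.Fi23Final (gen_sq)

/-! ### Basic facts -/

theorem card_le : Nat.card Fi23 ≤ 4089470473293004800 := card_Fi23.le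

theorem zz : z0 * z0 = 1 := z0_sq card_le

theorem act : Fi23Orb.H.index = 31671 ∧ (∀ g, rho g 0 = 0 ↔ g ∈ Fi23Orb.H) ∧ (∀ g, rho g 0 < 31671) ∧
    ∃ q₁ q₂ : Fi23 ⧸ Fi23Orb.H, (MulAction.orbit Fi23Orb.H q₁).ncard = 3510 ∧
      (MulAction.orbit Fi23Orb.H q₂).ncard = 28160 :=
  Fi23Orb.index_and_suborbits (by rw [index_H]) (by rw [index_H]; norm_num)

/-- `K` is the centraliser of `z0`. -/
theorem mem_K_iff (g : Fi23) : g ∈ K ↔ g * z0 = z0 * g := by
  constructor
  · exact comm_z0 card_le g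
  · intro h
    obtain ⟨R, hR, hR0⟩ := exists_rank3 card_le
    have h1 : g • R.x0 = R.x0 := by
      rw [R.smul_eq_iff_comm, hR]; exact h
    rw [hR0] at h1
    have h2 : ((g * 1 : Fi23) : Fi23 ⧸ K) = ((1 : Fi23) : Fi23 ⧸ K) := h1
    rw [mul_one] at h2
    have h3 := QuotientGroup.eq.1 h2.symm
    simpa using h3

theorem K_eq : (K : Subgroup Fi23) = centralizer ({z0} : Set Fi23) := by
  ext g
  rw [mem_K_iff, mem_centralizer_singleton_iff]

theorem rho0_iff (g : Fi23) : rho g 0 = 0 ↔ g * z0 = z0 * g := by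
  rw [act.2.1, H_eq_index, mem_K_iff]

/-- `x` fixes the point of `h z0 h⁻¹` iff it commutes with this transposition. -/
theorem fixes_iff (x h : Fi23) : rho x (rho h 0) = rho h 0 ↔
    x * (h * z0 * h⁻¹) = (h * z0 * h⁻¹) * x := by
  have e1 : rho x (rho h 0) = rho h 0 ↔ rho (h⁻¹ * x * h) 0 = 0 := by
    rw [map_mul, map_mul, Equiv.Perm.mul_apply, Equiv.Perm.mul_apply, map_inv, Equiv.Perm.inv_eq_iff_eq]
  rw [e1, rho0_iff]
  constructor
  · intro e
    calc x * (h * z0 * h⁻¹) = h * ((h⁻¹ * x * h) * z0) * h⁻¹ := by group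
      _ = h * (z0 * (h⁻¹ * x * h)) * h⁻¹ := by rw [e]
      _ = (h * z0 * h⁻¹) * x := by group
  · intro e
    calc (h⁻¹ * x * h) * z0 = h⁻¹ * (x * (h * z0 * h⁻¹)) * h := by group
      _ = h⁻¹ * ((h * z0 * h⁻¹) * x) * h := by rw [e]
      _ = z0 * (h⁻¹ * x * h) := by group

theorem eq_of_rho_eq {g h : Fi23} (e : rho g 0 = rho h 0) : g * z0 * g⁻¹ = h * z0 * h⁻¹ := by
  have h1 : rho (h⁻¹ * g) 0 = 0 := by
    rw [map_mul, Equiv.Perm.mul_apply, map_inv, Equiv.Perm.inv_eq_iff_eq, e]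
  rw [rho0_iff] at h1
  calc g * z0 * g⁻¹ = h * ((h⁻¹ * g) * z0) * g⁻¹ := by group
    _ = h * (z0 * (h⁻¹ * g)) * g⁻¹ := by rw [h1]
    _ = h * z0 * h⁻¹ := by group

theorem lt_pow {p : ℕ} (h : p < 31671) : p < 2 ^ 15 := lt_trans h (by norm_num)

theorem gen_comm' {x y : Gen} (h : coxLabel edges x y = 2) : gen x * gen y = gen y * gen x :=
  gen_comm x y h

theorem z_gen (x : Gen) (hx : x ≠ .j) : gen x * z0 = z0 * gen x :=
  comm_z0 card_le _ (gen_mem_K x hx)

theorem ne_gen_a : (gen .a : Fi23) ≠ z0 := by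
  intro h
  apply z0_ncomm
  rw [← h]
  exact gen_comm .a .j (by decide)

theorem ne_gen_c : (gen .c : Fi23) ≠ z0 := by
  intro h
  apply z0_ncomm
  rw [← h]
  exact gen_comm .c .j (by decide)

/-! ### The fields `qs`, `cen`, `thirteen`, `gen` -/

theorem card_K : Nat.card K = 2 * 64561751654400 := by
  have h := Subgroup.card_mul_index K
  rw [card_Fi23, Cfsg.Agent.SporRec.Fi23Index.index_H] at h
  omega

theorem zK_center : Fi23Cover.zK ∈ center K := by
  rw [mem_center_iff]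
  intro g
  exact Subtype.ext (comm_z0 card_le _ g.2)

theorem thirteen : 13 ∣ Nat.card (centralizer ({z0} : Set Fi23)) := by
  rw [← K_eq, card_K]
  norm_num

theorem gen_top : centralizer ({z0} : Set Fi23) ⊔ centralizer ({gen .a} : Set Fi23) = ⊤ := by
  rw [eq_top_iff, ← Fi23Final.gens_top, closure_le]
  rintro _ ⟨x, rfl⟩
  by_cases hx : x = .j
  · subst hx
    apply mem_sup_right
    rw [mem_centralizer_singleton_iff]
    exact (gen_comm .a .j (by decide)).symm
  · apply mem_sup_left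
    rw [mem_centralizer_singleton_iff]
    exact z_gen x hx

/-! ### The centralizers of `z0 a` and `z0 a c` -/

/-- elements commuting with a product `W` of commuting transpositions `d ∈ Ds` move the points of the `d`
inside `P` -/
theorem stable {W : Fi23} {Ds Xs : Set Fi23} {P : Set ℕ}
    (hW : ∀ p < 31671, rho W p = p → ∀ d ∈ Ds, rho d p = p)
    (hP : ∀ p < 31671, rho W p = p → (∀ x ∈ Xs, rho x p = p) → p ∈ P)
    (hX : ∀ x ∈ Xs, IsConj z0 x) (hWX : ∀ x ∈ Xs, W * x = x * W) (hWD : ∀ d ∈ Ds, W * d = d * W)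
    {y h : Fi23} (hy : y * W = W * y) (hd : h * z0 * h⁻¹ ∈ Ds) : rho y (rho h 0) ∈ P := by
  set d := h * z0 * h⁻¹ with hdd
  have e0 : rho y (rho h 0) = rho (y * h) 0 := by rw [map_mul, Equiv.Perm.mul_apply]
  have e1 : y * h * z0 * (y * h)⁻¹ = y * d * y⁻¹ := by rw [hdd]; group
  have hy' : y⁻¹ * W = W * y⁻¹ := by
    calc y⁻¹ * W = y⁻¹ * (W * y) * y⁻¹ := by group
      _ = y⁻¹ * (y * W) * y⁻¹ := by rw [hy]
      _ = W * y⁻¹ := by group
  rw [e0]
  apply hP _ (act.2.2.1 _)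
  · rw [fixes_iff, e1]
    calc W * (y * d * y⁻¹) = (W * y) * d * y⁻¹ := by group
      _ = y * (W * d) * y⁻¹ := by rw [← hy]; group
      _ = y * (d * W) * y⁻¹ := by rw [hWD _ hd]
      _ = y * d * (W * y⁻¹) := by group
      _ = y * d * y⁻¹ * W := by rw [← hy']; group
  · intro x hx
    obtain ⟨u, hu⟩ := isConj_iff.1 (hX x hx)
    have h1 : rho W (rho (y⁻¹ * u) 0) = rho (y⁻¹ * u) 0 := by
      rw [fixes_iff]
      have e2 : y⁻¹ * u * z0 * (y⁻¹ * u)⁻¹ = y⁻¹ * x * y := by rw [← hu]; group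
      rw [e2]
      calc W * (y⁻¹ * x * y) = (W * y⁻¹) * x * y := by group
        _ = y⁻¹ * (W * x) * y := by rw [← hy']; group
        _ = y⁻¹ * (x * W) * y := by rw [hWX x hx]
        _ = y⁻¹ * x * (W * y) := by group
        _ = y⁻¹ * x * y * W := by rw [← hy]; group
    have h2 := hW _ (act.2.2.1 _) h1 d hd
    rw [fixes_iff] at h2
    rw [fixes_iff, e1]
    have e2 : y⁻¹ * u * z0 * (y⁻¹ * u)⁻¹ = y⁻¹ * x * y := by rw [← hu]; group
    rw [e2] at h2
    calc x * (y * d * y⁻¹) = y * ((y⁻¹ * x * y) * d) * y⁻¹ := by group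
      _ = y * (d * (y⁻¹ * x * y)) * y⁻¹ := by rw [h2]
      _ = y * d * y⁻¹ * x := by group

/-- an element of order 13 commuting with `W` fixes the points -/
theorem fixed_of_order {W : Fi23} {Ds Xs : Set Fi23} {P : Finset ℕ} (hcard : P.card ≤ 3)
    (hW : ∀ p < 31671, rho W p = p → ∀ d ∈ Ds, rho d p = p)
    (hP : ∀ p < 31671, rho W p = p → (∀ x ∈ Xs, rho x p = p) → p ∈ P)
    (hX : ∀ x ∈ Xs, IsConj z0 x) (hWX : ∀ x ∈ Xs, W * x = x * W) (hWD : ∀ d ∈ Ds, W * d = d * W)
    {y h : Fi23} (hy : y * W = W * y) (hd : h * z0 * h⁻¹ ∈ Ds) (ho : y ^ 13 = 1) :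
    rho y (rho h 0) = rho h 0 := by
  have hmem : ∀ k : ℕ, rho (y ^ k) (rho h 0) ∈ P := by
    intro k
    have hk : y ^ k * W = W * y ^ k := (Commute.pow_left (show Commute y W from hy) k).eq
    exact stable (P := (P : Set ℕ)) hW hP hX hWX hWD hk hd
  have hex : ∃ i j : Fin 4, i < j ∧ rho (y ^ (i : ℕ)) (rho h 0) = rho (y ^ (j : ℕ)) (rho h 0) := by
    by_contra hcon
    push Not at hcon
    have hinj : Function.Injective (fun i : Fin 4 => (⟨rho (y ^ (i : ℕ)) (rho h 0), hmem i⟩ : P)) := by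
      intro i j hij
      have hij' := congrArg Subtype.val hij
      rcases lt_trichotomy i j with h1 | h1 | h1
      · exact absurd hij' (hcon i j h1)
      · exact h1
      · exact absurd hij'.symm (hcon j i h1)
    have := Fintype.card_le_of_injective _ hinj
    simp only [Fintype.card_fin, Fintype.card_coe] at this
    omega
  obtain ⟨i, j, hij, he⟩ := hex
  have h12 : rho (y ^ 12) (rho h 0) = rho h 0 := by
    obtain ⟨m, hm1, hm2, hm⟩ : ∃ m : ℕ, 1 ≤ m ∧ m ≤ 3 ∧ rho (y ^ m) (rho h 0) = rho h 0 := by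
      refine ⟨(j : ℕ) - i, by omega, by omega, ?_⟩
      have e : y ^ (j : ℕ) = y ^ (i : ℕ) * y ^ ((j : ℕ) - i) := by
        rw [← pow_add]; congr 1; omega
      rw [e, map_mul, Equiv.Perm.mul_apply] at he
      exact ((rho (y ^ (i : ℕ))).injective he).symm
    have hpow : ∀ k : ℕ, rho (y ^ (m * k)) (rho h 0) = rho h 0 := by
      intro k
      induction k with
      | zero => simp
      | succ k ih => rw [Nat.mul_succ, pow_add, map_mul, Equiv.Perm.mul_apply, hm, ih]
    have hm3 : m = 1 ∨ m = 2 ∨ m = 3 := by omega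
    rcases hm3 with rfl | rfl | rfl
    · exact hpow 12
    · exact hpow 6
    · exact hpow 4
  have h13 : rho (y ^ 13) (rho h 0) = rho h 0 := by rw [ho]; simp
  rw [show (13 : ℕ) = 1 + 12 from rfl, pow_add, pow_one, map_mul, Equiv.Perm.mul_apply, h12] at h13
  exact h13

theorem wz : WOk (2 ^ 15) [nz] := WOk.cons ok_z (WOk.nil _)

theorem rho_gen' (x : Gen) : rho (gen x) = wperm [net x] := by
  rw [rho_gen, wperm_cons, wperm_nil, mul_one]

theorem rho_z0' : rho z0 = wperm [nz] := by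
  rw [rho_z0, wperm_cons, wperm_nil, mul_one]

/-- `z0 a` -/
noncomputable def W2 : Fi23 := z0 * gen .a

/-- `z0 a c` -/
noncomputable def W3 : Fi23 := z0 * gen .a * gen .c

theorem rho_W2 : rho W2 = wperm [nz, na] := by
  unfold W2
  rw [map_mul, rho_z0, rho_gen, wperm_cons, wperm_cons, wperm_nil, mul_one]
  rfl

theorem rho_W3 : rho W3 = wperm [nz, na, nc] := by
  unfold W3
  rw [map_mul, map_mul, rho_z0, rho_gen, rho_gen, wperm_cons, wperm_cons, wperm_cons, wperm_nil, mul_one,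
    mul_assoc]
  rfl

theorem ok2 : WOk (2 ^ 15) [nz, na] := WOk.cons ok_z (WOk.cons ok_a (WOk.nil _))

theorem ok3 : WOk (2 ^ 15) [nz, na, nc] := WOk.cons ok_z (WOk.cons ok_a (WOk.cons ok_c (WOk.nil _)))

/-- the generators commuting with `a` -/
def Xs2 : Set Fi23 := {x | ∃ g : Gen, (g = .c ∨ g = .d ∨ g = .e ∨ g = .f ∨ g = .g ∨ g = .h ∨ g = .i) ∧ gen g = x}

/-- the generators commuting with `a` and `c` -/
def Xs3 : Set Fi23 := {x | ∃ g : Gen, (g = .e ∨ g = .f ∨ g = .g ∨ g = .h ∨ g = .i) ∧ gen g = x}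

def Ds2 : Set Fi23 := {z0, gen .a}

def Ds3 : Set Fi23 := {z0, gen .a, gen .c}

theorem hW2 : ∀ p < 31671, rho W2 p = p → ∀ d ∈ Ds2, rho d p = p := by
  intro p hp h d hd
  rw [rho_W2] at h
  rcases hd with rfl | rfl
  · rw [rho_z0']
    exact fixed_of_subB wz ok2 sub_z2 (lt_pow hp) h
  · rw [rho_gen']
    exact fixed_of_subB (wok [.a]) ok2 sub_a2 (lt_pow hp) h

theorem hW3 : ∀ p < 31671, rho W3 p = p → ∀ d ∈ Ds3, rho d p = p := by
  intro p hp h d hd
  rw [rho_W3] at h
  rcases hd with rfl | rfl | rfl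
  · rw [rho_z0']
    exact fixed_of_subB wz ok3 sub_z3 (lt_pow hp) h
  · rw [rho_gen']
    exact fixed_of_subB (wok [.a]) ok3 sub_a3 (lt_pow hp) h
  · rw [rho_gen']
    exact fixed_of_subB (wok [.c]) ok3 sub_c3 (lt_pow hp) h

theorem hP2 : ∀ p < 31671, rho W2 p = p → (∀ x ∈ Xs2, rho x p = p) → p ∈ ({0, 11589} : Finset ℕ) := by
  intro p hp h hx
  have key : (movedL 15 [[nz, na], [nc], [nd], [ne], [nf], [ng], [nh], [ni]]).testBit p = false := by
    rw [testBit_movedL_false _ (lt_pow hp)]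
    · intro w hw
      have hg : ∀ g : Gen, (g = .c ∨ g = .d ∨ g = .e ∨ g = .f ∨ g = .g ∨ g = .h ∨ g = .i) →
          wperm [net g] p = p := by
        intro g hg
        rw [← rho_gen']
        exact hx _ ⟨g, hg, rfl⟩
      simp only [List.mem_cons, List.not_mem_nil, or_false] at hw
      rcases hw with rfl | rfl | rfl | rfl | rfl | rfl | rfl | rfl
      · rw [← rho_W2]; exact h
      · exact hg .c (by simp)
      · exact hg .d (by simp)
      · exact hg .e (by simp)
      · exact hg .f (by simp)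
      · exact hg .g (by simp)
      · exact hg .h (by simp)
      · exact hg .i (by simp)
    · intro w hw
      simp only [List.mem_cons, List.not_mem_nil, or_false] at hw
      rcases hw with rfl | rfl | rfl | rfl | rfl | rfl | rfl | rfl
      · exact ok2
      · exact wok [.c]
      · exact wok [.d]
      · exact wok [.e]
      · exact wok [.f]
      · exact wok [.g]
      · exact wok [.h]
      · exact wok [.i]
  rw [Nat.eq_of_beq_eq_true only2] at key
  have key' : ((2 ^ 31671 - 1) ^^^ (2 ^ 0 ||| 2 ^ 11589)).testBit p = false := key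
  rw [Nat.testBit_xor, Nat.testBit_or, Nat.testBit_two_pow_sub_one, Nat.testBit_two_pow, Nat.testBit_two_pow] at key'
  simp only [hp, decide_true, Bool.true_xor, Bool.not_eq_false', Bool.or_eq_true, decide_eq_true_eq] at key'
  simp only [Finset.mem_insert, Finset.mem_singleton]
  omega

theorem hP3 : ∀ p < 31671, rho W3 p = p → (∀ x ∈ Xs3, rho x p = p) → p ∈ ({0, 8003, 11589} : Finset ℕ) := by
  intro p hp h hx
  have key : (movedL 15 [[nz, na, nc], [ne], [nf], [ng], [nh], [ni]]).testBit p = false := by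
    rw [testBit_movedL_false _ (lt_pow hp)]
    · intro w hw
      have hg : ∀ g : Gen, (g = .e ∨ g = .f ∨ g = .g ∨ g = .h ∨ g = .i) →
          wperm [net g] p = p := by
        intro g hg
        rw [← rho_gen']
        exact hx _ ⟨g, hg, rfl⟩
      simp only [List.mem_cons, List.not_mem_nil, or_false] at hw
      rcases hw with rfl | rfl | rfl | rfl | rfl | rfl
      · rw [← rho_W3]; exact h
      · exact hg .e (by simp)
      · exact hg .f (by simp)
      · exact hg .g (by simp)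
      · exact hg .h (by simp)
      · exact hg .i (by simp)
    · intro w hw
      simp only [List.mem_cons, List.not_mem_nil, or_false] at hw
      rcases hw with rfl | rfl | rfl | rfl | rfl | rfl
      · exact ok3
      · exact wok [.e]
      · exact wok [.f]
      · exact wok [.g]
      · exact wok [.h]
      · exact wok [.i]
  rw [Nat.eq_of_beq_eq_true only3] at key
  have key' : ((2 ^ 31671 - 1) ^^^ (2 ^ 0 ||| (2 ^ 8003 ||| 2 ^ 11589))).testBit p = false := key
  rw [Nat.testBit_xor, Nat.testBit_or, Nat.testBit_or, Nat.testBit_two_pow_sub_one, Nat.testBit_two_pow,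
    Nat.testBit_two_pow, Nat.testBit_two_pow] at key'
  simp only [hp, decide_true, Bool.true_xor, Bool.not_eq_false', Bool.or_eq_true, decide_eq_true_eq] at key'
  simp only [Finset.mem_insert, Finset.mem_singleton]
  omega

theorem hX2 : ∀ x ∈ Xs2, IsConj z0 x := by
  rintro _ ⟨g, -, rfl⟩
  exact isConj_gen card_le g

theorem hX3 : ∀ x ∈ Xs3, IsConj z0 x := by
  rintro _ ⟨g, -, rfl⟩
  exact isConj_gen card_le g

theorem hWX2 : ∀ x ∈ Xs2, W2 * x = x * W2 := by
  rintro _ ⟨g, hg, rfl⟩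
  have h1 : gen g * z0 = z0 * gen g := z_gen g (by rcases hg with rfl | rfl | rfl | rfl | rfl | rfl | rfl <;> decide)
  have h2 : gen .a * gen g = gen g * gen .a :=
    gen_comm .a g (by rcases hg with rfl | rfl | rfl | rfl | rfl | rfl | rfl <;> decide)
  unfold W2
  rw [mul_assoc, h2, ← mul_assoc, ← h1, mul_assoc]

theorem hWX3 : ∀ x ∈ Xs3, W3 * x = x * W3 := by
  rintro _ ⟨g, hg, rfl⟩
  have h1 : gen g * z0 = z0 * gen g := z_gen g (by rcases hg with rfl | rfl | rfl | rfl | rfl <;> decide)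
  have h2 : gen .a * gen g = gen g * gen .a :=
    gen_comm .a g (by rcases hg with rfl | rfl | rfl | rfl | rfl <;> decide)
  have h3 : gen .c * gen g = gen g * gen .c :=
    gen_comm .c g (by rcases hg with rfl | rfl | rfl | rfl | rfl <;> decide)
  unfold W3
  calc z0 * gen .a * gen .c * gen g = z0 * (gen .a * gen g) * gen .c := by
        rw [mul_assoc (z0 * gen .a), h3]; simp only [mul_assoc]
    _ = (z0 * gen g) * gen .a * gen .c := by rw [h2]; simp only [mul_assoc]
    _ = gen g * (z0 * gen .a * gen .c) := by rw [← h1]; simp only [mul_assoc]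

theorem za : gen .a * z0 = z0 * (gen .a : Fi23) := z_gen .a (by decide)
theorem zc : gen .c * z0 = z0 * (gen .c : Fi23) := z_gen .c (by decide)
theorem ac : gen .a * gen .c = gen .c * (gen .a : Fi23) := gen_comm .a .c (by decide)

theorem hWD2 : ∀ d ∈ Ds2, W2 * d = d * W2 := by
  unfold W2
  rintro d (rfl | rfl)
  · rw [mul_assoc, za]
  · rw [← mul_assoc, za]

theorem hWD3 : ∀ d ∈ Ds3, W3 * d = d * W3 := by
  unfold W3
  rintro d (rfl | rfl | rfl)
  · calc z0 * gen .a * gen .c * z0 = z0 * (gen .a * (gen .c * z0)) := by simp only [mul_assoc]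
      _ = z0 * (gen .a * z0 * gen .c) := by rw [zc]; simp only [mul_assoc]
      _ = z0 * (z0 * gen .a * gen .c) := by rw [za]
  · calc z0 * gen .a * gen .c * gen .a = z0 * gen .a * (gen .c * gen .a) := by rw [mul_assoc]
      _ = z0 * gen .a * gen .a * gen .c := by rw [← ac, ← mul_assoc]
      _ = (gen .a * z0) * gen .a * gen .c := by rw [za]
      _ = gen .a * (z0 * gen .a * gen .c) := by simp only [mul_assoc]
  · calc z0 * gen .a * gen .c * gen .c = z0 * (gen .c * gen .a) * gen .c := by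
          rw [← ac]; simp only [mul_assoc]
      _ = gen .c * (z0 * gen .a * gen .c) := by rw [← mul_assoc, ← zc]; simp only [mul_assoc]

/-! ### The stabiliser of two points -/

/-- the point of `gen a` is `11589` -/
theorem point_a {h : Fi23} (hh : h * z0 * h⁻¹ = gen .a) : rho h 0 = 11589 := by
  have h1 : rho h 0 ∈ ({0, 11589} : Finset ℕ) := by
    apply hP2 _ (act.2.2.1 _)
    · rw [fixes_iff, hh]
      exact hWD2 _ (Or.inr rfl)
    · rintro _ ⟨g, hg, rfl⟩
      rw [fixes_iff, hh]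
      exact (gen_comm .a g (by rcases hg with rfl | rfl | rfl | rfl | rfl | rfl | rfl <;> decide)).symm
  simp only [Finset.mem_insert, Finset.mem_singleton] at h1
  rcases h1 with h1 | h1
  · exfalso
    apply ne_gen_a
    rw [← hh]
    have h2 := eq_of_rho_eq (g := h) (h := 1) (by rw [h1]; simp)
    rw [h2]
    simp
  · exact h1

theorem exists_a : ∃ h : Fi23, h * z0 * h⁻¹ = gen .a ∧ rho h 0 = 11589 := by
  obtain ⟨h, hh⟩ := isConj_iff.1 (isConj_gen card_le .a)
  exact ⟨h, hh, point_a hh⟩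

/-- the subgroup fixing the points `0` and `11589` -/
def C2 : Subgroup Fi23 where
  carrier := {g | rho g 0 = 0 ∧ rho g 11589 = 11589}
  mul_mem' := by
    rintro x y ⟨h1, h2⟩ ⟨h3, h4⟩
    exact ⟨by rw [map_mul, Equiv.Perm.mul_apply, h3, h1], by rw [map_mul, Equiv.Perm.mul_apply, h4, h2]⟩
  one_mem' := ⟨by simp, by simp⟩
  inv_mem' := by
    rintro x ⟨h1, h2⟩
    exact ⟨by rw [map_inv, Equiv.Perm.inv_eq_iff_eq, h1], by rw [map_inv, Equiv.Perm.inv_eq_iff_eq, h2]⟩

theorem card_C2 : Nat.card C2 * 3510 = 2 * 64561751654400 := by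
  classical
  let _ : MulAction (Fi23Orb.H) ℕ := MulAction.compHom ℕ (rho.comp (Fi23Orb.H).subtype)
  have hsm : ∀ (x : Fi23Orb.H) (p : ℕ), x • p = rho (x : Fi23) p := fun _ _ => rfl
  have ho : MulAction.orbit (Fi23Orb.H) (11589 : ℕ) = {p : ℕ | ∃ x ∈ Fi23Orb.H, rho x 52 = p} := by
    have h1 : (11589 : ℕ) ∈ {p : ℕ | ∃ x ∈ Fi23Orb.H, rho x 52 = p} := by
      rw [Fi23Orb.orb2]
      show Nat.testBit _ _ = true
      rw [← tb_eq]
      exact tb_a
    obtain ⟨x, hx, hx2⟩ := h1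
    ext p
    constructor
    · rintro ⟨y, rfl⟩
      refine ⟨(y : Fi23) * x, Fi23Orb.H.mul_mem y.2 hx, ?_⟩
      rw [map_mul, Equiv.Perm.mul_apply, hx2]
      rfl
    · rintro ⟨y, hy, rfl⟩
      refine ⟨⟨y, hy⟩ * ⟨x, hx⟩⁻¹, ?_⟩
      show rho (y * x⁻¹) 11589 = _
      rw [map_mul, Equiv.Perm.mul_apply, map_inv, ← hx2]
      simp
  have hst : C2.subgroupOf Fi23Orb.H = MulAction.stabilizer (Fi23Orb.H) (11589 : ℕ) := by
    ext x
    rw [mem_subgroupOf, MulAction.mem_stabilizer_iff, hsm]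
    exact ⟨fun h => h.2, fun h => ⟨(act.2.1 _).2 x.2, h⟩⟩
  have hle : C2 ≤ Fi23Orb.H := fun x hx => (act.2.1 x).1 hx.1
  have h1 := Subgroup.card_mul_index (MulAction.stabilizer (Fi23Orb.H) (11589 : ℕ))
  rw [MulAction.index_stabilizer, ho, Fi23Orb.ncard_orb2, ← hst] at h1
  have h2 : Nat.card (C2.subgroupOf Fi23Orb.H) = Nat.card C2 :=
    Nat.card_congr (Subgroup.subgroupOfEquivOfLe hle).toEquiv
  rw [h2] at h1
  rw [h1, H_eq_index]
  exact card_K

theorem not_dvd_C2 : ¬ 13 ∣ Nat.card C2 := by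
  have h := card_C2
  have h1 : Nat.card C2 = 36787322880 := by omega
  rw [h1]
  norm_num

theorem not_dvd_of {W : Fi23} (h : ∀ y : Fi23, y * W = W * y → y ^ 13 = 1 → y ∈ C2) :
    ¬ 13 ∣ Nat.card (centralizer ({W} : Set Fi23)) := by
  intro hd
  haveI : Fact (Nat.Prime 13) := ⟨by norm_num⟩
  obtain ⟨y, hy⟩ := exists_prime_orderOf_dvd_card' 13 hd
  have h1 : (y : Fi23) ∈ C2 := by
    apply h
    · exact mem_centralizer_singleton_iff.1 y.2
    · have := pow_orderOf_eq_one y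
      rw [hy] at this
      have h2 := congrArg Subtype.val this
      rwa [Subgroup.coe_pow, Subgroup.coe_one] at h2
  apply not_dvd_C2
  have h3 : orderOf (⟨(y : Fi23), h1⟩ : C2) = 13 := by
    rw [← hy]
    rw [← Subgroup.orderOf_coe, ← Subgroup.orderOf_coe y]
  rw [← h3]
  exact orderOf_dvd_natCard _

theorem c2 : ¬ 13 ∣ Nat.card (centralizer ({z0 * gen .a} : Set Fi23)) := by
  apply not_dvd_of (W := W2)
  intro y hy ho
  obtain ⟨h, hh, hp⟩ := exists_a
  have f := fun (h : Fi23) (hd : h * z0 * h⁻¹ ∈ Ds2) =>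
    fixed_of_order (P := {0, 11589}) (by decide) hW2 hP2 hX2 hWX2 hWD2 hy hd ho
  refine ⟨?_, ?_⟩
  · have := f 1 (by rw [one_mul, inv_one, mul_one]; exact Or.inl rfl)
    simpa using this
  · have := f h (by rw [hh]; exact Or.inr rfl)
    rwa [hp] at this

theorem c3 : ¬ 13 ∣ Nat.card (centralizer ({z0 * gen .a * gen .c} : Set Fi23)) := by
  apply not_dvd_of (W := W3)
  intro y hy ho
  obtain ⟨h, hh, hp⟩ := exists_a
  have f := fun (h : Fi23) (hd : h * z0 * h⁻¹ ∈ Ds3) =>
    fixed_of_order (P := {0, 8003, 11589}) (by decide) hW3 hP3 hX3 hWX3 hWD3 hy hd ho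
  refine ⟨?_, ?_⟩
  · have := f 1 (by rw [one_mul, inv_one, mul_one]; exact Or.inl rfl)
    simpa using this
  · have := f h (by rw [hh]; exact Or.inr (Or.inl rfl))
    rwa [hp] at this

end Cfsg.Agent.KFacts.FiTTh.Cent
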