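import Cfsg.Agent.KFacts.FiTTh.BasChk
import Cfsg.Agent.KFacts.FiTTh.BasDef
import Cfsg.Agent.KFacts.FiTTh.Cent

/-!
# `2^11 : M23` in the presented group `Fi23` (helper286)

`e : GolayPt → Fi23`, the 23 commuting transpositions of the points `BasChk.lab p`; `pre : Pre e`.
-/

set_option autoImplicit false
set_option maxRecDepth 100000
set_option linter.constructorNameAsVariable false

namespace Cfsg.Agent.KFacts.FiTTh.BasFi

open Cfsg.Agent.Lib.PermNet hiding tau
open Cfsg Subgroup Cfsg.Agent.Lib.PermNetPt Cfsg.Agent.Lib.PermNetFix Cfsg.Agent.Lib.PermNetOrbit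
open Cfsg.Agent.Fischer.Fi23Nets Cfsg.Agent.Fischer.Fi23Rel Cfsg.Agent.Fischer.Fi23Hom Cfsg.Agent.Fischer.Fi23Orb
open Cfsg.Agent.Fischer.Fi23Z Cfsg.Agent.Fischer.Fi23OrbData
open Cfsg.Agent.Fischer.Fi23Final (gen_sq gen_rel conj_of_edge gens_top)
open Cfsg.Agent.Fischer.Fi23Class (j_eq gen_comm)
open Cfsg.Agent.Fischer.Fi23Simple (card_Fi23 isFi23 rho_injective)
open Cfsg.Agent.KFacts.FiTTh.BasTau (tau le_of_tau)
open Cfsg.Agent.KFacts.FiTTh.BasChk Cfsg.Agent.KFacts.FiTTh.BasDef Cfsg.Agent.KFacts.FiTTh.BasCode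
open Cfsg.Agent.KFacts.FiTTh.Cent
open Cfsg.Spor Cfsg.Spor.Fi23

/-! ### The elements -/

theorem lab_lt : ∀ i : ZMod 23, lab (some i) < 31671 := by decide +kernel

theorem lab_none : lab none = 32768 := by decide +kernel

theorem lab_inj : ∀ p q : GolayPt, lab p = lab q → p = q := by decide +kernel

theorem exists_g (i : ZMod 23) : ∃ g : Fi23, rho g 0 = lab (some i) :=
  Cfsg.Agent.Fischer.Fi23Orb.trans _ (lab_lt i)

/-- The 23 transpositions. -/
noncomputable def e : GolayPt → Fi23
  | none => 1
  | some i => (exists_g i).choose * z0 * (exists_g i).choose⁻¹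

theorem exists_e (i : ZMod 23) : ∃ g : Fi23, rho g 0 = lab (some i) ∧ g * z0 * g⁻¹ = e (some i) :=
  ⟨(exists_g i).choose, (exists_g i).choose_spec, rfl⟩

theorem e_eq {g : Fi23} {i : ZMod 23} (h : rho g 0 = lab (some i)) : g * z0 * g⁻¹ = e (some i) :=
  eq_of_rho_eq (h.trans (exists_g i).choose_spec.symm)

theorem conj_e {n : Fi23} {i j : ZMod 23} (h : rho n (lab (some i)) = lab (some j)) :
    n * e (some i) * n⁻¹ = e (some j) := by
  obtain ⟨g, hg, he⟩ := exists_e i
  rw [← he, ← e_eq (g := n * g) (i := j) (by rw [map_mul, Equiv.Perm.mul_apply, hg, h])]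
  group

theorem conj_e' {n : Fi23} {p q : GolayPt} (h : rho n (lab p) = lab q) (hp : p = none ↔ q = none) :
    n * e p * n⁻¹ = e q := by
  cases p with
  | none =>
    rw [hp.1 rfl]
    show n * 1 * n⁻¹ = 1
    group
  | some i =>
    cases q with
    | none => exact absurd (hp.2 rfl) (by simp)
    | some j => exact conj_e h

theorem z0_ne : z0 ≠ 1 := by
  intro h
  apply Cfsg.Agent.Fischer.Fi23Class.z0_ncomm
  rw [h, one_mul, mul_one]

theorem e_ne_one (i : ZMod 23) : e (some i) ≠ 1 := by
  obtain ⟨g, -, he⟩ := exists_e i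
  rw [← he]
  intro h
  apply z0_ne
  calc z0 = g⁻¹ * (g * z0 * g⁻¹) * g := by group
    _ = 1 := by rw [h]; group

theorem e_sq (p : GolayPt) : e p * e p = 1 := by
  cases p with
  | none => exact one_mul 1
  | some i =>
    obtain ⟨g, -, he⟩ := exists_e i
    rw [← he]
    calc g * z0 * g⁻¹ * (g * z0 * g⁻¹) = g * (z0 * z0) * g⁻¹ := by group
      _ = 1 := by rw [Cfsg.Agent.KFacts.FiTTh.Cent.zz]; group

theorem e_inj : Function.Injective e := by
  intro p q h
  cases p with
  | none =>
    cases q with
    | none => rfl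
    | some j => exact absurd h.symm (e_ne_one j)
  | some i =>
    cases q with
    | none => exact absurd h (e_ne_one i)
    | some j =>
      obtain ⟨g, hg, he⟩ := exists_e i
      obtain ⟨k, hk, hf⟩ := exists_e j
      rw [← he, ← hf] at h
      have h1 : rho (k⁻¹ * g) 0 = 0 := by
        rw [rho0_iff]
        calc k⁻¹ * g * z0 = k⁻¹ * (g * z0 * g⁻¹) * g := by group
          _ = k⁻¹ * (k * z0 * k⁻¹) * g := by rw [h]
          _ = z0 * (k⁻¹ * g) := by group
      rw [map_mul, Equiv.Perm.mul_apply, map_inv, Equiv.Perm.inv_eq_iff_eq, hg, hk] at h1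
      exact lab_inj _ _ h1

/-! ### The action -/

/-- The permutations of the 24 points induced by elements of `Fi23`. -/
def Phi : Subgroup (Equiv.Perm GolayPt) where
  carrier := {m | ∃ n : Fi23, ∀ p, rho n (lab p) = lab (m p)}
  mul_mem' := by
    rintro a b ⟨n, h⟩ ⟨n', h'⟩
    refine ⟨n * n', fun p => ?_⟩
    rw [map_mul, Equiv.Perm.mul_apply, h', h, Equiv.Perm.mul_apply]
  one_mem' := ⟨1, fun p => by rw [map_one]; rfl⟩
  inv_mem' := by
    rintro a ⟨n, h⟩
    refine ⟨n⁻¹, fun p => ?_⟩
    rw [map_inv, Equiv.Perm.inv_eq_iff_eq, h]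
    exact congrArg lab (a.apply_symm_apply p).symm

theorem le_Phi : Spor.M23 ≤ Phi := le_of_tau Phi fun k hk => ⟨word (W k), rho_tau k hk⟩

theorem full (m : Equiv.Perm GolayPt) (hm : m ∈ Spor.M23) : ∃ n : Fi23, ∀ p, n * e p * n⁻¹ = e (m p) := by
  obtain ⟨n, h⟩ := le_Phi hm
  have hmn := (mem_M23.1 hm).2
  refine ⟨n, fun p => conj_e' (h p) ⟨fun hp => by rw [hp, hmn], fun hp => ?_⟩⟩
  exact m.injective (hp.trans hmn.symm)

/-! ### The generators -/

theorem word_nil : word [] = 1 := rfl

theorem word_cons (x : Gen) (l : List Gen) : word (x :: l) = gen x * word l := rfl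

theorem word_append (l l' : List Gen) : word (l ++ l') = word l * word l' := by
  unfold word
  rw [List.map_append, List.prod_append]

theorem word_reverse (l : List Gen) : word l.reverse = (word l)⁻¹ := by
  induction l with
  | nil => rw [List.reverse_nil, word_nil, inv_one]
  | cons x l ih =>
    rw [List.reverse_cons, word_append, ih, word_cons, word_cons, word_nil, mul_one, mul_inv_rev]
    congr 1
    exact (inv_eq_of_mul_eq_one_left (gen_sq x)).symm

theorem rho_two {x y : Gen} {a b : ℕ} (h : chkPt [net x, net y] a b = true) : rho (gen x * gen y) a = b := by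
  have h1 := rho_of_chkPt (u := [x, y]) h
  rwa [word_cons, word_cons, word_nil, mul_one] at h1

/-- The point of a generator. -/
theorem ptgen (x : Gen) : ∃ h : Fi23, h * z0 * h⁻¹ = gen x ∧ rho h 0 = pn x := by
  have hj : ∃ h : Fi23, h * z0 * h⁻¹ = gen .j ∧ rho h 0 = pn .j := by
    refine ⟨z0 * gen .j, j_eq card_le, ?_⟩
    rw [map_mul, rho_z0, rho_gen]
    have h1 := chkPt_spec (WOk.cons ok_z (WOk.cons ok_j (WOk.nil _))) pt_j
    rw [wperm_cons, wperm_cons, wperm_nil, mul_one] at h1
    exact h1
  have step : ∀ x y : Gen, coxLabel edges x y = 3 → chkPt [net x, net y] (pn x) (pn y) = true →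
      (∃ h : Fi23, h * z0 * h⁻¹ = gen x ∧ rho h 0 = pn x) →
      ∃ h : Fi23, h * z0 * h⁻¹ = gen y ∧ rho h 0 = pn y := by
    rintro x y hl hc ⟨h, h1, h2⟩
    have h3 := gen_rel x y
    rw [hl] at h3
    refine ⟨gen x * gen y * h, ?_, ?_⟩
    · calc gen x * gen y * h * z0 * (gen x * gen y * h)⁻¹
          = gen x * gen y * (h * z0 * h⁻¹) * (gen x * gen y)⁻¹ := by group
        _ = gen x * gen y * gen x * (gen x * gen y)⁻¹ := by rw [h1]
        _ = gen y := (conj_of_edge (gen_sq x) (gen_sq y) h3).symm
    · rw [map_mul, Equiv.Perm.mul_apply, h2, rho_two hc]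
  have hg := step .j .g (by decide) pt_g hj
  have hf := step .g .f (by decide) pt_f hg
  have he := step .f .e (by decide) pt_e hf
  have hd := step .e .d (by decide) pt_d he
  have hc := step .d .c (by decide) pt_c hd
  have hb := step .c .b (by decide) pt_b hc
  have ha := step .b .a (by decide) pt_a hb
  have hh := step .d .h (by decide) pt_h hd
  have hi := step .h .i (by decide) pt_i hh
  cases x <;> assumption

/-- A conjugate of a generator is one of the 23 transpositions. -/
theorem dword {u : List Gen} {x : Gen} {i : ZMod 23} (h : rho (word u) (pn x) = lab (some i)) :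
    word (u ++ x :: u.reverse) = e (some i) := by
  obtain ⟨k, hk, hk0⟩ := ptgen x
  have h1 := e_eq (g := word u * k) (i := i) (by rw [map_mul, Equiv.Perm.mul_apply, hk0, h])
  rw [← h1, word_append, word_cons, word_reverse, ← hk]
  group

theorem dw (u : List Gen) {x : Gen} {i : ZMod 23} {a b : ℕ} (hx : pn x = a) (hi : lab (some i) = b)
    (h : chkPt (u.map net) a b = true) : word (u ++ x :: u.reverse) = e (some i) := by
  apply dword
  rw [hx, hi]
  exact rho_of_chkPt h

theorem rho_nil (a : ℕ) : rho (word []) a = a := by rw [word_nil, map_one]; rfl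

theorem dw0 : word ([] ++ Gen.a :: ([] : List Gen).reverse) = e (some 0) := dword (by rw [rho_nil]; decide +kernel)
theorem dw1 : word ([] ++ Gen.c :: ([] : List Gen).reverse) = e (some 1) := dword (by rw [rho_nil]; decide +kernel)
theorem dw2 : word ([] ++ Gen.e :: ([] : List Gen).reverse) = e (some 2) := dword (by rw [rho_nil]; decide +kernel)
theorem dw3 : word ([] ++ Gen.h :: ([] : List Gen).reverse) = e (some 3) := dword (by rw [rho_nil]; decide +kernel)
theorem dw5 : word (u5 ++ Gen.e :: u5.reverse) = e (some 5) := dw u5 rfl (by decide +kernel) pu5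
theorem dw17 : word (u6 ++ Gen.e :: u6.reverse) = e (some 17) := dw u6 rfl (by decide +kernel) pu6
theorem dw14 : word (u7 ++ Gen.f :: u7.reverse) = e (some 14) := dw u7 rfl (by decide +kernel) pu7

theorem one_letter (x : Gen) : word ([] ++ x :: ([] : List Gen).reverse) = gen x := by
  show word [x] = gen x
  rw [word_cons, word_nil, mul_one]

theorem e_a : e (some 0) = gen .a := by rw [← dw0, one_letter]
theorem e_c : e (some 1) = gen .c := by rw [← dw1, one_letter]
theorem e_e : e (some 2) = gen .e := by rw [← dw2, one_letter]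
theorem e_h : e (some 3) = gen .h := by rw [← dw3, one_letter]
theorem e_g : e (some 4) = gen .g := by
  rw [← one_letter .g]
  exact (dword (by rw [rho_nil]; decide +kernel)).symm
theorem e_z : e (some 13) = z0 := by
  have h := e_eq (g := 1) (i := 13) (by rw [map_one]; show 0 = _; decide +kernel)
  rw [← h]; group

/-! ### Commutation -/

theorem exists_pair {i j i' j' : ZMod 23} (h : i ≠ j) (h' : i' ≠ j') :
    ∃ n : Fi23, n * e (some i) * n⁻¹ = e (some i') ∧ n * e (some j) * n⁻¹ = e (some j') := by
  have hs : (some i : GolayPt) ≠ some j := fun hh => h (Option.some.inj hh)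
  have hs' : (some i' : GolayPt) ≠ some j' := fun hh => h' (Option.some.inj hh)
  obtain ⟨m, hm⟩ := exists_map_emb (n := 3) (by norm_num)
    ⟨![none, some i, some j], by
      intro x y
      fin_cases x <;> fin_cases y <;> simp [h, h.symm]⟩
    ⟨![none, some i', some j'], by
      intro x y
      fin_cases x <;> fin_cases y <;> simp [h', h'.symm]⟩
  have m0 : (m : Equiv.Perm GolayPt) none = none := hm 0
  have m1 : (m : Equiv.Perm GolayPt) (some i) = some i' := hm 1
  have m2 : (m : Equiv.Perm GolayPt) (some j) = some j' := hm 2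
  obtain ⟨n, hn⟩ := full m (mem_M23.2 ⟨m.2, m0⟩)
  exact ⟨n, by rw [hn, m1], by rw [hn, m2]⟩

theorem e_comm (p q : GolayPt) : e p * e q = e q * e p := by
  cases p with
  | none => show 1 * _ = _ * 1; rw [one_mul, mul_one]
  | some i =>
    cases q with
    | none => show _ * 1 = 1 * _; rw [one_mul, mul_one]
    | some j =>
      by_cases hij : i = j
      · rw [hij]
      obtain ⟨n, h1, h2⟩ := exists_pair (i := 0) (j := 1) (by decide) hij
      rw [← h1, ← h2, e_a, e_c]
      have h3 : gen .a * gen .c = gen .c * (gen .a : Fi23) := gen_comm .a .c (by decide)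
      calc n * gen .a * n⁻¹ * (n * gen .c * n⁻¹) = n * (gen .a * gen .c) * n⁻¹ := by group
        _ = n * (gen .c * gen .a) * n⁻¹ := by rw [h3]
        _ = _ := by group

/-! ### The octad -/

theorem word_WO : word WO = (oct0.map e).prod := by
  unfold WO oct0
  rw [word_append, dw0, word_append, dw1, word_append, dw2, word_append, dw3, word_append, dw5,
    word_append, dw17, word_append, dw14, word_nil]
  simp only [List.map_cons, List.map_nil, List.prod_cons, List.prod_nil]
  rw [show e none = 1 from rfl, one_mul]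

theorem WO_comm (x : Gen) : word WO * gen x = gen x * word WO := by
  obtain ⟨h, h1, h2⟩ := ptgen x
  have h3 := rho_of_chkPt (fix_WO x)
  rw [← h2, fixes_iff, h1] at h3
  exact h3

theorem central (y : Fi23) : word WO * y = y * word WO := by
  have h : y ∈ centralizer ({word WO} : Set Fi23) := by
    have h1 : (⊤ : Subgroup Fi23) ≤ centralizer ({word WO} : Set Fi23) := by
      rw [← gens_top, closure_le]
      rintro _ ⟨x, rfl⟩
      rw [SetLike.mem_coe, mem_centralizer_singleton_iff]
      exact (WO_comm x).symm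
    exact h1 trivial
  exact (mem_centralizer_singleton_iff.1 h).symm

theorem not_prime : ¬ (Nat.card Fi23).Prime := by
  rw [card_Fi23]
  intro hp
  exact absurd ((Nat.prime_dvd_prime_iff_eq Nat.prime_two hp).1 (by norm_num)) (by norm_num)

theorem WO_eq_one : word WO = 1 := by
  have h1 : word WO ∈ center Fi23 := mem_center_iff.2 fun y => (central y).symm
  have h2 := Cfsg.Agent.Fischer.Fi23Cover.center_eq_bot_of_simple isFi23.1 not_prime
  rw [h2] at h1
  exact mem_bot.1 h1

theorem pre : Pre e where
  zero := rfl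
  sq := e_sq
  comm := e_comm
  inj := e_inj
  oct := by
    refine ⟨oct0, by decide, by decide, ?_, by rw [← word_WO, WO_eq_one]⟩
    have h1 : oct0.toFinset = Cfsg.Agent.SporadicA.GolayBase.fin (2 ^ 23 + 2 ^ 17 + 2 ^ 14 + 47) := by
      decide +kernel
    rw [h1, Cfsg.Agent.SporadicA.GolayBase.fin_mem_octads_iff (by norm_num)]
    decide +kernel
  full := full

/-! ### The field `nrm` -/

theorem commA {a b : Fi23} (ha : a ∈ A e) (hb : b ∈ A e) : a * b = b * a := pre.comm' ha hb

theorem mem_lab {q : ℕ} (hq : q < 31671) (h : ∀ i : ZMod 23, i = 13 ∨ i = 0 ∨ i = 1 ∨ i = 2 ∨ i = 4 ∨ i = 3 →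
    rho (e (some i)) q = q) : ∃ j : ZMod 23, q = lab (some j) := by
  have key : (movedL 15 [[nz], [na], [nc], [ne], [ng], [nh]]).testBit q = false := by
    rw [testBit_movedL_false _ (lt_pow hq)]
    · intro w hw
      simp only [List.mem_cons, List.not_mem_nil, or_false] at hw
      rcases hw with rfl | rfl | rfl | rfl | rfl | rfl
      · have := h 13 (by simp)
        rw [e_z, rho_z0] at this
        rw [wperm_cons, wperm_nil, mul_one]; exact this
      · have := h 0 (by simp)
        rw [e_a, rho_gen] at this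
        rw [wperm_cons, wperm_nil, mul_one]; exact this
      · have := h 1 (by simp)
        rw [e_c, rho_gen] at this
        rw [wperm_cons, wperm_nil, mul_one]; exact this
      · have := h 2 (by simp)
        rw [e_e, rho_gen] at this
        rw [wperm_cons, wperm_nil, mul_one]; exact this
      · have := h 4 (by simp)
        rw [e_g, rho_gen] at this
        rw [wperm_cons, wperm_nil, mul_one]; exact this
      · have := h 3 (by simp)
        rw [e_h, rho_gen] at this
        rw [wperm_cons, wperm_nil, mul_one]; exact this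
    · intro w hw
      simp only [List.mem_cons, List.not_mem_nil, or_false] at hw
      rcases hw with rfl | rfl | rfl | rfl | rfl | rfl
      · exact WOk.cons ok_z (WOk.nil _)
      · exact wok [.a]
      · exact wok [.c]
      · exact wok [.e]
      · exact wok [.g]
      · exact wok [.h]
  rw [Nat.eq_of_beq_eq_true only6] at key
  have key' : ((2 ^ 31671 - 1) ^^^ maskL (labL.take 23)).testBit q = false := key
  rw [Nat.testBit_xor, Nat.testBit_two_pow_sub_one] at key'
  simp only [hq, decide_true, Bool.true_xor, Bool.not_eq_false'] at key'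
  have h1 := testBit_maskL key'
  have h2 : ∀ a ∈ labL.take 23, ∃ j : ZMod 23, a = lab (some j) := by decide +kernel
  exact h2 q h1

theorem nrm (n : Fi23) (p : GolayPt) (h : n * e p * n⁻¹ ∈ A e) : ∃ q, n * e p * n⁻¹ = e q := by
  cases p with
  | none => exact ⟨none, by show n * 1 * n⁻¹ = 1; group⟩
  | some i =>
    obtain ⟨g, hg, he⟩ := exists_e i
    have h1 : n * e (some i) * n⁻¹ = (n * g) * z0 * (n * g)⁻¹ := by rw [← he]; group
    have hq : rho (n * g) 0 < 31671 := act.2.2.1 _
    obtain ⟨j, hj⟩ := mem_lab hq (fun k _ => by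
      rw [fixes_iff, ← h1]
      exact commA (mem_A e _) h)
    exact ⟨some j, by rw [h1]; exact e_eq hj⟩

/-! ### The stabiliser chain -/

theorem stab_le : Nat.card (stabL rho [8005, 7999, 8001, 8003, 11589, 0]) ≤ 2 ^ 11 := by
  have h0 := stabL_step_of_check (k := 15) rho [] 0 31671 9 (nw_ok w0) (nw_img w0) cfix0 cm0 clt0
  have h1 := stabL_step_of_check (k := 15) rho [0] 11589 3510 8 (nw_ok w1) (nw_img w1) dfix1 dm1 dlt1
  have h2 := stabL_step_of_check (k := 15) rho [11589, 0] 8003 693 4 (nw_ok v2) (nw_img v2) dfix2 dm2 dlt2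
  have h3 := stabL_step_of_check (k := 15) rho [8003, 11589, 0] 8001 180 3 (nw_ok v3) (nw_img v3) dfix3 dm3 dlt3
  have h4 := stabL_step_of_check (k := 15) rho [8001, 8003, 11589, 0] 7999 48 2 (nw_ok v4) (nw_img v4) dfix4 dm4
    dlt4
  have h5 := stabL_step_of_check (k := 15) rho [7999, 8001, 8003, 11589, 0] 8005 3 2 (nw_ok v5) (nw_img v5) dfix5
    dm5 dlt5
  have h6 : Nat.card (stabL rho []) ≤ Nat.card Fi23 :=
    Nat.card_le_card_of_injective _ Subtype.val_injective
  rw [card_Fi23] at h6
  have h7 : 1996811754537600 * Nat.card (stabL rho [8005, 7999, 8001, 8003, 11589, 0]) ≤ 4089470473293004800 := by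
    calc 1996811754537600 * Nat.card (stabL rho [8005, 7999, 8001, 8003, 11589, 0])
        = 31671 * (3510 * (693 * (180 * (48 * (3 *
            Nat.card (stabL rho [8005, 7999, 8001, 8003, 11589, 0])))))) := by ring
      _ ≤ 31671 * (3510 * (693 * (180 * (48 * Nat.card (stabL rho [7999, 8001, 8003, 11589, 0]))))) := by gcongr
      _ ≤ 31671 * (3510 * (693 * (180 * Nat.card (stabL rho [8001, 8003, 11589, 0])))) := by gcongr
      _ ≤ 31671 * (3510 * (693 * Nat.card (stabL rho [8003, 11589, 0]))) := by gcongr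
      _ ≤ 31671 * (3510 * Nat.card (stabL rho [11589, 0])) := by gcongr
      _ ≤ 31671 * Nat.card (stabL rho [0]) := by gcongr
      _ ≤ Nat.card (stabL rho []) := h0
      _ ≤ 4089470473293004800 := h6
  omega

/-- An element commuting with `e (some i)` fixes its point. -/
theorem fix_of_comm {x : Fi23} {i : ZMod 23} (h : x * e (some i) = e (some i) * x) :
    rho x (lab (some i)) = lab (some i) := by
  obtain ⟨g, hg, he⟩ := exists_e i
  rw [← hg, fixes_iff, he]
  exact h

theorem comm_of_fix {x : Fi23} {i : ZMod 23} (h : rho x (lab (some i)) = lab (some i)) :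
    x * e (some i) = e (some i) * x := by
  obtain ⟨g, hg, he⟩ := exists_e i
  rw [← hg, fixes_iff, he] at h
  exact h

theorem mem_stab {x : Fi23} (h : ∀ p, x * e p = e p * x) : x ∈ stabL rho [8005, 7999, 8001, 8003, 11589, 0] := by
  intro q hq
  have h1 : ∀ q ∈ ([8005, 7999, 8001, 8003, 11589, 0] : List ℕ), ∃ i : ZMod 23, q = lab (some i) := by decide +kernel
  obtain ⟨i, rfl⟩ := h1 q hq
  exact fix_of_comm (h _)

theorem cen (hA : Nat.card (A e) = 2 ^ 11) (x : Fi23) (h : ∀ p, x * e p = e p * x) : x ∈ A e := by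
  have hle : A e ≤ stabL rho [8005, 7999, 8001, 8003, 11589, 0] := by
    intro a ha
    exact mem_stab fun p => commA ha (mem_A e p)
  have heq : A e = stabL rho [8005, 7999, 8001, 8003, 11589, 0] := by
    apply Subgroup.eq_of_le_of_card_ge hle
    rw [hA]
    exact stab_le
  rw [heq]
  exact mem_stab h

theorem base (hA : Nat.card (A e) = 2 ^ 11) : Base e where
  toPre := pre
  nrm := nrm
  cen := cen hA

/-! ### The transposition `b` -/

theorem b_comm {p : GolayPt} (hp : p ∈ octB) : gen .b * e p = e p * gen .b := by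
  cases p with
  | none => show _ * 1 = 1 * _; rw [one_mul, mul_one]
  | some i =>
    apply comm_of_fix
    have h1 := chkP_spec fix_b _ (mem_fix_b _ hp)
    have h2 := rho_of_chkPt (u := [.b]) h1
    rwa [word_cons, word_nil, mul_one] at h2

theorem octB_mem : octB.toFinset ∈ octads := by
  have h1 : octB.toFinset = Cfsg.Agent.SporadicA.GolayBase.fin 9462812 := by
    decide +kernel
  rw [h1, Cfsg.Agent.SporadicA.GolayBase.fin_mem_octads_iff (by norm_num)]
  decide +kernel

/-- The element `b (e_0 e_1) b` acts on the 24 points as `tau 4`. -/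
theorem b_conj (p : GolayPt) : (gen .b * (e (some 0) * e (some 1)) * gen .b) * e p *
    (gen .b * (e (some 0) * e (some 1)) * gen .b)⁻¹ = e (tau 4 p) := by
  have h1 : (gen .b * (e (some 0) * e (some 1)) * gen .b : Fi23) = word (W 4) := by
    show _ = word [.b, .a, .c, .b]
    rw [word_cons, word_cons, word_cons, word_cons, word_nil, mul_one, e_a, e_c]
    group
  rw [h1]
  apply conj_e' (rho_tau 4 (by norm_num) p)
  have h2 : ∀ p : GolayPt, p = none ↔ tau 4 p = none := by decide +kernel
  exact h2 p

theorem tau4_M23 : tau 4 ∈ Spor.M23 :=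
  mem_M23.2 ⟨Cfsg.Agent.KFacts.FiTTh.BasTau.tau_mem_M24 4 (by norm_num),
    Cfsg.Agent.KFacts.FiTTh.BasTau.tau_none 4 (by norm_num)⟩

end Cfsg.Agent.KFacts.FiTTh.BasFi
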