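import Cfsg.Agent.KFacts.FiTTh.BasDef
import Cfsg.Agent.KFacts.FiTTh.Uniq
import Cfsg.Agent.SporadicA.MathieuRecog

/-!
# Fi23, facts on `K` (helper840): from `Base e` to `Loc (A e) e (pr e) ind`

`Base e` (BasDef.lean): `A e` is the even cocode of the Golay code, every element is `pr e T` for exactly one `T` with
`none ∉ T`, `|T| ≤ 3`; `N(A e)` induces `M23` with kernel `A e`.
-/

set_option autoImplicit false

namespace Cfsg.Agent.KFacts.FiTTh.BasDef

open scoped Pointwise
open Cfsg Subgroup Cfsg.Agent.J4Type.DuadStab Cfsg.Agent.Schreier.CocodeSmall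
  Cfsg.Agent.KFacts.FiTTh.BasCode

variable {K : Type*} [Group K] {e : GolayPt → K}

theorem exists_fix {U : Finset GolayPt} (hU : U.card ≤ 4) {s t : GolayPt} (hs : s ∉ U) (ht : t ∉ U) :
    ∃ m : M24, (∀ u ∈ U, (m : Equiv.Perm GolayPt) u = u) ∧ (m : Equiv.Perm GolayPt) s = t := by
  let f : Fin U.card ≃ U := (Finset.equivFin U).symm
  have hemb : ∀ r : GolayPt, r ∉ U →
      Function.Injective (Fin.cons r (fun i => ((f i : U) : GolayPt)) : Fin (U.card + 1) → GolayPt) := by
    intro r hr
    rw [Fin.cons_injective_iff]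
    refine ⟨?_, fun i j h => f.injective (Subtype.ext h)⟩
    rintro ⟨i, hi⟩
    exact hr (hi ▸ (f i).2)
  obtain ⟨m, hm⟩ := exists_map_emb (n := U.card + 1) (by omega) ⟨_, hemb s hs⟩ ⟨_, hemb t ht⟩
  refine ⟨m, fun u hu => ?_, hm 0⟩
  have h1 : (m : Equiv.Perm GolayPt) ((f (f.symm ⟨u, hu⟩) : U) : GolayPt) = ((f (f.symm ⟨u, hu⟩) : U) : GolayPt) :=
    hm (Fin.succ (f.symm ⟨u, hu⟩))
  rw [Equiv.apply_symm_apply] at h1
  exact h1

namespace Pre

variable (B : Pre e)

include B

/-- no product of at most four of the 23 elements is trivial -/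
theorem pr_ne_one {T : Finset GolayPt} (hn : none ∉ T) (h0 : T.Nonempty) (h4 : T.card ≤ 4) : pr e T ≠ 1 := by
  classical
  intro h1
  obtain ⟨s, hs⟩ := h0
  have hU : (insert none (T.erase s)).card ≤ 4 := by
    refine (Finset.card_insert_le _ _).trans ?_
    rw [Finset.card_erase_of_mem hs]; omega
  have hsn : s ≠ none := fun h => hn (h ▸ hs)
  obtain ⟨t, -, ht⟩ := Finset.exists_mem_notMem_of_card_lt_card (s := insert none T)
    (t := (Finset.univ : Finset GolayPt)) (by
      have := Finset.card_insert_le none T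
      have h24 : Fintype.card GolayPt = 24 := by decide +kernel
      rw [Finset.card_univ]; omega)
  rw [Finset.mem_insert, not_or] at ht
  obtain ⟨m, hm, hms⟩ := exists_fix hU (s := s) (t := t)
    (by rw [Finset.mem_insert, not_or]; exact ⟨hsn, Finset.notMem_erase _ _⟩)
    (by rw [Finset.mem_insert, not_or]; exact ⟨ht.1, fun h => ht.2 (Finset.mem_of_mem_erase h)⟩)
  obtain ⟨n, hn'⟩ := B.full m (mem_M23.2 ⟨m.2, hm none (Finset.mem_insert_self _ _)⟩)
  have h2 := B.conj_pr hn' T
  have h3 : T.map (m : Equiv.Perm GolayPt).toEmbedding = insert t (T.erase s) := by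
    conv_lhs => rw [← Finset.insert_erase hs]
    rw [Finset.map_insert, Equiv.coe_toEmbedding, hms]
    congr 1
    rw [Finset.map_eq_image]
    refine (Finset.image_congr (g := id) (fun u hu => ?_)).trans Finset.image_id
    exact hm u (Finset.mem_insert_of_mem (Finset.mem_coe.1 hu))
  rw [h1, mul_one, mul_inv_cancel, h3, B.pr_insert (fun h => ht.2 (Finset.mem_of_mem_erase h))] at h2
  have h4 : e s * pr e (T.erase s) = 1 := by
    rw [← B.pr_insert (Finset.notMem_erase _ _), Finset.insert_erase hs, h1]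
  have h5 : e s = e t := mul_right_cancel (h4.trans h2)
  exact ht.2 (B.inj h5 ▸ hs)

theorem isCocode : @IsCocode (A e) B.cg (eA e) := by
  let _ : CommGroup (A e) := B.cg
  have hpr : ∀ T : Finset GolayPt, ∏ p ∈ T, eA e p = 1 → pr e T = 1 := by
    intro T hT
    rw [B.pr_eq]
    exact congrArg Subtype.val hT
  refine isCocode_of B.eA_sq (fun O hO => ?_) (fun T hT h1 => ?_)
  · apply Subtype.ext
    rw [← B.pr_eq]
    exact B.pr_oct hO
  · have h2 := hpr T h1
    by_cases hn : none ∈ T
    · rw [← B.pr_erase_none] at h2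
      refine B.pr_ne_one (Finset.notMem_erase _ _) (Finset.card_pos.1 ?_) ?_ h2
      · rw [Finset.card_erase_of_mem hn]; omega
      · rw [Finset.card_erase_of_mem hn]; omega
    · exact B.pr_ne_one hn (Finset.card_pos.1 (by omega)) (by omega) h2

theorem pr_inv (T : Finset GolayPt) : (pr e T)⁻¹ = pr e T := inv_eq_of_mul_eq_one_left (B.pr_sq T)

/-- every element of `A e` is a product `pr e T` -/
theorem exists_pr' {a : K} (ha : a ∈ A e) : ∃ T : Finset GolayPt, a = pr e T := by
  unfold A at ha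
  induction ha using closure_induction with
  | mem x hx => obtain ⟨p, rfl⟩ := hx; exact ⟨{p}, (pr_singleton p).symm⟩
  | one => exact ⟨∅, pr_empty.symm⟩
  | mul x y _ _ hx hy =>
    obtain ⟨S, rfl⟩ := hx
    obtain ⟨T, rfl⟩ := hy
    exact ⟨symmDiff S T, (B.pr_symmDiff S T).symm⟩
  | inv x _ hx => obtain ⟨S, rfl⟩ := hx; exact ⟨S, B.pr_inv S⟩

theorem pr_none (T : Finset GolayPt) : pr e (symmDiff T {none}) = pr e T := by
  rw [B.pr_symmDiff, pr_singleton, B.zero, mul_one]

theorem exists_even {a : K} (ha : a ∈ A e) : ∃ T : Finset GolayPt, Even T.card ∧ a = pr e T := by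
  obtain ⟨T, rfl⟩ := B.exists_pr' ha
  by_cases hT : Even T.card
  · exact ⟨T, hT, rfl⟩
  · refine ⟨symmDiff T {none}, ?_, (B.pr_none T).symm⟩
    rw [Nat.even_iff] at hT ⊢
    rw [card_symmDiff_parity, Finset.card_singleton]
    omega

theorem pres : @Pres (A e) B.cg (eA e) := by
  let _ : CommGroup (A e) := B.cg
  refine ⟨B.isCocode, fun a => ?_⟩
  obtain ⟨T, hT, h⟩ := B.exists_even a.2
  refine ⟨T, hT, Subtype.ext ?_⟩
  rw [h, B.pr_eq]

theorem cardA : Nat.card (A e) = 2 ^ 11 := by
  let _ : CommGroup (A e) := B.cg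
  exact card_of_pres B.pres

theorem finA : Finite (A e) := Nat.finite_of_card_ne_zero (by rw [B.cardA]; norm_num)

theorem ker_iff {S : Finset GolayPt} (hS : Even S.card) :
    pr e S = 1 ↔ S ∈ supports (golayCode : Set (GolayPt → ZMod 2)) := by
  let _ : CommGroup (A e) := B.cg
  rw [← B.isCocode.ker S hS, B.pr_eq, OneMemClass.coe_eq_one]

theorem exists_pr {a : K} (ha : a ∈ A e) : ∃ T : Finset GolayPt, none ∉ T ∧ T.card ≤ 3 ∧ a = pr e T := by
  classical
  obtain ⟨S, hS, rfl⟩ := B.exists_even ha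
  obtain ⟨T, hT, hST⟩ := exists_red S hS
  have hTe : Even T.card := by
    rcases hT with h | h | h <;> rw [h] <;> decide
  have h1 : pr e (symmDiff S T) = 1 := (B.ker_iff (by
    rw [Nat.even_iff] at hS hTe ⊢
    rw [card_symmDiff_parity]; omega)).2 hST
  have h2 : pr e S = pr e T := by
    rw [B.pr_symmDiff, mul_eq_one_iff_eq_inv, B.pr_inv] at h1
    exact h1
  rw [h2]
  by_cases hn : none ∈ T
  · refine ⟨T.erase none, Finset.notMem_erase _ _, ?_, (B.pr_erase_none T).symm⟩
    rw [Finset.card_erase_of_mem hn]; omega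
  · by_cases h4 : T.card = 4
    · obtain ⟨O, ⟨hO, hTO⟩, -⟩ := Cfsg.Agent.S0363.result.2 (insert none T) (by
        rw [Finset.card_insert_of_notMem hn, h4])
      have hTO' : T ⊆ O := fun p hp => hTO (Finset.mem_insert_of_mem hp)
      have h5 : pr e (O \ T) = pr e T := by
        have h6 := B.pr_symmDiff O T
        rw [B.pr_oct hO, one_mul] at h6
        rw [← h6]
        congr 1
        rw [symmDiff_def, Finset.sdiff_eq_empty_iff_subset.2 hTO', Finset.sup_eq_union, Finset.union_empty]
      refine ⟨(O \ T).erase none, Finset.notMem_erase _ _, ?_, ?_⟩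
      · rw [Finset.card_erase_of_mem (Finset.mem_sdiff.2 ⟨hTO (Finset.mem_insert_self _ _), hn⟩),
          Finset.card_sdiff_of_subset hTO', hO.2, h4]
      · rw [B.pr_erase_none, h5]
    · exact ⟨T, hn, by omega, rfl⟩

theorem pr_inj {S T : Finset GolayPt} (hS : none ∉ S) (hSc : S.card ≤ 3) (hT : none ∉ T) (hTc : T.card ≤ 3)
    (h : pr e S = pr e T) : S = T := by
  classical
  let _ : CommGroup (A e) := B.cg
  have h1 : pr e (symmDiff S T) = 1 := by rw [B.pr_symmDiff, h, B.pr_sq]
  have hc : (symmDiff S T).card ≤ 6 := by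
    have h3 := Finset.card_le_card (Finset.symmDiff_subset_union (s := S) (t := T))
    have h4 := Finset.card_union_le S T
    omega
  have key : ∀ D : Finset GolayPt, Even D.card → D.card ≤ 6 → pr e D = 1 → D = ∅ := by
    intro D hD h6 hD1
    refine B.isCocode.eq_empty D hD h6 (Subtype.ext ?_)
    rw [← B.pr_eq]
    exact hD1
  have hn : none ∉ symmDiff S T := by
    rw [Finset.mem_symmDiff]
    rintro (⟨h, -⟩ | ⟨h, -⟩)
    · exact hS h
    · exact hT h
  by_cases hev : Even (symmDiff S T).card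
  · exact symmDiff_eq_bot.1 (key _ hev hc h1)
  · exfalso
    rw [Nat.even_iff] at hev
    have h2 := key (insert none (symmDiff S T))
      (by rw [Nat.even_iff, Finset.card_insert_of_notMem hn]; omega)
      (by rw [Finset.card_insert_of_notMem hn]; omega)
      (by rw [B.pr_insert hn, B.zero, one_mul]; exact h1)
    exact Finset.insert_ne_empty _ _ h2

end Pre

namespace Base

variable (B : Base e)

include B

/-! ### The normalizer -/

theorem exists_perm {n : K} (hn : n ∈ normalizer (A e : Set K)) :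
    ∃ m ∈ Spor.M23, ∀ p, n * e p * n⁻¹ = e (m p) := by
  classical
  have h1 : ∀ p, ∃ q, n * e p * n⁻¹ = e q := fun p =>
    B.nrm n p ((mem_normalizer_iff.1 hn _).1 (mem_A e p))
  choose f hf using h1
  have hfi : Function.Injective f := by
    intro p q hpq
    apply B.inj
    have h2 : n * e p * n⁻¹ = n * e q * n⁻¹ := by rw [hf, hf, hpq]
    exact mul_left_cancel (mul_right_cancel h2)
  let m : Equiv.Perm GolayPt := Equiv.ofBijective f (Finite.injective_iff_bijective.1 hfi)
  have hm : ∀ p, n * e p * n⁻¹ = e (m p) := hf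
  refine ⟨m, mem_M23.2 ⟨?_, ?_⟩, hm⟩
  · rw [SporadicA.GolayPerm.mem_M24_iff]
    intro s hs
    have hev : Even s.card := by
      have := SporadicA.GolayBase.card_of_mem_supports hs
      rw [Nat.even_iff]
      omega
    rw [SporadicA.GolayPerm.smul_finset_eq_map, ← B.ker_iff (by rw [Finset.card_map]; exact hev), ← B.conj_pr hm,
      (B.ker_iff hev).2 hs]
    group
  · apply B.inj
    rw [← hm, B.zero]
    group

theorem perm_unique {n : K} {m m' : Equiv.Perm GolayPt} (h : ∀ p, n * e p * n⁻¹ = e (m p))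
    (h' : ∀ p, n * e p * n⁻¹ = e (m' p)) : m = m' := by
  ext1 p
  apply B.inj
  rw [← h, ← h']

omit B in
theorem conj_mem {n : K} {f : GolayPt → GolayPt} (h : ∀ p, n * e p * n⁻¹ = e (f p)) {x : K} (hx : x ∈ A e) :
    n * x * n⁻¹ ∈ A e := by
  unfold A at hx
  induction hx using closure_induction with
  | mem x hx => obtain ⟨p, rfl⟩ := hx; rw [h]; exact mem_A e _
  | one => rw [mul_one, mul_inv_cancel]; exact one_mem _
  | mul x y _ _ hx hy =>
    rw [show n * (x * y) * n⁻¹ = (n * x * n⁻¹) * (n * y * n⁻¹) by group]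
    exact mul_mem hx hy
  | inv x _ hx =>
    rw [show n * x⁻¹ * n⁻¹ = (n * x * n⁻¹)⁻¹ by group]
    exact inv_mem hx

omit B in
theorem mem_normalizer_of {n : K} {m : Equiv.Perm GolayPt} (h : ∀ p, n * e p * n⁻¹ = e (m p)) :
    n ∈ normalizer (A e : Set K) := by
  rw [mem_normalizer_iff]
  intro x
  refine ⟨fun hx => conj_mem h hx, fun hx => ?_⟩
  have h' : ∀ p, n⁻¹ * e p * (n⁻¹)⁻¹ = e (m⁻¹ p) := by
    intro p
    have h1 := h (m⁻¹ p)
    rw [show m (m⁻¹ p) = p from m.apply_symm_apply p] at h1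
    rw [← h1]
    group
  have h2 := conj_mem h' hx
  rwa [show n⁻¹ * (n * x * n⁻¹) * (n⁻¹)⁻¹ = x by group] at h2

/-- the action of `N(A e)` on the 24 points -/
noncomputable def ind : ↥(normalizer (A e : Set K)) →* ↥Spor.M23 :=
  MonoidHom.mk' (fun n => ⟨Classical.choose (B.exists_perm n.2), (Classical.choose_spec (B.exists_perm n.2)).1⟩) (by
    intro a b
    apply Subtype.ext
    apply B.perm_unique (n := (a : K) * b)
    · intro p
      exact (Classical.choose_spec (B.exists_perm (a * b).2)).2 p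
    · intro p
      show (a : K) * b * e p * ((a : K) * b)⁻¹ = e (Classical.choose (B.exists_perm a.2)
        (Classical.choose (B.exists_perm b.2) p))
      rw [← (Classical.choose_spec (B.exists_perm a.2)).2, ← (Classical.choose_spec (B.exists_perm b.2)).2]
      group)

theorem ind_spec (n : ↥(normalizer (A e : Set K))) (p : GolayPt) :
    (n : K) * e p * (n : K)⁻¹ = e (((B.ind n : Spor.M23) : Equiv.Perm GolayPt) p) :=
  (Classical.choose_spec (B.exists_perm n.2)).2 p

theorem ind_eq {n : ↥(normalizer (A e : Set K))} {m : Equiv.Perm GolayPt}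
    (h : ∀ p, (n : K) * e p * (n : K)⁻¹ = e (m p)) : ((B.ind n : Spor.M23) : Equiv.Perm GolayPt) = m :=
  B.perm_unique (B.ind_spec n) h

theorem ind_surj : Function.Surjective B.ind := by
  intro m
  obtain ⟨n, hn⟩ := B.full m m.2
  exact ⟨⟨n, mem_normalizer_of hn⟩, Subtype.ext (B.ind_eq hn)⟩

theorem ind_ker (n : ↥(normalizer (A e : Set K))) : B.ind n = 1 ↔ (n : K) ∈ A e := by
  constructor
  · intro h
    apply B.cen
    intro p
    have h1 := B.ind_spec n p
    rw [h] at h1
    have h2 : (n : K) * e p * (n : K)⁻¹ = e p := h1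
    exact mul_inv_eq_iff_eq_mul.1 h2
  · intro h
    apply Subtype.ext
    apply B.ind_eq
    intro p
    show _ = e p
    rw [B.comm' h (mem_A e p), mul_inv_cancel_right]

theorem loc : Uniq.Loc (A e) e (pr e) B.ind where
  sq := fun _ hx => B.sq_A hx
  cardA := B.cardA
  single := pr_singleton
  symm := B.pr_symmDiff
  mem := B.pr_mem
  repr := fun _ hx => B.exists_pr hx
  inj := fun _ _ hS hSc hT hTc h => B.pr_inj hS hSc hT hTc h
  conj := fun n T => by
    rw [SporadicA.GolayPerm.smul_finset_eq_map]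
    exact B.conj_pr (B.ind_spec n) T
  surj := B.ind_surj
  ker := B.ind_ker

theorem cardN : Nat.card (normalizer (A e : Set K)) = 2 ^ 11 * 10200960 := by
  have h1 : Nat.card B.ind.ker * Nat.card B.ind.range = Nat.card (normalizer (A e : Set K)) := by
    rw [← Subgroup.index_ker]
    exact Subgroup.card_mul_index _
  have h2 : Nat.card B.ind.range = 10200960 := by
    rw [MonoidHom.range_eq_top.2 B.ind_surj, Subgroup.card_top]
    exact Cfsg.Agent.SporadicA.MathieuRecog.card_M23
  have h3 : B.ind.ker = (A e).subgroupOf (normalizer (A e : Set K)) := by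
    ext n
    rw [MonoidHom.mem_ker, B.ind_ker, Subgroup.mem_subgroupOf]
  have h4 : Nat.card B.ind.ker = 2 ^ 11 := by
    rw [h3, Nat.card_congr (Subgroup.subgroupOfEquivOfLe le_normalizer).toEquiv, B.cardA]
  rw [← h1, h2, h4]

/-- the centralizer of `A e` -/
theorem self {x : K} (h : ∀ y ∈ A e, x * y = y * x) : x ∈ A e :=
  B.cen x (fun p => h _ (mem_A e p))

end Base

end Cfsg.Agent.KFacts.FiTTh.BasDef
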