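import Cfsg.Agent.KFacts.FiTTh.Uniq
import Cfsg.Agent.OddHalf.D8.Fi23.Facts

/-!
# Fi23, facts on `K` (helper840): fields `uniq` and `inv` of the sheet

`Loc A e pr ind` (Uniq.lean), `[K : N(A)]` odd.

* `Loc.uniq` : in a Sylow 2-subgroup containing `A`, the group `A` is the only elementary abelian subgroup of order
  `≥ 2¹¹`;
* `Loc.exists_conj` : every involution of `K` is conjugate to an element of `A`, if there is an involution `x`
  commuting with the `e p`, `p` in the octad `O`, such that `u = x * (e i * e j) * x` induces a nontrivial element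
  fixing `O` pointwise;
* `inv_of` : the three classes of involutions.
-/

set_option autoImplicit false

namespace Cfsg.Agent.KFacts.FiTTh.Uniq

open Cfsg Subgroup
open Cfsg.Agent.KFacts.FiTTh.MTwThree
open scoped Pointwise

variable {K : Type*} [Group K]

theorem odd_index [Finite K] {A : Subgroup K} (hK : Nat.card K = 4089470473293004800)
    (hN : Nat.card (normalizer (A : Set K)) = 2 ^ 11 * 10200960) : ¬ 2 ∣ (normalizer (A : Set K)).index := by
  have h1 := Subgroup.card_mul_index (normalizer (A : Set K))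
  rw [hK, hN] at h1
  omega

namespace Loc

variable {A : Subgroup K} {e : GolayPt → K} {pr : Finset GolayPt → K}
  {ind : ↥(normalizer (A : Set K)) →* ↥Spor.M23}

/-- there is a Sylow 2-subgroup inside `N(A)` -/
theorem exists_sylow [Finite K] {N : Subgroup K} (hodd : ¬ 2 ∣ N.index) : ∃ P : Sylow 2 K, (P : Subgroup K) ≤ N := by
  obtain ⟨P₀⟩ : Nonempty (Sylow 2 N) := inferInstance
  have h1 : IsPGroup 2 ((P₀ : Subgroup N).map N.subtype) := P₀.isPGroup'.map N.subtype
  have h2 : ¬ 2 ∣ ((P₀ : Subgroup N).map N.subtype).index := by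
    rw [Subgroup.index_map_subtype]
    intro h
    rcases (Nat.Prime.dvd_mul Nat.prime_two).1 h with h | h
    · exact P₀.not_dvd_index h
    · exact hodd h
  refine ⟨h1.toSylow h2, ?_⟩
  rintro _ ⟨x, -, rfl⟩
  exact x.2

/-- a Sylow 2-subgroup containing `A` lies in `N(A)` -/
theorem le_normalizer [Finite K] (h : Loc A e pr ind) (hodd : ¬ 2 ∣ (normalizer (A : Set K)).index)
    (S : Sylow 2 K) (hAS : A ≤ (S : Subgroup K)) : (S : Subgroup K) ≤ normalizer (A : Set K) := by
  obtain ⟨P, hP⟩ := exists_sylow hodd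
  obtain ⟨g, rfl⟩ := MulAction.exists_smul_eq K P S
  have hmem : ∀ x : K, x ∈ (g • P : Sylow 2 K) ↔ g⁻¹ * x * g ∈ P := by
    intro x
    have h0 : x ∈ (g • P : Sylow 2 K) ↔ x ∈ MulAut.conj g • (P : Subgroup K) := Iff.rfl
    rw [h0, Subgroup.mem_pointwise_smul_iff_inv_smul_mem, ← map_inv, MulAut.smul_def, MulAut.conj_apply, inv_inv]
    exact Iff.rfl
  have hE : A.map (MulAut.conj g⁻¹).toMonoidHom = A := by
    apply h.eq_of
    · rintro _ ⟨x, hx, rfl⟩
      have h1 := (hmem x).1 (hAS hx)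
      show g⁻¹ * x * (g⁻¹)⁻¹ ∈ _
      rw [inv_inv]
      exact hP h1
    · rintro _ ⟨x, hx, rfl⟩
      rw [← map_mul, h.sq x hx, map_one]
    · rw [← Nat.card_congr (A.equivMapOfInjective _ (MulAut.conj g⁻¹).injective).toEquiv, h.cardA]
  have hg' : g⁻¹ ∈ normalizer (A : Set K) := by
    rw [mem_normalizer_iff]
    intro x
    constructor
    · intro hx
      have : (MulAut.conj g⁻¹).toMonoidHom x ∈ A.map (MulAut.conj g⁻¹).toMonoidHom := ⟨x, hx, rfl⟩
      rw [hE] at this
      exact this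
    · intro hx
      have hx' : g⁻¹ * x * (g⁻¹)⁻¹ ∈ A := hx
      rw [← hE] at hx'
      obtain ⟨y, hy, hyx⟩ := hx'
      have : y = x := (MulAut.conj g⁻¹).injective hyx
      rw [← this]
      exact hy
  have hg : g ∈ normalizer (A : Set K) := by
    have := (normalizer (A : Set K)).inv_mem hg'
    rwa [inv_inv] at this
  intro x hx
  have h1 := hP ((hmem x).1 hx)
  have h2 := (normalizer (A : Set K)).mul_mem ((normalizer (A : Set K)).mul_mem hg h1) hg'
  rwa [show g * (g⁻¹ * x * g) * g⁻¹ = x by group] at h2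

/-- field `uniq` of the sheet -/
theorem uniq [Finite K] (h : Loc A e pr ind) (hodd : ¬ 2 ∣ (normalizer (A : Set K)).index)
    (S : Sylow 2 K) (hAS : A ≤ (S : Subgroup K)) :
    ∀ B : Subgroup K, B ≤ (S : Subgroup K) → (∀ x ∈ B, x * x = 1) → 2 ^ 11 ≤ Nat.card B → B = A :=
  fun _ hB h2 hc => h.eq_of (hB.trans (h.le_normalizer hodd S hAS)) h2 hc

/-- every 2-element is conjugate into `N(A)` -/
theorem exists_conj_normalizer [Finite K] {N : Subgroup K} (hodd : ¬ 2 ∣ N.index) {t : K} (ht : t * t = 1) :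
    ∃ g : K, g * t * g⁻¹ ∈ N := by
  obtain ⟨P, hP⟩ := exists_sylow hodd
  have h1 : IsPGroup 2 (zpowers t) := by
    rintro ⟨x, hx⟩
    refine ⟨1, ?_⟩
    obtain ⟨k, rfl⟩ := mem_zpowers_iff.1 hx
    apply Subtype.ext
    show (t ^ k) ^ 2 ^ 1 = 1
    rw [pow_one, pow_two, ← zpow_add, ← two_mul, zpow_mul, zpow_two, ht, one_zpow]
  obtain ⟨Q, hQ⟩ := h1.exists_le_sylow
  obtain ⟨g, hg⟩ := MulAction.exists_smul_eq K Q P
  refine ⟨g, hP ?_⟩
  rw [← hg]
  have h0 : g * t * g⁻¹ ∈ MulAut.conj g • (Q : Subgroup K) :=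
    ⟨t, hQ (mem_zpowers t), rfl⟩
  exact h0

theorem insert_eq (h : Loc A e pr ind) {p : GolayPt} {T : Finset GolayPt} (hp : p ∉ T) :
    pr (insert p T) = e p * pr T := by
  rw [← h.single, ← h.symm]
  congr 1
  have h1 : Disjoint ({p} : Finset GolayPt) T := Finset.disjoint_singleton_left.2 hp
  rw [h1.symmDiff_eq_sup]
  rfl

/-- an element commuting with the `e p`, `p ∈ T`, commutes with `pr T` -/
theorem comm_pr (h : Loc A e pr ind) {x : K} {T : Finset GolayPt} (hx : ∀ p ∈ T, x * e p = e p * x) :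
    x * pr T = pr T * x := by
  induction T using Finset.induction_on with
  | empty => rw [h.empty, mul_one, one_mul]
  | insert p T hp ih =>
    rw [h.insert_eq hp, ← mul_assoc, hx p (Finset.mem_insert_self _ _), mul_assoc,
      ih (fun q hq => hx q (Finset.mem_insert_of_mem hq)), mul_assoc]

/-- every involution is conjugate to an element of `A` -/
theorem exists_conj [Finite K] (h : Loc A e pr ind) (hodd : ¬ 2 ∣ (normalizer (A : Set K)).index)
    {x : K} {i j : GolayPt} {O : Finset GolayPt} (hO : O ∈ octads) (hx : x * x = 1)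
    (hxO : ∀ p ∈ O, x * e p = e p * x) (hN : x * (e i * e j) * x ∈ normalizer (A : Set K))
    (hfix : ∀ p ∈ O, ((ind ⟨_, hN⟩ : Spor.M23) : Equiv.Perm GolayPt) p = p)
    (hne : ((ind ⟨_, hN⟩ : Spor.M23) : Equiv.Perm GolayPt) ≠ 1) {t : K} (ht : t * t = 1) :
    ∃ y ∈ A, IsConj t y := by
  classical
  set u : K := x * (e i * e j) * x with hu
  set τ : Equiv.Perm GolayPt := ((ind ⟨u, hN⟩ : Spor.M23) : Equiv.Perm GolayPt) with hτ
  have hmem : ∀ p, e p ∈ A := fun p => by rw [← h.single]; exact h.mem _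
  have huu : u * u = 1 := by
    have h1 : (e i * e j) * (e i * e j) = 1 := h.sq _ (A.mul_mem (hmem i) (hmem j))
    calc u * u = x * ((e i * e j) * (x * x) * (e i * e j)) * x := by rw [hu]; group
      _ = 1 := by rw [hx, mul_one, h1, mul_one, hx]
  have huinv : u⁻¹ = u := inv_eq_of_mul_eq_one_left huu
  have hxinv : x⁻¹ = x := inv_eq_of_mul_eq_one_left hx
  have hττ : τ * τ = 1 := by
    have h1 : (⟨u, hN⟩ : ↥(normalizer (A : Set K))) * ⟨u, hN⟩ = 1 := Subtype.ext huu
    have h2 := congrArg ind h1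
    rw [map_mul, map_one] at h2
    exact congrArg Subtype.val h2
  have hτM : τ ∈ Spor.M23 := (ind ⟨u, hN⟩).2
  have hτO : ∀ p, τ p = p ↔ p ∈ O := by
    obtain ⟨O', hO', -, h'⟩ := exists_octad hτM hττ hne
    have hsub : O ⊆ O' := fun p hp => (h' p).1 (hfix p hp)
    have heq : O = O' := Finset.eq_of_subset_of_card_le hsub (by
      rw [Cfsg.Agent.SporadicA.GolayBase.octad_card hO', Cfsg.Agent.SporadicA.GolayBase.octad_card hO])
    rw [heq]
    exact h'
  -- the case `T ⊆ O`
  have case1 : ∀ T : Finset GolayPt, T ⊆ O → ∃ y ∈ A, IsConj (u * pr T) y := by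
    intro T hT
    have h1 : x * pr T = pr T * x := h.comm_pr (fun p hp => hxO p (hT hp))
    refine ⟨e i * e j * pr T, A.mul_mem (A.mul_mem (hmem i) (hmem j)) (h.mem T), ?_⟩
    rw [isConj_iff]
    refine ⟨x, ?_⟩
    calc x * (u * pr T) * x⁻¹ = (x * x) * (e i * e j) * (x * pr T) * x⁻¹ := by rw [hu]; group
      _ = e i * e j * pr T := by rw [hx, h1]; group
  -- the case `t = u * pr T`
  have case2 : ∀ T : Finset GolayPt, T.card ≤ 3 → τ • T = T → ∃ y ∈ A, IsConj (u * pr T) y := by
    intro T hc hT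
    by_cases hTO : T ⊆ O
    · exact case1 T hTO
    · obtain ⟨k, hk, hkO⟩ := Finset.not_subset.1 hTO
      have hinvT : ∀ p ∈ T, τ p ∈ T := fun p hp => by
        rw [← hT]; exact Finset.smul_mem_smul_finset hp
      have hvv : ∀ p, τ (τ p) = p := fun p => by rw [← Equiv.Perm.mul_apply, hττ, Equiv.Perm.one_apply]
      have hkk : τ k ≠ k := fun he => hkO ((hτO k).1 he)
      have hk' : τ k ∈ T.erase k := Finset.mem_erase.2 ⟨hkk, hinvT k hk⟩
      set T' : Finset GolayPt := (T.erase k).erase (τ k) with hT'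
      have e1 : pr T = e k * (e (τ k) * pr T') := by
        rw [← h.insert_eq (Finset.notMem_erase _ _), Finset.insert_erase hk',
          ← h.insert_eq (Finset.notMem_erase _ _), Finset.insert_erase hk]
      have hcT : T'.card + 2 = T.card := by
        have a1 : T'.card + 1 = (T.erase k).card := Finset.card_erase_add_one hk'
        have a2 := Finset.card_erase_add_one hk
        omega
      have hT'O : T' ⊆ O := by
        intro q hq
        rw [← hτO]
        by_contra hqq
        have hqT : q ∈ T := Finset.mem_of_mem_erase (Finset.mem_of_mem_erase hq)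
        have hq1 : q ≠ τ k := Finset.ne_of_mem_erase hq
        have hq2 : q ≠ k := Finset.ne_of_mem_erase (Finset.mem_of_mem_erase hq)
        have hq' : τ q ∈ T' := by
          refine Finset.mem_erase.2 ⟨fun he => hq2 (τ.injective he), Finset.mem_erase.2 ⟨fun he => hq1 ?_, hinvT q hqT⟩⟩
          rw [← he, hvv]
        have h2 : ({q, τ q} : Finset GolayPt) ⊆ T' := by
          intro r hr
          rw [Finset.mem_insert, Finset.mem_singleton] at hr
          rcases hr with rfl | rfl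
          · exact hq
          · exact hq'
        have h3 := Finset.card_le_card h2
        rw [Finset.card_pair (fun he => hqq he.symm)] at h3
        omega
      obtain ⟨y, hy, hyc⟩ := case1 T' hT'O
      refine ⟨y, hy, IsConj.trans ?_ hyc⟩
      rw [isConj_iff]
      refine ⟨e k, ?_⟩
      have h4 : u * e (τ k) * u⁻¹ = e k := by
        have := h.conj_single ⟨u, hN⟩ (τ k)
        rw [← hτ, hvv] at this
        exact this
      have h5 : e k * u = u * e (τ k) := by
        rw [← h4]; group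
      have h6 : (e k)⁻¹ = e k := h.inv_eq (hmem k)
      have h7 : e (τ k) * e k = e k * e (τ k) := h.comm (hmem _) (hmem _)
      have h8 : pr T' * e k = e k * pr T' := h.comm (h.mem _) (hmem _)
      have h9 : e (τ k) * e (τ k) = 1 := h.sq _ (hmem _)
      have h10 : e k * e k = 1 := h.sq _ (hmem _)
      calc e k * (u * pr T) * (e k)⁻¹ = (e k * u) * (e k * e (τ k)) * (pr T' * e k) := by
            rw [h6, e1]; group
        _ = u * e (τ k) * (e k * e (τ k)) * (e k * pr T') := by rw [h5, h8]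
        _ = u * e (τ k) * (e (τ k) * e k) * (e k * pr T') := by rw [h7]
        _ = u * (e (τ k) * e (τ k)) * (e k * e k) * pr T' := by group
        _ = u * pr T' := by rw [h9, h10, mul_one, mul_one]
  -- the case `t ∈ N(A)`
  have case3 : ∀ t ∈ normalizer (A : Set K), t * t = 1 → ∃ y ∈ A, IsConj t y := by
    intro t htN ht
    by_cases htA : t ∈ A
    · exact ⟨t, htA, IsConj.refl t⟩
    · have h1 : (ind ⟨t, htN⟩ : Spor.M23) ≠ 1 := fun he => htA ((h.ker _).1 he)
      have h2 : (ind ⟨t, htN⟩ : Spor.M23) * ind ⟨t, htN⟩ = 1 := by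
        rw [← map_mul, show (⟨t, htN⟩ : ↥(normalizer (A : Set K))) * ⟨t, htN⟩ = 1 from Subtype.ext ht, map_one]
      obtain ⟨k, hk, hkc⟩ := conj_of (ind ⟨t, htN⟩).2 hτM (congrArg Subtype.val h2) hττ
        (fun he => h1 (Subtype.ext he)) hne
      obtain ⟨n, hn⟩ := h.surj ⟨k, hk⟩
      have h3 : ind (⟨u, hN⟩⁻¹ * (n * ⟨t, htN⟩ * n⁻¹)) = 1 := by
        apply Subtype.ext
        rw [map_mul, map_mul, map_mul, map_inv, map_inv, hn]
        show τ⁻¹ * (k * ((ind ⟨t, htN⟩ : Spor.M23) : Equiv.Perm GolayPt) * k⁻¹) = 1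
        rw [hkc, inv_mul_cancel]
      have ha : u⁻¹ * ((n : K) * t * (n : K)⁻¹) ∈ A := (h.ker _).1 h3
      obtain ⟨T, hT0, hTc, hT⟩ := h.repr _ ha
      have h4 : (n : K) * t * (n : K)⁻¹ = u * pr T := by rw [← hT]; group
      have h5 : (u * pr T) * (u * pr T) = 1 := by
        rw [← h4]
        calc (n : K) * t * (n : K)⁻¹ * ((n : K) * t * (n : K)⁻¹) = (n : K) * (t * t) * (n : K)⁻¹ := by group
          _ = 1 := by rw [ht]; group
      have h6 : u * pr T * u⁻¹ = pr T := by
        have h7 : (pr T)⁻¹ = pr T := h.inv_eq (h.mem T)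
        have h8 : u * pr T * u = (pr T)⁻¹ := by
          rw [eq_inv_iff_mul_eq_one, ← h5]; group
        rw [huinv, h8, h7]
      have h7 : τ • T = T := by
        have h8 := h.conj ⟨u, hN⟩ T
        rw [← hτ] at h8
        have h9 : none ∉ τ • T := by
          intro hn
          obtain ⟨q, hq, hqn⟩ := Finset.mem_smul_finset.1 hn
          apply hT0
          have : τ q = τ none := by rw [(mem_M23.1 hτM).2]; exact hqn
          rw [← τ.injective this]
          exact hq
        exact h.inj _ _ h9 (by rw [Finset.card_smul_finset]; exact hTc) hT0 hTc (h8.symm.trans h6)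
      obtain ⟨y, hy, hyc⟩ := case2 T hTc h7
      refine ⟨y, hy, IsConj.trans ?_ hyc⟩
      rw [← h4, isConj_iff]
      exact ⟨n, rfl⟩
  obtain ⟨g, hg⟩ := exists_conj_normalizer hodd ht
  obtain ⟨y, hy, hyc⟩ := case3 _ hg (by
    calc g * t * g⁻¹ * (g * t * g⁻¹) = g * (t * t) * g⁻¹ := by group
      _ = 1 := by rw [ht]; group)
  exact ⟨y, hy, IsConj.trans (isConj_iff.2 ⟨g, rfl⟩) hyc⟩

end Loc

theorem exists_third (i j : Fin 23) : ∃ k, i ≠ k ∧ j ≠ k := by
  revert i j; decide +kernel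

theorem exists_second (i : Fin 23) : ∃ k, i ≠ k := by
  revert i; decide

/-- field `inv` of the sheet -/
theorem inv_of {A : Subgroup K} {a : Fin 23 → K} (sq : ∀ x ∈ A, x * x = 1) (mem : ∀ i, a i ∈ A)
    (shape : ∀ x ∈ A, x = 1 ∨ (∃ i, x = a i) ∨ (∃ i j, x = a i * a j) ∨ ∃ i j k, x = a i * a j * a k)
    (three : ∀ i j k i' j' k' : Fin 23, i ≠ j → i ≠ k → j ≠ k → i' ≠ j' → i' ≠ k' → j' ≠ k' →
      ∃ n ∈ normalizer (A : Set K), n * a i * n⁻¹ = a i' ∧ n * a j * n⁻¹ = a j' ∧ n * a k * n⁻¹ = a k')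
    (hA : ∀ t : K, t * t = 1 → ∃ y ∈ A, IsConj t y) :
    ∀ x : K, x * x = 1 → x ≠ 1 → IsConj x (a 0) ∨ IsConj x (a 0 * a 1) ∨ IsConj x (a 0 * a 1 * a 2) := by
  have hinv : ∀ x ∈ A, x⁻¹ = x := fun x hx => inv_eq_of_mul_eq_one_left (sq x hx)
  have hcomm : ∀ x ∈ A, ∀ y ∈ A, x * y = y * x := by
    intro x hx y hy
    have h2 : (x * y)⁻¹ = x * y := hinv _ (A.mul_mem hx hy)
    rw [← h2, mul_inv_rev, hinv x hx, hinv y hy]
  have c1 : ∀ i, IsConj (a i) (a 0) := by
    intro i
    obtain ⟨j, hj⟩ := exists_second i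
    obtain ⟨k, hk, hk'⟩ := exists_third i j
    obtain ⟨n, -, h1, -, -⟩ := three i j k 0 1 2 hj hk hk' (by decide) (by decide) (by decide)
    exact isConj_iff.2 ⟨n, h1⟩
  have c2 : ∀ i j, i ≠ j → IsConj (a i * a j) (a 0 * a 1) := by
    intro i j hij
    obtain ⟨k, hk, hk'⟩ := exists_third i j
    obtain ⟨n, -, h1, h2, -⟩ := three i j k 0 1 2 hij hk hk' (by decide) (by decide) (by decide)
    refine isConj_iff.2 ⟨n, ?_⟩
    rw [← h1, ← h2]; group
  have c3 : ∀ i j k, i ≠ j → i ≠ k → j ≠ k → IsConj (a i * a j * a k) (a 0 * a 1 * a 2) := by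
    intro i j k hij hik hjk
    obtain ⟨n, -, h1, h2, h3⟩ := three i j k 0 1 2 hij hik hjk (by decide) (by decide) (by decide)
    refine isConj_iff.2 ⟨n, ?_⟩
    rw [← h1, ← h2, ← h3]; group
  intro x hx hx1
  obtain ⟨y, hy, hxy⟩ := hA x hx
  have hy1 : y ≠ 1 := fun he => hx1 (by rw [he] at hxy; exact isConj_one_left.1 hxy)
  rcases shape y hy with rfl | ⟨i, rfl⟩ | ⟨i, j, rfl⟩ | ⟨i, j, k, rfl⟩
  · exact absurd rfl hy1
  · exact Or.inl (hxy.trans (c1 i))
  · by_cases hij : i = j
    · subst hij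
      exact absurd (sq _ (mem i)) hy1
    · exact Or.inr (Or.inl (hxy.trans (c2 i j hij)))
  · by_cases hij : i = j
    · subst hij
      rw [sq _ (mem i), one_mul] at hxy
      exact Or.inl (hxy.trans (c1 k))
    · by_cases hjk : j = k
      · subst hjk
        rw [mul_assoc, sq _ (mem j), mul_one] at hxy
        exact Or.inl (hxy.trans (c1 i))
      · by_cases hik : i = k
        · subst hik
          rw [hcomm _ (mem i) _ (mem j), mul_assoc, sq _ (mem i), mul_one] at hxy
          exact Or.inl (hxy.trans (c1 j))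
        · exact Or.inr (Or.inr (hxy.trans (c3 i j k hij hik hjk)))

end Cfsg.Agent.KFacts.FiTTh.Uniq
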