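import Cfsg.Agent.KFacts.FiTTh.BasFi
import Cfsg.Agent.KFacts.FiTTh.BasLoc
import Cfsg.Agent.KFacts.FiTTh.Inv

/-!
# `2^11 : M23` in the presented group `Fi23`: `Base`, `Loc`, and the fields `uniq` and `inv` of the sheet (helper840)
-/

set_option autoImplicit false
set_option linter.constructorNameAsVariable false

namespace Cfsg.Agent.KFacts.FiTTh.BasInv

open Cfsg Subgroup
open Cfsg.Agent.KFacts.FiTTh.BasDef Cfsg.Agent.KFacts.FiTTh.BasFi
open Cfsg.Agent.KFacts.FiTTh.BasTau (tau)
open Cfsg.Agent.KFacts.FiTTh.BasChk (octB tau4_octB tau4_zero)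
open Cfsg.Agent.Fischer.Fi23Simple (card_Fi23)
open Cfsg.Agent.Fischer.Fi23Final (gen_sq)
open Cfsg.Agent.Fischer.Fi23Hom
open Cfsg.Spor Cfsg.Spor.Fi23

theorem base : Base e := BasFi.base pre.cardA

theorem loc : Uniq.Loc (A e) e (pr e) base.ind := base.loc

theorem cardN : Nat.card (normalizer (A e : Set Fi23)) = 2 ^ 11 * 10200960 := base.cardN

theorem hodd : ¬ 2 ∣ (normalizer (A e : Set Fi23)).index := Uniq.odd_index card_Fi23 cardN

theorem finite : Finite Fi23 := Nat.finite_of_card_ne_zero (by rw [card_Fi23]; norm_num)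

/-- field `uniq` -/
theorem uniq (S : Sylow 2 Fi23) (hAS : A e ≤ (S : Subgroup Fi23)) :
    ∀ B : Subgroup Fi23, B ≤ (S : Subgroup Fi23) → (∀ x ∈ B, x * x = 1) → 2 ^ 11 ≤ Nat.card B → B = A e := by
  have := finite
  exact loc.uniq hodd S hAS

/-- every involution is conjugate to an element of `A e` -/
theorem exists_conj {t : Fi23} (ht : t * t = 1) : ∃ y ∈ A e, IsConj t y := by
  have := finite
  have hN : gen .b * (e (some 0) * e (some 1)) * gen .b ∈ normalizer (A e : Set Fi23) :=
    Base.mem_normalizer_of b_conj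
  have hind : ((base.ind ⟨_, hN⟩ : Spor.M23) : Equiv.Perm GolayPt) = tau 4 := base.ind_eq b_conj
  refine loc.exists_conj hodd (x := gen .b) (i := some 0) (j := some 1) (O := octB.toFinset) octB_mem
    (gen_sq .b) (fun p hp => b_comm (List.mem_toFinset.1 hp)) hN (fun p hp => ?_) ?_ ht
  · rw [hind]
    exact tau4_octB p (List.mem_toFinset.1 hp)
  · rw [hind]
    intro h1
    have h2 := tau4_zero
    rw [h1] at h2
    have h3 : (some 0 : GolayPt) = some 1 := h2
    exact absurd h3 (by decide)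

end Cfsg.Agent.KFacts.FiTTh.BasInv
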