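import Cfsg.Agent.KFacts.FiTTh.Inv
import Cfsg.Agent.KFacts.FiTTh.BasCode
import Cfsg.Agent.J4Type.OuterM22

/-!
# Fi23, facts on `K` (helper8): the fields of the sheet which only need `Loc`

`Loc A e pr ind` (Uniq.lean), `a i = e (some (s i))` for a bijection `s : Fin 23 ≃ ZMod 23`.

* `nine` : an element of `M24` fixing nine points is trivial;
* `self mem shape perm four three fix exists_S` : fields of `OddHalf.D8.Fi23.Sheet`.
-/

set_option autoImplicit false

namespace Cfsg.Agent.KFacts.FiTTh.BasSheet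

open Cfsg Subgroup
open Cfsg.Agent.SporadicA.GolayBase Cfsg.Agent.SporadicStructure
open Cfsg.Agent.KFacts.FiTTh.Uniq
open scoped Pointwise

/-! ### Nine fixed points -/

theorem eq_octad_or {O O' : Finset GolayPt} (hO : O ∈ octads) (hO' : O' ∈ octads)
    (h3 : 3 ≤ (O ∩ O').card) : O = O' ∨ (O ∩ O').card = 4 := by
  by_cases h : O = O'
  · exact Or.inl h
  · rcases Cfsg.Agent.J4Type.DuadM24.inter_card hO hO' h (by omega) with h1 | h1
    · omega
    · exact Or.inr h1

/-- an element of order 3 fixing nine points is trivial -/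
theorem seven_three {g : Equiv.Perm GolayPt} (hg : g ∈ M24) (h3 : g ^ 3 = 1) {F : Finset GolayPt}
    (hF : 7 ≤ F.card) (hno : ∀ o ∈ octads, ∃ x ∈ F, x ∉ o) (hfix : ∀ x ∈ F, g x = x) : g = 1 := by
  classical
  by_contra h1
  have f3 : Fact (Nat.Prime 3) := ⟨Nat.prime_three⟩
  have hB : ∀ o ∈ octads, ∀ s ⊆ o, (∀ x ∈ s, g x = x) → s.card ≤ 5 := by
    intro o ho s hs hsf
    by_contra hlt
    obtain ⟨q, hq, hqo⟩ := hno o ho
    exact h1 (M24Frame.eq_one_of_fix_frame hg ho hs (by omega) hsf hqo (hfix q hq))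
  obtain ⟨T, hT, hT7⟩ := Finset.exists_subset_card_eq (show 7 ≤ F.card by omega)
  obtain ⟨S, hS, hS5⟩ := Finset.exists_subset_card_eq (show 5 ≤ T.card by omega)
  obtain ⟨R, hR, hR3⟩ := Finset.exists_subset_card_eq (show 3 ≤ S.card by omega)
  have hTS : (T \ S).card = 2 := by rw [Finset.card_sdiff_of_subset hS]; omega
  have hdis : Disjoint R (T \ S) := by
    rw [Finset.disjoint_left]
    intro x hx hx'
    exact (Finset.mem_sdiff.1 hx').2 (hR hx)
  set S' : Finset GolayPt := R ∪ (T \ S) with hS'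
  have hS'5 : S'.card = 5 := by rw [hS', Finset.card_union_of_disjoint hdis]; omega
  have hSF : S ⊆ F := hS.trans hT
  have hS'F : S' ⊆ F := by
    intro x hx
    rcases Finset.mem_union.1 hx with hx | hx
    · exact hSF (hR hx)
    · exact hT (Finset.mem_sdiff.1 hx).1
  have hSS' : S ∩ S' = R := by
    ext x
    rw [Finset.mem_inter, hS', Finset.mem_union, Finset.mem_sdiff]
    constructor
    · rintro ⟨hx, hx' | hx'⟩
      · exact hx'
      · exact absurd hx hx'.2
    · intro hx
      exact ⟨hR hx, Or.inl hx⟩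
  obtain ⟨o, ⟨ho, hSo⟩, -⟩ := Cfsg.Agent.S0363.result.2 S hS5
  obtain ⟨o', ⟨ho', hSo'⟩, -⟩ := Cfsg.Agent.S0363.result.2 S' hS'5
  have hgo : g • o = o := M24Frame.smul_octad_eq_of_five hg ho ho hSo (by omega)
    (fun z hz => by rw [hfix z (hSF hz)]; exact hSo hz)
  have hgo' : g • o' = o' := M24Frame.smul_octad_eq_of_five hg ho' ho' hSo' (by omega)
    (fun z hz => by rw [hfix z (hS'F hz)]; exact hSo' hz)
  have inv : ∀ {o : Finset GolayPt}, g • o = o → ∀ x ∈ o, g x ∈ o := by
    intro o ho x hx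
    have := Finset.smul_mem_smul_finset (a := g) hx
    rwa [ho] at this
  have hfilt : ∀ {o S : Finset GolayPt}, o ∈ octads → S ⊆ o → S ⊆ F → S.card = 5 →
      ∀ x ∈ o, g x = x → x ∈ S := by
    intro o S ho hSo hSF hS5 x hx hgx
    by_contra hxS
    have := hB o ho (insert x S) (Finset.insert_subset hx hSo) (by
      intro y hy
      rcases Finset.mem_insert.1 hy with rfl | hy
      · exact hgx
      · exact hfix y (hSF hy))
    rw [Finset.card_insert_of_notMem hxS] at this
    omega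
  have hne : o ≠ o' := by
    rintro rfl
    have := hB o ho (S ∪ S') (Finset.union_subset hSo hSo') (by
      intro y hy
      rcases Finset.mem_union.1 hy with hy | hy
      · exact hfix y (hSF hy)
      · exact hfix y (hS'F hy))
    have h2 := Finset.card_union_add_card_inter S S'
    rw [hSS'] at h2
    omega
  have hY : ∀ x ∈ o ∩ o', g x ∈ o ∩ o' := by
    intro x hx
    rw [Finset.mem_inter] at hx ⊢
    exact ⟨inv hgo x hx.1, inv hgo' x hx.2⟩
  have hfx : (o ∩ o').filter (fun x => g x = x) = R := by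
    ext x
    rw [Finset.mem_filter, Finset.mem_inter]
    constructor
    · rintro ⟨⟨hx, hx'⟩, hgx⟩
      rw [← hSS', Finset.mem_inter]
      exact ⟨hfilt ho hSo hSF hS5 x hx hgx, hfilt ho' hSo' hS'F hS'5 x hx' hgx⟩
    · intro hx
      have hx1 : x ∈ S ∩ S' := by rw [hSS']; exact hx
      rw [Finset.mem_inter] at hx1
      exact ⟨⟨hSo hx1.1, hSo' hx1.2⟩, hfix x (hSF hx1.1)⟩
  have hmod := Cfsg.Agent.J4Type.OuterM22.card_fixed_modEq h3 hY
  rw [hfx, hR3] at hmod
  have h3' : 3 ≤ (o ∩ o').card := by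
    rw [← hR3, ← hfx]
    exact Finset.card_filter_le _ _
  rcases eq_octad_or ho ho' h3' with h | h
  · exact hne h
  · rw [h] at hmod
    exact absurd hmod (by decide)

theorem nine_three {g : Equiv.Perm GolayPt} (hg : g ∈ M24) (h3 : g ^ 3 = 1) {F : Finset GolayPt}
    (hF : 9 ≤ F.card) (hfix : ∀ x ∈ F, g x = x) : g = 1 := by
  refine seven_three hg h3 (by omega) (fun o ho => ?_) hfix
  by_contra hcon
  push Not at hcon
  have := Finset.card_le_card (s := F) (t := o) hcon
  rw [octad_card ho] at this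
  omega

/-- an element of `M24` fixing nine points is trivial -/
theorem nine {g : Equiv.Perm GolayPt} (hg : g ∈ M24) {F : Finset GolayPt}
    (hF : 9 ≤ F.card) (hfix : ∀ x ∈ F, g x = x) : g = 1 := by
  by_contra h1
  have hn : orderOf g ≠ 1 := fun h => h1 (orderOf_eq_one_iff.1 h)
  obtain ⟨p, hp, hpd⟩ := Nat.exists_prime_and_dvd hn
  have fp : Fact p.Prime := ⟨hp⟩
  have hpos : 0 < orderOf g := orderOf_pos g
  set k := orderOf g / p with hk
  have hkp : k * p = orderOf g := Nat.div_mul_cancel hpd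
  have hg' : (g ^ k) ^ p = 1 := by rw [← pow_mul, hkp, pow_orderOf_eq_one]
  have hgM : g ^ k ∈ M24 := M24.pow_mem hg k
  have hfix' : ∀ x ∈ F, (g ^ k) x = x := by
    intro x hx
    exact Function.IsFixedPt.perm_pow (hfix x hx) k
  have h2 : g ^ k = 1 := by
    by_cases hp3 : p = 3
    · subst hp3
      exact nine_three hgM hg' hF hfix'
    · exact Cfsg.Agent.J4Type.OuterM22.eq_one_of_nine hp3 hgM hg' hF hfix'
  have h4 : orderOf g ∣ k := orderOf_dvd_of_pow_eq_one h2
  have hk0 : 0 < k := Nat.pos_of_ne_zero (fun h => by rw [h, zero_mul] at hkp; omega)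
  have h5 := Nat.le_of_dvd hk0 h4
  have h6 := hp.two_le
  nlinarith

/-! ### The fields -/

variable {K : Type*} [Group K] {A : Subgroup K} {e : GolayPt → K} {pr : Finset GolayPt → K}
  {ind : ↥(normalizer (A : Set K)) →* ↥Spor.M23}

theorem ind_none (n : ↥(normalizer (A : Set K))) : ((ind n : Spor.M23) : Equiv.Perm GolayPt) none = none :=
  (MTwThree.mem_M23.1 (ind n).2).2

theorem e_inj (h : Loc A e pr ind) {p q : GolayPt} (hp : p ≠ none) (hq : q ≠ none) (he : e p = e q) : p = q := by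
  have h1 := h.inj {p} {q} (fun hn => hp (Finset.mem_singleton.1 hn).symm) (by rw [Finset.card_singleton]; omega)
    (fun hn => hq (Finset.mem_singleton.1 hn).symm) (by rw [Finset.card_singleton]; omega)
    (by rw [h.single, h.single, he])
  exact Finset.singleton_injective h1

/-- field `self` -/
theorem self (h : Loc A e pr ind) : ∀ x : K, (∀ y ∈ A, x * y = y * x) → x ∈ A := by
  intro x hx
  have hN : x ∈ normalizer (A : Set K) := by
    rw [mem_normalizer_iff]
    intro y
    constructor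
    · intro hy
      rw [hx y hy]; rwa [mul_inv_cancel_right]
    · intro hy
      have h1 := hx _ hy
      have h2 : x * y * x⁻¹ = y := by
        have h3 : x * (x * y * x⁻¹) = x * y := by rw [h1]; group
        exact mul_left_cancel h3
      rwa [h2] at hy
  refine (h.ker ⟨x, hN⟩).1 ?_
  apply Subtype.ext
  ext1 p
  by_cases hp : p = none
  · rw [hp]; exact ind_none _
  · show ((ind ⟨x, hN⟩ : Spor.M23) : Equiv.Perm GolayPt) p = p
    refine e_inj h (fun hn => hp ?_) hp ?_
    · have := (ind_none (ind := ind) ⟨x, hN⟩).symm.trans (by rw [← hn]) |>.symm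
      rw [← ind_none (ind := ind) ⟨x, hN⟩] at hn
      exact (Equiv.injective _ hn)
    · rw [← h.conj_single ⟨x, hN⟩ p]
      have h1 : e p ∈ A := by rw [← h.single]; exact h.mem _
      show x * e p * x⁻¹ = e p
      rw [hx _ h1]; group

variable (s : Fin 23 ≃ ZMod 23)

/-- field `mem` -/
theorem mem (h : Loc A e pr ind) : ∀ i, e (some (s i)) ∈ A := by
  intro i
  rw [← h.single]; exact h.mem _

/-- field `shape` -/
theorem shape (h : Loc A e pr ind) : ∀ x ∈ A, x = 1 ∨ (∃ i, x = e (some (s i))) ∨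
    (∃ i j, x = e (some (s i)) * e (some (s j))) ∨
    ∃ i j k, x = e (some (s i)) * e (some (s j)) * e (some (s k)) := by
  intro x hx
  obtain ⟨T, hT, hc, rfl⟩ := h.repr x hx
  have hs : ∀ p ∈ T, ∃ i, p = some (s i) := by
    intro p hp
    rcases p with _ | q
    · exact absurd hp hT
    · exact ⟨s.symm q, by rw [Equiv.apply_symm_apply]⟩
  have hc' : T.card = 0 ∨ T.card = 1 ∨ T.card = 2 ∨ T.card = 3 := by omega
  rcases hc' with h0 | h0 | h0 | h0
  · rw [Finset.card_eq_zero.1 h0]
    exact Or.inl h.empty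
  · obtain ⟨p, rfl⟩ := Finset.card_eq_one.1 h0
    obtain ⟨i, rfl⟩ := hs p (Finset.mem_singleton_self _)
    exact Or.inr (Or.inl ⟨i, h.single _⟩)
  · obtain ⟨p, q, hpq, rfl⟩ := Finset.card_eq_two.1 h0
    obtain ⟨i, rfl⟩ := hs p (by simp)
    obtain ⟨j, rfl⟩ := hs q (by simp)
    exact Or.inr (Or.inr (Or.inl ⟨i, j, h.pair hpq⟩))
  · obtain ⟨p, q, r, hpq, hpr, hqr, rfl⟩ := Finset.card_eq_three.1 h0
    obtain ⟨i, rfl⟩ := hs p (by simp)
    obtain ⟨j, rfl⟩ := hs q (by simp)
    obtain ⟨k, rfl⟩ := hs r (by simp)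
    refine Or.inr (Or.inr (Or.inr ⟨i, j, k, ?_⟩))
    rw [h.insert_eq (by simp [hpq, hpr]), h.pair hqr, mul_assoc]

/-- field `perm` -/
theorem perm (h : Loc A e pr ind) : ∀ n ∈ normalizer (A : Set K), ∀ i,
    ∃ j, n * e (some (s i)) * n⁻¹ = e (some (s j)) := by
  intro n hn i
  have h1 := h.conj_single ⟨n, hn⟩ (some (s i))
  rcases hq : ((ind ⟨n, hn⟩ : Spor.M23) : Equiv.Perm GolayPt) (some (s i)) with _ | q
  · exfalso
    have h2 : ((ind ⟨n, hn⟩ : Spor.M23) : Equiv.Perm GolayPt) (some (s i)) =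
        ((ind ⟨n, hn⟩ : Spor.M23) : Equiv.Perm GolayPt) none := by rw [hq, ind_none]
    exact absurd (Equiv.injective _ h2) (by simp)
  · refine ⟨s.symm q, ?_⟩
    rw [Equiv.apply_symm_apply, ← hq]
    exact h1

/-- `N(A)` is 4-transitive on the 23 points -/
theorem four (h : Loc A e pr ind) (x y : Fin 4 ↪ ZMod 23) :
    ∃ n ∈ normalizer (A : Set K), ∀ i, n * e (some (x i)) * n⁻¹ = e (some (y i)) := by
  have hemb : ∀ f : Fin 4 ↪ ZMod 23, Function.Injective (Fin.cons none (fun i => some (f i)) : Fin 5 → GolayPt) := by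
    intro f
    rw [Fin.cons_injective_iff]
    refine ⟨?_, fun i j hij => f.injective (Option.some_injective _ hij)⟩
    rintro ⟨i, hi⟩
    exact absurd hi (by simp)
  obtain ⟨m, hm⟩ := BasCode.exists_map_emb (n := 5) (by norm_num) ⟨_, hemb x⟩ ⟨_, hemb y⟩
  have hm0 : (m : Equiv.Perm GolayPt) none = none := hm 0
  obtain ⟨n, hn⟩ := h.surj ⟨(m : Equiv.Perm GolayPt), MTwThree.mem_M23.2 ⟨m.2, hm0⟩⟩
  refine ⟨n, n.2, fun i => ?_⟩
  rw [h.conj_single n, hn]
  have := hm (Fin.succ i)
  exact congrArg e this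

/-- field `three` -/
theorem three (h : Loc A e pr ind) : ∀ i j k i' j' k' : Fin 23, i ≠ j → i ≠ k → j ≠ k → i' ≠ j' → i' ≠ k' → j' ≠ k' →
    ∃ n ∈ normalizer (A : Set K), n * e (some (s i)) * n⁻¹ = e (some (s i')) ∧
      n * e (some (s j)) * n⁻¹ = e (some (s j')) ∧ n * e (some (s k)) * n⁻¹ = e (some (s k')) := by
  intro i j k i' j' k' hij hik hjk hij' hik' hjk'
  have hfour : ∀ i j k : Fin 23, ∃ l, l ≠ i ∧ l ≠ j ∧ l ≠ k := by
    intro i j k
    by_contra hcon
    push Not at hcon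
    have h1 : (Finset.univ : Finset (Fin 23)) ⊆ {i, j, k} := by
      intro l _
      rw [Finset.mem_insert, Finset.mem_insert, Finset.mem_singleton]
      by_contra hl
      push Not at hl
      exact hl.2.2 (hcon l hl.1 hl.2.1)
    have h2 := Finset.card_le_card h1
    rw [Finset.card_univ, Fintype.card_fin] at h2
    have h3 : ({i, j, k} : Finset (Fin 23)).card ≤ 3 := Finset.card_le_three
    omega
  obtain ⟨l, hl1, hl2, hl3⟩ := hfour i j k
  obtain ⟨l', hl1', hl2', hl3'⟩ := hfour i' j' k'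
  have hemb : ∀ i j k l : Fin 23, i ≠ j → i ≠ k → j ≠ k → l ≠ i → l ≠ j → l ≠ k →
      Function.Injective (![s i, s j, s k, s l] : Fin 4 → ZMod 23) := by
    intro i j k l h1 h2 h3 h4 h5 h6 a b hab
    fin_cases a <;> fin_cases b <;>
      simp [h1, h2, h3, h4, h5, h6, h1.symm, h2.symm, h3.symm, h4.symm, h5.symm, h6.symm] at hab ⊢
  obtain ⟨n, hn, hn'⟩ := four h ⟨_, hemb i j k l hij hik hjk hl1 hl2 hl3⟩ ⟨_, hemb i' j' k' l' hij' hik' hjk' hl1' hl2' hl3'⟩
  exact ⟨n, hn, hn' 0, hn' 1, hn' 2⟩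

/-- field `fix` -/
theorem fix (h : Loc A e pr ind) : ∀ n ∈ normalizer (A : Set K),
    8 ≤ {i | n * e (some (s i)) = e (some (s i)) * n}.ncard → n ∈ A := by
  classical
  intro n hn h8
  refine (h.ker ⟨n, hn⟩).1 ?_
  apply Subtype.ext
  set g : Equiv.Perm GolayPt := ((ind ⟨n, hn⟩ : Spor.M23) : Equiv.Perm GolayPt) with hg
  have hgM : g ∈ M24 := (MTwThree.mem_M23.1 (ind ⟨n, hn⟩).2).1
  have hgn : g none = none := ind_none _
  show g = 1
  set F₀ : Finset (Fin 23) := Finset.univ.filter (fun i => n * e (some (s i)) = e (some (s i)) * n) with hF₀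
  have hc : {i | n * e (some (s i)) = e (some (s i)) * n}.ncard = F₀.card := by
    rw [← Set.ncard_coe_finset, hF₀]
    congr 1
    ext i
    simp
  rw [hc] at h8
  let f : Fin 23 ↪ GolayPt := ⟨fun i => some (s i), fun i j hij => s.injective (Option.some_injective _ hij)⟩
  have hnF : (none : GolayPt) ∉ F₀.map f := by
    rw [Finset.mem_map]
    rintro ⟨i, -, hi⟩
    exact absurd hi (by simp [f])
  refine nine hgM (F := insert none (F₀.map f)) ?_ ?_
  · rw [Finset.card_insert_of_notMem hnF, Finset.card_map]; omega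
  · intro x hx
    rcases Finset.mem_insert.1 hx with rfl | hx
    · exact hgn
    · obtain ⟨i, hi, rfl⟩ := Finset.mem_map.1 hx
      rw [hF₀, Finset.mem_filter] at hi
      have h1 := h.conj_single ⟨n, hn⟩ (some (s i))
      have h2 : n * e (some (s i)) * n⁻¹ = e (some (s i)) := by rw [hi.2]; group
      have h3 : e (g (some (s i))) = e (some (s i)) := by rw [← h2]; exact h1.symm
      show g (some (s i)) = some (s i)
      refine e_inj h ?_ (by simp) h3
      intro h4
      have h5 : g (some (s i)) = g none := by rw [h4, hgn]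
      exact absurd (g.injective h5) (by simp)

/-- fields `AS`, `cardS` -/
theorem exists_S [Finite K] (h : Loc A e pr ind) (hK : Nat.card K = 4089470473293004800)
    (hN : Nat.card (normalizer (A : Set K)) = 2 ^ 11 * 10200960) :
    ∃ S : Sylow 2 K, A ≤ (S : Subgroup K) ∧ Nat.card (S : Subgroup K) = 2 ^ 18 := by
  obtain ⟨P, hP⟩ := Loc.exists_sylow (odd_index hK hN)
  refine ⟨P, ?_, ?_⟩
  · have hA : IsPGroup 2 A := IsPGroup.of_card h.cardA
    have hAN : A ≤ normalizer (A : Set K) := le_normalizer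
    have hnorm : (P : Subgroup K) ≤ normalizer (A : Set K) := hP
    have h1 : IsPGroup 2 ((P : Subgroup K) ⊔ A : Subgroup K) :=
      IsPGroup.to_sup_of_normal_right' P.isPGroup' hA hnorm
    have h2 := P.is_maximal' h1 le_sup_left
    rw [← h2]
    exact le_sup_right
  · have h1 := P.card_eq_multiplicity
    rw [h1, hK]
    have h2 : Nat.factorization 4089470473293004800 2 = 18 := by
      rw [Nat.factorization_def _ Nat.prime_two]
      have h4 : (4089470473293004800 : ℕ) = 2 ^ 18 * 15600091832325 := by norm_num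
      have f2 : Fact (Nat.Prime 2) := ⟨Nat.prime_two⟩
      rw [h4, padicValNat.mul (by norm_num) (by norm_num), padicValNat.prime_pow,
        padicValNat.eq_zero_of_not_dvd (by norm_num)]
    rw [h2]

end Cfsg.Agent.KFacts.FiTTh.BasSheet
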