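import Cfsg.Agent.SporadicA.GolayWalk
import Cfsg.Agent.SporadicA.M24Upper
import Cfsg.Agent.SporadicA.M24Trans
import Cfsg.Prelude.Def_Spor_Mathieu

/-!
# Seven involutions generating `M23` (helper286)

`tau 0, …, tau 6` (the permutations `tau 1, …, tau 7` of helper128's `Schreier/FiBasic.lean`) generate `Spor.M23`.
-/

set_option autoImplicit false
set_option maxRecDepth 100000

namespace Cfsg.Agent.KFacts.FiTTh.BasTau

open Cfsg Cfsg.Agent.SporadicA.GolayWalk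

/-- The point of index `i` (the index of the extra point is 23). -/
def ptI (i : ℕ) : GolayPt := cond (Nat.beq i 23) none (some (i : ZMod 23))

/-- The function with a given table. -/
def fn (t : List ℕ) (p : GolayPt) : GolayPt := ptI (t.getD (idx p) 0)

/-- The involution with a given table. -/
def mkI (t : List ℕ) (h : ∀ p, fn t (fn t p) = p) : Equiv.Perm GolayPt := ⟨fn t, fn t, h, h⟩

/-- table -/
def t0 : List ℕ := [0, 2, 1, 5, 4, 3, 20, 9, 8, 7, 19, 11, 18, 13, 14, 21, 22, 17, 12, 10, 6, 15, 16, 23]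
/-- table -/
def t1 : List ℕ := [0, 3, 5, 1, 4, 2, 10, 21, 8, 15, 6, 11, 16, 13, 14, 9, 12, 17, 22, 20, 19, 7, 18, 23]
/-- table -/
def t2 : List ℕ := [0, 5, 3, 2, 4, 1, 19, 15, 8, 21, 20, 11, 22, 13, 14, 7, 18, 17, 16, 6, 10, 9, 12, 23]
/-- table -/
def t3 : List ℕ := [0, 1, 4, 3, 2, 11, 6, 12, 8, 21, 10, 5, 7, 13, 20, 18, 22, 19, 15, 17, 14, 9, 16, 23]
/-- table -/
def t4 : List ℕ := [1, 0, 2, 3, 4, 17, 8, 12, 6, 15, 10, 19, 7, 13, 14, 9, 22, 5, 21, 11, 20, 18, 16, 23]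
/-- table -/
def t5 : List ℕ := [0, 1, 2, 5, 4, 3, 21, 19, 11, 10, 9, 8, 18, 13, 17, 20, 16, 14, 12, 7, 15, 6, 22, 23]
/-- table -/
def t6 : List ℕ := [0, 1, 5, 3, 4, 2, 10, 16, 13, 18, 6, 11, 21, 8, 17, 22, 7, 14, 9, 19, 20, 12, 15, 23]

theorem h0 : ∀ p, fn t0 (fn t0 p) = p := by decide +kernel
theorem h1 : ∀ p, fn t1 (fn t1 p) = p := by decide +kernel
theorem h2 : ∀ p, fn t2 (fn t2 p) = p := by decide +kernel
theorem h3 : ∀ p, fn t3 (fn t3 p) = p := by decide +kernel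
theorem h4 : ∀ p, fn t4 (fn t4 p) = p := by decide +kernel
theorem h5 : ∀ p, fn t5 (fn t5 p) = p := by decide +kernel
theorem h6 : ∀ p, fn t6 (fn t6 p) = p := by decide +kernel

theorem m0 : mkI t0 h0 ∈ M24 :=
  mem_M24_of_table _ t0 rfl (by decide +kernel) (by decide +kernel)
theorem m1 : mkI t1 h1 ∈ M24 :=
  mem_M24_of_table _ t1 rfl (by decide +kernel) (by decide +kernel)
theorem m2 : mkI t2 h2 ∈ M24 :=
  mem_M24_of_table _ t2 rfl (by decide +kernel) (by decide +kernel)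
theorem m3 : mkI t3 h3 ∈ M24 :=
  mem_M24_of_table _ t3 rfl (by decide +kernel) (by decide +kernel)
theorem m4 : mkI t4 h4 ∈ M24 :=
  mem_M24_of_table _ t4 rfl (by decide +kernel) (by decide +kernel)
theorem m5 : mkI t5 h5 ∈ M24 :=
  mem_M24_of_table _ t5 rfl (by decide +kernel) (by decide +kernel)
theorem m6 : mkI t6 h6 ∈ M24 :=
  mem_M24_of_table _ t6 rfl (by decide +kernel) (by decide +kernel)

/-- The seven elements. -/
def tau : ℕ → Equiv.Perm GolayPt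
  | 0 => mkI t0 h0
  | 1 => mkI t1 h1
  | 2 => mkI t2 h2
  | 3 => mkI t3 h3
  | 4 => mkI t4 h4
  | 5 => mkI t5 h5
  | 6 => mkI t6 h6
  | _ => 1

/-- Their tables. -/
def tab : ℕ → List ℕ
  | 0 => t0
  | 1 => t1
  | 2 => t2
  | 3 => t3
  | 4 => t4
  | 5 => t5
  | 6 => t6
  | _ => []

/-- words of a transversal of the stabiliser chain -/
def WD : List (List (List ℕ)) :=
  [[[], [4], [0, 4], [1, 4], [3, 0, 4], [2, 4], [4, 5, 3, 2, 4], [5, 4, 3, 2, 4], [5, 3, 2, 4], [0, 5, 4, 3, 2, 4], [0, 4, 3, 2, 4], [3, 2, 4], [4, 5, 4, 3, 2, 4], [6, 5, 3, 2, 4], [5, 4, 2, 4], [2, 5, 4, 3, 2, 4], [6, 5, 4, 3, 2, 4], [4, 2, 4], [6, 0, 5, 4, 3, 2, 4], [4, 3, 2, 4], [3, 5, 4, 2, 4], [5, 4, 5, 3, 2, 4], [2, 4, 5, 4, 3, 2, 4]],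
   [[], [], [0], [1], [3, 0], [2], [2, 3, 4, 5, 4, 1], [3, 4, 5, 4, 3, 2], [5, 3, 2], [0, 3, 4, 5, 4, 3, 2], [0, 3, 4, 5, 4, 1], [3, 2], [4, 5, 4, 3, 2], [6, 5, 3, 2], [4, 5, 4, 2], [5, 3, 4, 5, 4, 2], [1, 4, 5, 4, 3, 2], [4, 5, 4, 1], [4, 5, 4, 5, 3, 2], [3, 4, 5, 4, 1], [3, 4, 5, 4, 2], [6, 4, 5, 4, 3, 2], [2, 4, 5, 4, 3, 2]],
   [[], [], [], [5, 6], [3], [6], [5, 6, 4, 5, 4, 3, 6], [3, 4, 5, 4, 3, 6], [5, 3, 6], [6, 4, 5, 4, 5, 3, 6], [5, 3, 6, 4, 5, 4, 3, 6], [3, 6], [4, 5, 4, 3, 6], [6, 5, 3, 6], [4, 5, 4, 6], [5, 3, 4, 5, 4, 6], [6, 3, 4, 5, 4, 3, 6], [4, 5, 4, 5, 6], [4, 5, 4, 5, 3, 6], [3, 5, 4, 5, 4, 6], [3, 4, 5, 4, 6], [6, 4, 5, 4, 3, 6], [6, 5, 3, 4, 5, 4, 6]],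
   [[], [], [], [], [3, 6, 5, 3], [5], [3, 4, 5, 3, 5, 4], [3, 4, 5, 3, 4, 5], [3, 5, 3, 5], [3, 6, 4, 5, 3, 4, 5], [5, 3, 6, 4, 5, 3, 4, 5], [3, 5, 3], [4, 5, 4, 3, 5, 3], [3, 6, 5, 3, 5], [4, 5, 4, 5], [3, 4, 5, 3, 4, 3, 5, 3, 5], [3, 6, 3, 4, 5, 4, 3, 5, 3, 5], [4, 5, 4], [4, 5, 4, 3, 5, 3, 5], [3, 4, 5, 3, 4], [3, 4, 5, 3, 4, 3, 5, 3], [3, 4, 5, 3, 5, 4, 5], [3, 6, 3, 4, 5, 4, 3, 5, 3]],
   [[], [], [], [], [], [], [], [], [], [], [], [], [], [], [5, 4, 6, 5, 4, 5, 6], [], [], [6, 5, 4, 5, 6, 4, 5], [], [], [], [], []],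
   [[], [], [], [], [], [], [3, 4, 6, 3, 4, 5, 3, 6, 3, 5, 3, 6, 3], [5, 3, 4, 6, 3, 4, 5], [5, 3, 6, 3, 5], [5, 3, 4, 6, 3, 4, 5, 3, 6, 3], [3, 4, 6, 3, 4, 5, 3, 6, 3, 5], [3, 6, 3], [5, 3, 4, 6, 3, 4, 5, 3, 4, 6, 3, 4, 5, 3, 6, 3, 5], [5, 3, 6, 3, 5, 3, 6, 3], [], [5, 3, 4, 6, 3, 4, 3, 6, 3, 5], [5, 3, 4, 6, 3, 4, 5, 3, 4, 6, 3, 4], [], [5, 3, 4, 6, 3, 4, 5, 3, 4, 6, 3, 4, 3, 6, 3], [3, 4, 6, 3, 4], [3, 4, 6, 3, 4, 3, 6, 3], [5, 3, 4, 6, 3, 4, 3, 6, 3, 5, 3, 6, 3], [5, 3, 4, 6, 3, 4, 5, 3, 4, 6, 3, 4, 5, 3, 6, 3, 5, 3, 6, 3]]]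

/-- the allowed images -/
def allowed : List (List ℕ) :=
  [[0, 1, 2, 3, 4, 5, 6, 7, 8, 9, 10, 11, 12, 13, 14, 15, 16, 17, 18, 19, 20, 21, 22],
   [1, 2, 3, 4, 5, 6, 7, 8, 9, 10, 11, 12, 13, 14, 15, 16, 17, 18, 19, 20, 21, 22],
   [2, 3, 4, 5, 6, 7, 8, 9, 10, 11, 12, 13, 14, 15, 16, 17, 18, 19, 20, 21, 22],
   [3, 4, 5, 6, 7, 8, 9, 10, 11, 12, 13, 14, 15, 16, 17, 18, 19, 20, 21, 22],
   [5, 14, 17],
   [4, 6, 7, 8, 9, 10, 11, 12, 13, 15, 16, 18, 19, 20, 21, 22]]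

/-- the base -/
def base : List ℕ := [0, 1, 2, 3, 5, 4]

/-- evaluate a word at a point (the last letter acts first) -/
def evalW (w : List ℕ) (x : ℕ) : ℕ := w.foldr (fun i y => (tab i).getD y 0) x

theorem idx_ptI (i : ℕ) (hi : i < 24) : idx (ptI i) = i := by
  interval_cases i <;> decide +kernel

theorem idx_lt (p : GolayPt) : idx p < 24 := by revert p; decide +kernel

theorem ptI_idx (p : GolayPt) : ptI (idx p) = p := by revert p; decide +kernel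

theorem idx_injective {p q : GolayPt} (h : idx p = idx q) : p = q := by
  rw [← ptI_idx p, h, ptI_idx]

theorem tab_lt : ∀ k < 7, ∀ x < 24, (tab k).getD x 0 < 24 := by decide +kernel

theorem tau_eq (k : ℕ) (hk : k < 7) (p : GolayPt) : tau k p = fn (tab k) p := by
  interval_cases k <;> rfl

theorem idx_tau (k : ℕ) (hk : k < 7) (p : GolayPt) : idx (tau k p) = (tab k).getD (idx p) 0 := by
  rw [tau_eq k hk, fn, idx_ptI _ (tab_lt k hk _ (idx_lt p))]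

theorem idx_word (w : List ℕ) (hw : ∀ k ∈ w, k < 7) (p : GolayPt) :
    idx ((w.map tau).prod p) = evalW w (idx p) := by
  induction w with
  | nil => rfl
  | cons k w ih =>
    rw [List.map_cons, List.prod_cons, Equiv.Perm.mul_apply, idx_tau k (hw k List.mem_cons_self),
      ih fun j hj => hw j (List.mem_cons_of_mem _ hj)]
    rfl

theorem tau_mem_M24 (k : ℕ) (hk : k < 7) : tau k ∈ M24 := by
  interval_cases k
  · exact m0
  · exact m1
  · exact m2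
  · exact m3
  · exact m4
  · exact m5
  · exact m6

theorem tau_none (k : ℕ) (hk : k < 7) : tau k none = none := by
  interval_cases k <;> decide +kernel

theorem check : ∀ k < 6, ∀ x ∈ allowed.getD k [],
    (∀ i ∈ (WD.getD k []).getD x [], i < 7) ∧
    evalW ((WD.getD k []).getD x []) (base.getD k 0) = x ∧
    ∀ b ∈ 23 :: base.take k, evalW ((WD.getD k []).getD x []) b = b := by decide +kernel

theorem level (H : Subgroup (Equiv.Perm GolayPt)) (hH : ∀ k < 7, tau k ∈ H) (k : ℕ) (hk : k < 6) (p : GolayPt)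
    (hp : idx p ∈ allowed.getD k []) : ∃ g ∈ H, g ∈ M24 ∧ g (ptI (base.getD k 0)) = p ∧
      ∀ b ∈ 23 :: base.take k, g (ptI b) = ptI b := by
  obtain ⟨h1, h2, h3⟩ := check k hk _ hp
  have hb : ∀ k < 6, base.getD k 0 < 24 := by decide
  have hb' : ∀ k < 6, ∀ b ∈ 23 :: base.take k, b < 24 := by decide
  refine ⟨(((WD.getD k []).getD (idx p) []).map tau).prod, ?_, ?_, ?_, ?_⟩
  · apply Subgroup.list_prod_mem
    intro x hx
    obtain ⟨i, hi, rfl⟩ := List.mem_map.1 hx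
    exact hH i (h1 i hi)
  · apply Subgroup.list_prod_mem
    intro x hx
    obtain ⟨i, hi, rfl⟩ := List.mem_map.1 hx
    exact tau_mem_M24 i (h1 i hi)
  · apply idx_injective
    rw [idx_word _ h1, idx_ptI _ (hb k hk), h2]
  · intro b hb1
    apply idx_injective
    rw [idx_word _ h1, idx_ptI _ (hb' k hk b hb1), h3 b hb1]

theorem sift (H : Subgroup (Equiv.Perm GolayPt)) (hH : ∀ k < 7, tau k ∈ H) (k : ℕ) (hk : k < 6)
    (hnext : ∀ m ∈ M24, (∀ b ∈ 23 :: base.take (k + 1), m (ptI b) = ptI b) → m ∈ H)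
    {m : Equiv.Perm GolayPt} (hm : m ∈ M24) (hf : ∀ b ∈ 23 :: base.take k, m (ptI b) = ptI b)
    (hp : idx (m (ptI (base.getD k 0))) ∈ allowed.getD k []) : m ∈ H := by
  obtain ⟨g, hg, hg24, h1, h2⟩ := level H hH k hk _ hp
  have h3 : g⁻¹ * m ∈ H := by
    apply hnext _ (mul_mem (inv_mem hg24) hm)
    intro b hb
    have hb' : b ∈ 23 :: base.take k ∨ b = base.getD k 0 := by
      have : ∀ k < 6, ∀ b ∈ 23 :: base.take (k + 1), b ∈ 23 :: base.take k ∨ b = base.getD k 0 := by decide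
      exact this k hk b hb
    rw [Equiv.Perm.mul_apply, Equiv.Perm.inv_eq_iff_eq]
    rcases hb' with hb' | rfl
    · rw [hf b hb', h2 b hb']
    · rw [h1]
  have h4 : m = g * (g⁻¹ * m) := by group
  rw [h4]
  exact mul_mem hg h3

/-- A subgroup containing the seven elements contains `M23`. -/
theorem le_of_tau (H : Subgroup (Equiv.Perm GolayPt)) (hH : ∀ k < 7, tau k ∈ H) : Spor.M23 ≤ H := by
  intro m hm
  have hm' : m ∈ M24 ∧ m none = none := by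
    unfold Spor.M23 at hm
    exact ⟨hm.1, hm.2⟩
  -- all seven points fixed
  have s6 : ∀ m ∈ M24, (∀ b ∈ 23 :: base.take 6, m (ptI b) = ptI b) → m ∈ H := by
    intro m hm hf
    have h1 : m = 1 := Cfsg.Agent.SporadicA.M24Upper.eq_one_of_fix hm (hf 23 (by decide)) (hf 0 (by decide))
      (hf 1 (by decide)) (hf 2 (by decide)) (hf 3 (by decide)) (hf 5 (by decide)) (hf 4 (by decide))
    rw [h1]; exact one_mem H
  have inj : ∀ (m : Equiv.Perm GolayPt) (a b : ℕ), m (ptI b) = ptI b → ptI a ≠ ptI b → m (ptI a) ≠ ptI b := by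
    intro m a b h1 h2 h3
    exact h2 (m.injective (h3.trans h1.symm))
  have oct : ∀ m ∈ M24, (∀ b ∈ 23 :: base.take 4, m (ptI b) = ptI b) → ∀ p,
      m p ∈ ({none, some 0, some 1, some 2, some 3, some 5, some 14, some 17} : Finset GolayPt) ↔
      p ∈ ({none, some 0, some 1, some 2, some 3, some 5, some 14, some 17} : Finset GolayPt) := by
    intro m hm hf
    exact Cfsg.Agent.SporadicA.M24Upper.base_octad_fixed hm (hf 23 (by decide)) (hf 0 (by decide))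
      (hf 1 (by decide)) (hf 2 (by decide)) (hf 3 (by decide))
  have s5 : ∀ m ∈ M24, (∀ b ∈ 23 :: base.take 5, m (ptI b) = ptI b) → m ∈ H := by
    intro m hm hf
    refine sift H hH 5 (by norm_num) s6 hm hf ?_
    have h1 := oct m hm (fun b hb => hf b (by revert b; decide)) (ptI 4)
    have h2 : ∀ q : GolayPt, q ∉ ({none, some 0, some 1, some 2, some 3, some 5, some 14, some 17} :
        Finset GolayPt) → idx q ∈ allowed.getD 5 [] := by decide +kernel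
    apply h2
    show m (ptI 4) ∉ _
    rw [h1]
    decide
  have s4 : ∀ m ∈ M24, (∀ b ∈ 23 :: base.take 4, m (ptI b) = ptI b) → m ∈ H := by
    intro m hm hf
    refine sift H hH 4 (by norm_num) s5 hm hf ?_
    have h1 := (oct m hm hf (ptI 5)).2 (by decide)
    have h2 : ∀ q : GolayPt, q ∈ ({none, some 0, some 1, some 2, some 3, some 5, some 14, some 17} :
        Finset GolayPt) → q ≠ ptI 23 → q ≠ ptI 0 → q ≠ ptI 1 → q ≠ ptI 2 → q ≠ ptI 3 →
        idx q ∈ allowed.getD 4 [] := by decide +kernel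
    exact h2 _ h1 (inj m 5 23 (hf 23 (by decide)) (by decide)) (inj m 5 0 (hf 0 (by decide)) (by decide))
      (inj m 5 1 (hf 1 (by decide)) (by decide)) (inj m 5 2 (hf 2 (by decide)) (by decide))
      (inj m 5 3 (hf 3 (by decide)) (by decide))
  have s3 : ∀ m ∈ M24, (∀ b ∈ 23 :: base.take 3, m (ptI b) = ptI b) → m ∈ H := by
    intro m hm hf
    refine sift H hH 3 (by norm_num) s4 hm hf ?_
    have h2 : ∀ q : GolayPt, q ≠ ptI 23 → q ≠ ptI 0 → q ≠ ptI 1 → q ≠ ptI 2 →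
        idx q ∈ allowed.getD 3 [] := by decide +kernel
    exact h2 _ (inj m 3 23 (hf 23 (by decide)) (by decide)) (inj m 3 0 (hf 0 (by decide)) (by decide))
      (inj m 3 1 (hf 1 (by decide)) (by decide)) (inj m 3 2 (hf 2 (by decide)) (by decide))
  have s2 : ∀ m ∈ M24, (∀ b ∈ 23 :: base.take 2, m (ptI b) = ptI b) → m ∈ H := by
    intro m hm hf
    refine sift H hH 2 (by norm_num) s3 hm hf ?_
    have h2 : ∀ q : GolayPt, q ≠ ptI 23 → q ≠ ptI 0 → q ≠ ptI 1 →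
        idx q ∈ allowed.getD 2 [] := by decide +kernel
    exact h2 _ (inj m 2 23 (hf 23 (by decide)) (by decide)) (inj m 2 0 (hf 0 (by decide)) (by decide))
      (inj m 2 1 (hf 1 (by decide)) (by decide))
  have s1 : ∀ m ∈ M24, (∀ b ∈ 23 :: base.take 1, m (ptI b) = ptI b) → m ∈ H := by
    intro m hm hf
    refine sift H hH 1 (by norm_num) s2 hm hf ?_
    have h2 : ∀ q : GolayPt, q ≠ ptI 23 → q ≠ ptI 0 →
        idx q ∈ allowed.getD 1 [] := by decide +kernel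
    exact h2 _ (inj m 1 23 (hf 23 (by decide)) (by decide)) (inj m 1 0 (hf 0 (by decide)) (by decide))
  refine sift H hH 0 (by norm_num) s1 hm'.1 ?_ ?_
  · intro b hb
    have hb' : b = 23 := by revert b; decide
    rw [hb']
    exact hm'.2
  · have h2 : ∀ q : GolayPt, q ≠ ptI 23 → idx q ∈ allowed.getD 0 [] := by decide +kernel
    exact h2 _ (inj m 0 23 hm'.2 (by decide))

end Cfsg.Agent.KFacts.FiTTh.BasTau
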