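import Cfsg.Agent.KFacts.FiTTh.Cent

/-!
# K-facts for `Fi₂₃`: `z0 a` and `z0 a c` lie in the derived groups of their centralizers
-/

set_option autoImplicit false
set_option maxRecDepth 100000
set_option linter.constructorNameAsVariable false

namespace Cfsg.Agent.KFacts.FiTTh.Der

open Subgroup
open Cfsg.Agent.Lib.PermNet Cfsg.Agent.Fischer.Fi23Nets Cfsg.Agent.Fischer.Fi23OrbData
open Cfsg.Agent.Fischer.Fi23Z Cfsg.Agent.Fischer.Fi23Hom Cfsg.Agent.Fischer.Fi23Rel
open Cfsg.Agent.Fischer.Fi23Class Cfsg.Agent.Fischer.Fi23Simple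
open Cfsg.Agent.KFacts.FiTTh.Masks Cfsg.Agent.KFacts.FiTTh.Cent
open Cfsg.Spor Cfsg.Spor.Fi23
open Cfsg.Agent.Fischer.Fi23Final (gen_sq)

section

variable {G : Type*} [Group G] {s t f : G}

/-- the hypotheses: commuting involutions `s`, `t` and an involution `f` braiding with both -/
structure Tri (s t f : G) : Prop where
  ss : s * s = 1
  tt : t * t = 1
  ff : f * f = 1
  st : s * t = t * s
  fs : f * s * f = s * f * s
  ft : f * t * f = t * f * t

theorem Tri.symm (h : Tri s t f) : Tri t s f := ⟨h.tt, h.ss, h.ff, h.st.symm, h.ft, h.fs⟩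

theorem Tri.inv (h : Tri s t f) : (f * s * t * f)⁻¹ = f * s * t * f := by
  apply inv_eq_of_mul_eq_one_left
  calc f * s * t * f * (f * s * t * f) = f * s * t * (f * f) * s * t * f := by simp only [mul_assoc]
    _ = f * s * (t * s) * t * f := by rw [h.ff]; simp only [mul_assoc, one_mul]
    _ = f * s * (s * t) * t * f := by rw [h.st]
    _ = f * (s * s) * (t * t) * f := by simp only [mul_assoc]
    _ = 1 := by rw [h.ss, h.tt, mul_one, mul_one, h.ff]

theorem Tri.conj (h : Tri s t f) : (f * s * t * f) * s * (f * s * t * f)⁻¹ = t := by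
  rw [h.inv]
  calc f * s * t * f * s * (f * s * t * f) = f * s * t * (f * s * f) * s * t * f := by simp only [mul_assoc]
    _ = f * s * (t * s) * f * (s * s) * t * f := by rw [h.fs]; simp only [mul_assoc]
    _ = f * s * (s * t) * f * t * f := by rw [← h.st, h.ss]; simp only [mul_assoc, one_mul]
    _ = f * (s * s) * (t * f * t) * f := by simp only [mul_assoc]
    _ = f * (f * t * f) * f := by rw [h.ss, mul_one, h.ft]
    _ = (f * f) * t * (f * f) := by simp only [mul_assoc]
    _ = t := by rw [h.ff, one_mul, mul_one]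

theorem Tri.eq (h : Tri s t f) : f * s * t * f = f * t * s * f := by
  rw [mul_assoc f, h.st, ← mul_assoc]

theorem Tri.conj' (h : Tri s t f) : (f * s * t * f) * t * (f * s * t * f)⁻¹ = s := by
  rw [h.eq]
  exact h.symm.conj

/-- the product `s t` is a commutator in every subgroup containing `s` and `f s t f` -/
theorem Tri.mem (h : Tri s t f) {C : Subgroup G} (hs : s ∈ C) (hn : f * s * t * f ∈ C) :
    s * t ∈ ⁅C, C⁆ := by
  have hsi : s⁻¹ = s := inv_eq_of_mul_eq_one_left h.ss
  have h1 := commutator_mem_commutator hn hs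
  rw [commutatorElement_def, h.conj, hsi] at h1
  rw [h.st]
  exact h1

end

/-! ### `z0 a` -/

/-- a transposition braiding with `z0` and `a` -/
def Rw : List Gen := [.b, .c, .d, .e, .f, .g, .j, .g, .f, .e, .d, .c, .b]

theorem r_z : checkEq 15 (Rw.map net ++ nz :: Rw.map net) (nz :: (Rw.map net ++ [nz])) = true := by
  decide +kernel

theorem r_a : checkEq 15 (Rw.map net ++ na :: Rw.map net) (na :: (Rw.map net ++ [na])) = true := by
  decide +kernel

theorem r_r : checkEq 15 (Rw.map net ++ Rw.map net) [] = true := by decide +kernel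

theorem eq_of_check {x y : Fi23} {w w' : List Net} (hx : rho x = wperm w) (hy : rho y = wperm w')
    (hw : WOk (2 ^ 15) w) (hw' : WOk (2 ^ 15) w') (h : checkEq 15 w w' = true) : x = y := by
  apply rho_injective
  rw [hx, hy]
  exact wperm_eq_of_checkEq hw hw' h

theorem rho_mul {x y : Fi23} {w w' : List Net} (hx : rho x = wperm w) (hy : rho y = wperm w') :
    rho (x * y) = wperm (w ++ w') := by
  rw [map_mul, hx, hy, wperm_append]

theorem rho_word (l : List Gen) : rho (Cfsg.Agent.Fischer.Fi23Orb.word l) = wperm (l.map net) :=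
  Cfsg.Agent.Fischer.Fi23Orb.rho_word l

noncomputable def r : Fi23 := Cfsg.Agent.Fischer.Fi23Orb.word Rw

theorem triR : Tri z0 (gen .a) r where
  ss := Cent.zz
  tt := gen_sq .a
  ff := by
    refine eq_of_check (w' := []) (rho_mul (rho_word Rw) (rho_word Rw)) (by rw [map_one]; rfl)
      ((wok Rw).append (wok Rw)) (WOk.nil _) r_r
  st := za.symm
  fs := by
    refine eq_of_check (w := Rw.map net ++ nz :: Rw.map net) (w' := nz :: (Rw.map net ++ [nz])) ?_ ?_ ?_ ?_ r_z
    · rw [mul_assoc]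
      exact rho_mul (rho_word Rw) (rho_mul (w := [nz]) rho_z0' (rho_word Rw))
    · rw [mul_assoc]
      exact rho_mul (w := [nz]) rho_z0' (rho_mul (rho_word Rw) rho_z0')
    · exact (wok Rw).append (WOk.cons ok_z (wok Rw))
    · exact WOk.cons ok_z ((wok Rw).append (WOk.cons ok_z (WOk.nil _)))
  ft := by
    refine eq_of_check (w := Rw.map net ++ na :: Rw.map net) (w' := na :: (Rw.map net ++ [na])) ?_ ?_ ?_ ?_ r_a
    · rw [mul_assoc]
      exact rho_mul (rho_word Rw) (rho_mul (w := [na]) (rho_gen' .a) (rho_word Rw))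
    · rw [mul_assoc]
      exact rho_mul (w := [na]) (rho_gen' .a) (rho_mul (rho_word Rw) (rho_gen' .a))
    · exact (wok Rw).append (WOk.cons ok_a (wok Rw))
    · exact WOk.cons ok_a ((wok Rw).append (wok [.a]))

theorem der2 : z0 * gen .a ∈
    ⁅centralizer ({z0 * gen .a} : Set Fi23), centralizer ({z0 * gen .a} : Set Fi23)⁆ := by
  apply triR.mem
  · rw [mem_centralizer_singleton_iff, mul_assoc, za]
  · rw [mem_centralizer_singleton_iff]
    have h1 := triR.conj
    have h2 := triR.conj'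
    set n := r * z0 * gen .a * r
    calc n * (z0 * gen .a) = (n * z0 * n⁻¹) * (n * gen .a * n⁻¹) * n := by group
      _ = (z0 * gen .a) * n := by rw [h1, h2, za]

/-! ### `z0 a c` -/

noncomputable def t1 : Fi23 := Cfsg.Agent.Fischer.Fi23Orb.word T1

/-- `z0 a c e g` -/
noncomputable def W5 : Fi23 := z0 * (gen .a * (gen .c * (gen .e * gen .g)))

noncomputable def t2 : Fi23 := t1 * W5

theorem rho_W5 : rho W5 = wperm [nz, na, nc, ne, ng] :=
  rho_mul (w := [nz]) rho_z0' (rho_mul (w := [na]) (rho_gen' .a) (rho_mul (w := [nc]) (rho_gen' .c)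
    (rho_mul (w := [ne]) (rho_gen' .e) (rho_gen' .g))))

theorem rho_W3' : rho W3 = wperm [nz, na, nc] := rho_W3

theorem ok5 : WOk (2 ^ 15) [nz, na, nc, ne, ng] :=
  WOk.cons ok_z (WOk.cons ok_a (WOk.cons ok_c (WOk.cons ok_e (WOk.cons ok_g (WOk.nil _)))))

theorem rho_t1 : rho t1 = wperm T1n := rho_word T1

theorem okT1 : WOk (2 ^ 15) T1n := wok T1

theorem rho_t2 : rho t2 = wperm T2n := rho_mul rho_t1 rho_W5

theorem okT2 : WOk (2 ^ 15) T2n := okT1.append ok5

theorem t1_W3 : t1 * W3 = W3 * t1 :=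
  eq_of_check (rho_mul rho_t1 rho_W3) (rho_mul rho_W3 rho_t1) (okT1.append ok3) (ok3.append okT1) t1_w3

theorem t1_W5 : t1 * W5 = W5 * t1 :=
  eq_of_check (rho_mul rho_t1 rho_W5) (rho_mul rho_W5 rho_t1) (okT1.append ok5) (ok5.append okT1) t1_w5

theorem f_t1 : gen .f * t1 * gen .f = t1 * gen .f * t1 := by
  refine eq_of_check (w := nf :: (T1n ++ [nf])) (w' := T1n ++ nf :: T1n) ?_ ?_ ?_ ?_ braid1
  · rw [mul_assoc]
    exact rho_mul (w := [nf]) (rho_gen' .f) (rho_mul rho_t1 (rho_gen' .f))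
  · rw [mul_assoc]
    exact rho_mul rho_t1 (rho_mul (w := [nf]) (rho_gen' .f) rho_t1)
  · exact WOk.cons ok_f (okT1.append (wok [.f]))
  · exact okT1.append (WOk.cons ok_f okT1)

theorem f_t2 : gen .f * t2 * gen .f = t2 * gen .f * t2 := by
  refine eq_of_check (w := nf :: (T2n ++ [nf])) (w' := T2n ++ nf :: T2n) ?_ ?_ ?_ ?_ braid2
  · rw [mul_assoc]
    exact rho_mul (w := [nf]) (rho_gen' .f) (rho_mul rho_t2 (rho_gen' .f))
  · rw [mul_assoc]
    exact rho_mul rho_t2 (rho_mul (w := [nf]) (rho_gen' .f) rho_t2)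
  · exact WOk.cons ok_f (okT2.append (wok [.f]))
  · exact okT2.append (WOk.cons ok_f okT2)

theorem t1_t1_check : checkEq 15 (T1n ++ T1n) [] = true := by decide +kernel

theorem t1_sq : t1 * t1 = 1 :=
  eq_of_check (w' := []) (rho_mul rho_t1 rho_t1) (by rw [map_one]; rfl) (okT1.append okT1) (WOk.nil _) t1_t1_check

theorem comm_ae : gen .a * gen .e = gen .e * (gen .a : Fi23) := gen_comm .a .e (by decide)
theorem comm_ag : gen .a * gen .g = gen .g * (gen .a : Fi23) := gen_comm .a .g (by decide)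
theorem comm_ce : gen .c * gen .e = gen .e * (gen .c : Fi23) := gen_comm .c .e (by decide)
theorem comm_cg : gen .c * gen .g = gen .g * (gen .c : Fi23) := gen_comm .c .g (by decide)
theorem comm_eg : gen .e * gen .g = gen .g * (gen .e : Fi23) := gen_comm .e .g (by decide)

theorem W5_eq : W5 = W3 * (gen .e * gen .g) := by
  unfold W5 W3
  simp only [mul_assoc]

/-- `e g` commutes with `z0 a c` -/
theorem mem_Xs3 {x : Gen} (h : x = .e ∨ x = .f ∨ x = .g ∨ x = .h ∨ x = .i) : gen x ∈ Xs3 := ⟨x, h, rfl⟩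

theorem gen_mem_C {x : Gen} (h : x = .e ∨ x = .f ∨ x = .g ∨ x = .h ∨ x = .i) :
    gen x ∈ centralizer ({W3} : Set Fi23) := by
  rw [mem_centralizer_singleton_iff]
  exact (hWX3 _ (mem_Xs3 h)).symm

theorem W3_sq : W3 * W3 = 1 := by
  have h1 := hWD3 z0 (Or.inl rfl)
  have h2 := hWD3 (gen .a) (Or.inr (Or.inl rfl))
  have h3 := hWD3 (gen .c) (Or.inr (Or.inr rfl))
  calc W3 * W3 = (W3 * z0) * gen .a * gen .c := by
        conv_lhs => rw [show W3 * W3 = W3 * (z0 * gen .a * gen .c) from rfl]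
        simp only [mul_assoc]
    _ = z0 * (W3 * gen .a) * gen .c := by rw [h1]; simp only [mul_assoc]
    _ = z0 * gen .a * (W3 * gen .c) := by rw [h2]; simp only [mul_assoc]
    _ = z0 * gen .a * (gen .c * (z0 * gen .a * gen .c)) := by rw [h3]; rfl
    _ = z0 * gen .a * ((gen .c * z0) * gen .a * gen .c) := by simp only [mul_assoc]
    _ = z0 * gen .a * (z0 * gen .c * gen .a * gen .c) := by rw [zc]
    _ = z0 * (gen .a * z0) * (gen .c * gen .a) * gen .c := by simp only [mul_assoc]
    _ = (z0 * z0) * (gen .a * gen .a) * (gen .c * gen .c) := by rw [za, ← ac]; simp only [mul_assoc]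
    _ = 1 := by rw [Cent.zz, gen_sq, gen_sq, mul_one, mul_one]

theorem eg_mem : gen .e * gen .g ∈ centralizer ({W3} : Set Fi23) :=
  (centralizer ({W3} : Set Fi23)).mul_mem (gen_mem_C (by simp)) (gen_mem_C (by simp))

theorem W5_mem : W5 ∈ centralizer ({W3} : Set Fi23) := by
  rw [W5_eq]
  exact (centralizer ({W3} : Set Fi23)).mul_mem (mem_centralizer_singleton_iff.2 rfl) eg_mem

theorem W5_sq : W5 * W5 = 1 := by
  have h := mem_centralizer_singleton_iff.1 eg_mem
  have h2 : gen .e * gen .g * (gen .e * gen .g) = (1 : Fi23) := by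
    calc gen .e * gen .g * (gen .e * gen .g) = gen .e * (gen .g * gen .e) * gen .g := by simp only [mul_assoc]
      _ = (gen .e * gen .e) * (gen .g * gen .g) := by rw [← comm_eg]; simp only [mul_assoc]
      _ = 1 := by rw [gen_sq, gen_sq, mul_one]
  rw [W5_eq]
  calc W3 * (gen .e * gen .g) * (W3 * (gen .e * gen .g))
      = W3 * ((gen .e * gen .g) * W3) * (gen .e * gen .g) := by simp only [mul_assoc]
    _ = (W3 * W3) * (gen .e * gen .g * (gen .e * gen .g)) := by rw [h]; simp only [mul_assoc]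
    _ = 1 := by rw [W3_sq, h2, mul_one]

theorem t1_mem : t1 ∈ centralizer ({W3} : Set Fi23) := mem_centralizer_singleton_iff.2 t1_W3

theorem t2_mem : t2 ∈ centralizer ({W3} : Set Fi23) :=
  (centralizer ({W3} : Set Fi23)).mul_mem t1_mem W5_mem

theorem t1_t2 : t1 * t2 = W5 := by
  unfold t2
  rw [← mul_assoc, t1_sq, one_mul]

theorem t2_t1 : t2 * t1 = W5 := by
  unfold t2
  rw [mul_assoc, ← t1_W5, ← mul_assoc, t1_sq, one_mul]

theorem tri_t : Tri t1 t2 (gen .f) where
  ss := t1_sq
  tt := by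
    calc t2 * t2 = t2 * t1 * W5 := by rw [mul_assoc]; rfl
      _ = 1 := by rw [t2_t1, W5_sq]
  ff := gen_sq .f
  st := by rw [t1_t2, t2_t1]
  fs := f_t1
  ft := f_t2

theorem braid_gen (x y : Gen) (h : coxLabel edges x y = 3) : gen x * gen y * gen x = gen y * gen x * gen y := by
  have h1 := Cfsg.Agent.Fischer.Fi23Final.gen_rel x y
  rw [h] at h1
  have hx := gen_sq x
  have hy := gen_sq y
  have h2 : gen x * gen y * gen x * (gen y * gen x * gen y) = 1 := by
    rw [← h1, pow_succ, pow_succ, pow_one]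
    simp only [mul_assoc]
  have h3 : (gen y * gen x * gen y) * (gen y * gen x * gen y) = (1 : Fi23) := by
    calc (gen y * gen x * gen y) * (gen y * gen x * gen y)
        = gen y * gen x * (gen y * gen y) * gen x * gen y := by simp only [mul_assoc]
      _ = gen y * (gen x * gen x) * gen y := by rw [hy]; simp only [mul_assoc, mul_one]
      _ = 1 := by rw [hx, mul_one, hy]
  rw [eq_inv_of_mul_eq_one_left h2]
  exact (eq_inv_of_mul_eq_one_left h3).symm

theorem tri_eg : Tri (gen .e : Fi23) (gen .g) (gen .f) where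
  ss := gen_sq .e
  tt := gen_sq .g
  ff := gen_sq .f
  st := comm_eg
  fs := braid_gen .f .e (by decide)
  ft := braid_gen .f .g (by decide)

theorem der3 : z0 * gen .a * gen .c ∈
    ⁅centralizer ({z0 * gen .a * gen .c} : Set Fi23), centralizer ({z0 * gen .a * gen .c} : Set Fi23)⁆ := by
  show W3 ∈ ⁅centralizer ({W3} : Set Fi23), centralizer ({W3} : Set Fi23)⁆
  have hf : gen .f ∈ centralizer ({W3} : Set Fi23) := gen_mem_C (by simp)
  have he : gen .e ∈ centralizer ({W3} : Set Fi23) := gen_mem_C (by simp)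
  have hg : gen .g ∈ centralizer ({W3} : Set Fi23) := gen_mem_C (by simp)
  have h1 : gen .e * gen .g ∈ ⁅centralizer ({W3} : Set Fi23), centralizer ({W3} : Set Fi23)⁆ :=
    tri_eg.mem he (mul_mem (mul_mem (mul_mem hf he) hg) hf)
  have h2 : t1 * t2 ∈ ⁅centralizer ({W3} : Set Fi23), centralizer ({W3} : Set Fi23)⁆ :=
    tri_t.mem t1_mem (mul_mem (mul_mem (mul_mem hf t1_mem) t2_mem) hf)
  have h3 : (t1 * t2) * (gen .e * gen .g)⁻¹ = W3 := by
    rw [t1_t2, W5_eq, mul_inv_cancel_right]
  have h4 := mul_mem h2 (inv_mem h1)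
  rwa [h3] at h4

end Cfsg.Agent.KFacts.FiTTh.Der
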