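import Cfsg.Agent.Lib.PermNetPat
import Cfsg.Agent.Fischer.Fi23Z
import Cfsg.Agent.Fischer.Fi23OrbData

/-!
# Fi23: kernel counts for the frame `g h e i f j a c z b d`

The numbers of transpositions with the same commuting pattern as the next element of the frame:
`3511 695 512 144 30 6 2 1 4 1` (with the elements of the frame themselves); `31671·3510·693·512·144·30·6·4 = |Fi23|`.
-/

set_option autoImplicit false
set_option maxRecDepth 100000
set_option Elab.async false

namespace Cfsg.Agent.KFacts.FiTTh.FrameChk

open Cfsg.Agent.Lib.PermNet Cfsg.Agent.Lib.PermNetFix Cfsg.Agent.Lib.PermNetPat Cfsg.Agent.Fischer.Fi23Nets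
open Cfsg.Agent.Fischer.Fi23Z Cfsg.Agent.Fischer.Fi23Hom Cfsg.Agent.Fischer.Fi23Rel
open Cfsg.Agent.Fischer.Fi23OrbData
open Cfsg.Spor Cfsg.Spor.Fi23

/-- the frame (`none` is `z0`) -/
def nm : ℕ → Option Gen
  | 0 => some .g
  | 1 => some .h
  | 2 => some .e
  | 3 => some .i
  | 4 => some .f
  | 5 => some .j
  | 6 => some .a
  | 7 => some .c
  | 8 => none
  | 9 => some .b
  | _ => some .d

noncomputable def netO : Option Gen → Net
  | none => nz
  | some x => net x

/-- the pairs which do not commute -/
def relO : Option Gen → Option Gen → Bool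
  | none, none => false
  | none, some x => decide (x = .j)
  | some x, none => decide (x = .j)
  | some x, some y => decide (coxLabel edges x y = 3)

noncomputable def ws (k : ℕ) : List (List Net × Bool) :=
  (List.range k).map fun i => ([netO (nm i)], relO (nm i) (nm k))

noncomputable def cnt (k : ℕ) : ℕ := pc 15 (pat 15 (Nat.sub (Nat.pow 2 (31671 : ℕ)) 1) (ws k))

theorem cnt_1 : Nat.beq (cnt 1) 3511 = true := by decide +kernel
theorem cnt_2 : Nat.beq (cnt 2) 695 = true := by decide +kernel
theorem cnt_3 : Nat.beq (cnt 3) 512 = true := by decide +kernel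
theorem cnt_4 : Nat.beq (cnt 4) 144 = true := by decide +kernel
theorem cnt_5 : Nat.beq (cnt 5) 30 = true := by decide +kernel
theorem cnt_6 : Nat.beq (cnt 6) 6 = true := by decide +kernel
theorem cnt_7 : Nat.beq (cnt 7) 2 = true := by decide +kernel
theorem cnt_8 : Nat.beq (cnt 8) 1 = true := by decide +kernel
theorem cnt_9 : Nat.beq (cnt 9) 4 = true := by decide +kernel
theorem cnt_10 : Nat.beq (cnt 10) 1 = true := by decide +kernel

end Cfsg.Agent.KFacts.FiTTh.FrameChk
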