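import Cfsg.Agent.KFacts.FiTTh.FrameChk
import Cfsg.Agent.KFacts.FiTTh.Cent
import Cfsg.Agent.Lib.ClassFrame

/-!
# `Out(Fi23) = 1` (helper8)

`Fi23` is transitive on the 11-tuples of transpositions with the commuting pattern of the frame
`g h e i f j a c z0 b d` (`ClassFrame.orb_eq` : the product of the numbers of candidates is the order of the group).
Hence an automorphism preserving the class of transpositions is inner (`inner_of`).
-/

set_option autoImplicit false
set_option maxRecDepth 100000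
set_option linter.constructorNameAsVariable false

namespace Cfsg.Agent.KFacts.FiTTh.Inn

open Subgroup
open Cfsg.Agent.Lib.PermNet Cfsg.Agent.Lib.PermNetFix Cfsg.Agent.Lib.PermNetPat Cfsg.Agent.Lib.ClassFrame
open Cfsg.Agent.Fischer.Fi23Nets
open Cfsg.Agent.Fischer.Fi23Z Cfsg.Agent.Fischer.Fi23Hom Cfsg.Agent.Fischer.Fi23Rel
open Cfsg.Agent.Fischer Cfsg.Agent.Fischer.Fi23Class Cfsg.Agent.Fischer.Fi23Simple
open Cfsg.Agent.Fischer.Fi23OrbData
open Cfsg.Agent.KFacts.FiTTh.FrameChk Cfsg.Agent.KFacts.FiTTh.Cent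
open Cfsg.Spor Cfsg.Spor.Fi23
open Cfsg.Agent.Fischer.Fi23Final (gen_sq gen_rel)

/-! ### The commuting pattern -/

theorem eq_of_comm {x y : Gen} (h : coxLabel edges x y = 3) (hc : gen x * gen y = gen y * gen x) :
    gen x = gen y := by
  have h1 := gen_rel x y
  rw [h] at h1
  have hx := gen_sq x
  have hy := gen_sq y
  have h2 : (gen x * gen y) * (gen x * gen y) = 1 := by
    calc gen x * gen y * (gen x * gen y) = gen x * gen y * (gen y * gen x) := by rw [hc]
      _ = gen x * (gen y * gen y) * gen x := by simp only [mul_assoc]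
      _ = 1 := by rw [hy, mul_one, hx]
  rw [pow_succ, pow_two, h2, one_mul] at h1
  calc gen x = gen x * (gen y * gen y) := by rw [hy, mul_one]
    _ = gen x * gen y * gen y := by rw [mul_assoc]
    _ = gen y := by rw [h1, one_mul]

theorem step {x y w : Gen} (hxy : coxLabel edges x y = 3) (hwx : coxLabel edges w x = 2)
    (hwy : gen w * gen y ≠ gen y * gen w) : gen x * gen y ≠ gen y * gen x := by
  intro h
  apply hwy
  rw [← eq_of_comm hxy h]
  exact gen_comm w x hwx

theorem n_gj : gen .g * gen .j ≠ gen .j * gen .g := by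
  intro h
  apply z0_ncomm
  rw [← eq_of_comm (by decide) h]
  exact (z_gen .g (by decide)).symm

theorem n_jg : gen .j * gen .g ≠ gen .g * gen .j := fun h => n_gj h.symm

theorem n_fg : gen .f * gen .g ≠ gen .g * gen .f := step (w := .j) (by decide) (by decide) n_jg
theorem n_gf : gen .g * gen .f ≠ gen .f * gen .g := fun h => n_fg h.symm
theorem n_ef : gen .e * gen .f ≠ gen .f * gen .e := step (w := .g) (by decide) (by decide) n_gf
theorem n_fe : gen .f * gen .e ≠ gen .e * gen .f := fun h => n_ef h.symm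
theorem n_de : gen .d * gen .e ≠ gen .e * gen .d := step (w := .f) (by decide) (by decide) n_fe
theorem n_ed : gen .e * gen .d ≠ gen .d * gen .e := fun h => n_de h.symm
theorem n_hd : gen .h * gen .d ≠ gen .d * gen .h := step (w := .e) (by decide) (by decide) n_ed
theorem n_dh : gen .d * gen .h ≠ gen .h * gen .d := fun h => n_hd h.symm
theorem n_ih : gen .i * gen .h ≠ gen .h * gen .i := step (w := .d) (by decide) (by decide) n_dh
theorem n_hi : gen .h * gen .i ≠ gen .i * gen .h := fun h => n_ih h.symm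
theorem n_cd : gen .c * gen .d ≠ gen .d * gen .c := step (w := .e) (by decide) (by decide) n_ed
theorem n_dc : gen .d * gen .c ≠ gen .c * gen .d := fun h => n_cd h.symm
theorem n_bc : gen .b * gen .c ≠ gen .c * gen .b := step (w := .d) (by decide) (by decide) n_dc
theorem n_cb : gen .c * gen .b ≠ gen .b * gen .c := fun h => n_bc h.symm
theorem n_ab : gen .a * gen .b ≠ gen .b * gen .a := step (w := .c) (by decide) (by decide) n_cb
theorem n_ba : gen .b * gen .a ≠ gen .a * gen .b := fun h => n_ab h.symm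

theorem ncomm_gen {x y : Gen} (h : coxLabel edges x y = 3) : gen x * gen y ≠ gen y * gen x := by
  have h1 : (x = .a ∧ y = .b) ∨ (x = .b ∧ y = .a) ∨ (x = .b ∧ y = .c) ∨ (x = .c ∧ y = .b) ∨
      (x = .c ∧ y = .d) ∨ (x = .d ∧ y = .c) ∨ (x = .d ∧ y = .e) ∨ (x = .e ∧ y = .d) ∨
      (x = .d ∧ y = .h) ∨ (x = .h ∧ y = .d) ∨ (x = .e ∧ y = .f) ∨ (x = .f ∧ y = .e) ∨
      (x = .f ∧ y = .g) ∨ (x = .g ∧ y = .f) ∨ (x = .g ∧ y = .j) ∨ (x = .j ∧ y = .g) ∨
      (x = .h ∧ y = .i) ∨ (x = .i ∧ y = .h) := by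
    revert h
    cases x <;> cases y <;> decide
  rcases h1 with ⟨rfl, rfl⟩ | ⟨rfl, rfl⟩ | ⟨rfl, rfl⟩ | ⟨rfl, rfl⟩ | ⟨rfl, rfl⟩ | ⟨rfl, rfl⟩ | ⟨rfl, rfl⟩ |
    ⟨rfl, rfl⟩ | ⟨rfl, rfl⟩ | ⟨rfl, rfl⟩ | ⟨rfl, rfl⟩ | ⟨rfl, rfl⟩ | ⟨rfl, rfl⟩ | ⟨rfl, rfl⟩ | ⟨rfl, rfl⟩ |
    ⟨rfl, rfl⟩ | ⟨rfl, rfl⟩ | ⟨rfl, rfl⟩
  · exact n_ab
  · exact n_ba
  · exact n_bc
  · exact n_cb
  · exact n_cd
  · exact n_dc
  · exact n_de
  · exact n_ed
  · exact n_dh
  · exact n_hd
  · exact n_ef
  · exact n_fe
  · exact n_fg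
  · exact n_gf
  · exact n_gj
  · exact n_jg
  · exact n_hi
  · exact n_ih

/-- the elements -/
noncomputable def el : Option Gen → Fi23
  | none => z0
  | some x => gen x

theorem ncomm_iff (x y : Option Gen) : ¬ Commute (el x) (el y) ↔ relO x y = true := by
  have hz : ∀ x : Gen, ¬ Commute z0 (gen x) ↔ x = .j := by
    intro x
    constructor
    · intro h
      by_contra hx
      exact h (z_gen x hx).symm
    · rintro rfl
      exact z0_ncomm
  rcases x with _ | x <;> rcases y with _ | y
  · simp [el, relO]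
  · show ¬ Commute z0 (gen y) ↔ decide (y = .j) = true
    rw [hz, decide_eq_true_iff]
  · show ¬ Commute (gen x) z0 ↔ decide (x = .j) = true
    rw [Commute.symm_iff, hz, decide_eq_true_iff]
  · show ¬ Commute (gen x) (gen y) ↔ decide (coxLabel edges x y = 3) = true
    rw [decide_eq_true_iff]
    constructor
    · intro h
      have h1 : coxLabel edges x y = 1 ∧ x = y ∨ coxLabel edges x y = 2 ∨ coxLabel edges x y = 3 := by
        cases x <;> cases y <;> decide
      rcases h1 with ⟨-, rfl⟩ | h1 | h1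
      · exact absurd (Commute.refl _) h
      · exact absurd (gen_comm x y h1) h
      · exact h1
    · intro h
      exact ncomm_gen h

/-! ### The frame -/

/-- the class of transpositions -/
def D : Set Fi23 := {x | IsConj z0 x}

/-- the frame -/
noncomputable def s (k : ℕ) : Fi23 := el (nm k)

theorem D_conj (g x : Fi23) (hx : x ∈ D) : g * x * g⁻¹ ∈ D :=
  IsConj.trans hx (isConj_iff.2 ⟨g, rfl⟩)

theorem el_mem (x : Option Gen) : el x ∈ D := by
  rcases x with _ | x
  · exact IsConj.refl _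
  · exact isConj_gen card_le x

theorem rho_el (x : Option Gen) : rho (el x) = wperm [netO x] := by
  rcases x with _ | x
  · exact rho_z0'
  · exact rho_gen' x

theorem ok_el (x : Option Gen) : WOk (2 ^ 15) [netO x] := by
  rcases x with _ | x
  · exact Cent.wz
  · exact wok [x]

/-- counting -/
theorem ncard_le {S : Set Fi23} {W : ℕ} (h : ∀ q ∈ S, ∃ g : Fi23, q = g * z0 * g⁻¹ ∧ W.testBit (rho g 0) = true) :
    S.ncard ≤ pc 15 W := by
  classical
  rw [← card_filter_testBit]
  have h' : ∀ q : Fi23, ∃ g : Fi23, q ∈ S → q = g * z0 * g⁻¹ ∧ W.testBit (rho g 0) = true := by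
    intro q
    by_cases hq : q ∈ S
    · obtain ⟨g, hg⟩ := h q hq
      exact ⟨g, fun _ => hg⟩
    · exact ⟨1, fun h => absurd h hq⟩
  choose f hf using h'
  rw [← Set.ncard_coe_finset]
  apply Set.ncard_le_ncard_of_injOn (fun q => rho (f q) 0)
  · intro q hq
    rw [Finset.coe_filter]
    exact ⟨Finset.mem_range.2 (lt_pow (act.2.2.1 _)), (hf q hq).2⟩
  · intro q hq q' hq' he
    rw [(hf q hq).1, (hf q' hq').1]
    exact eq_of_rho_eq he

/-- the candidates, with elements of the frame -/
def cand' (k : ℕ) : Set Fi23 := {q | q ∈ D ∧ ∀ i < k, (Commute (s i) q ↔ Commute (s i) (s k))}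

theorem full_testBit {p : ℕ} (hp : p < 31671) : (Nat.sub (Nat.pow 2 (31671 : ℕ)) 1).testBit p = true := by
  show (2 ^ 31671 - 1).testBit p = true
  rw [Nat.testBit_two_pow_sub_one, decide_eq_true hp]

theorem cand'_le (k : ℕ) : (cand' k).ncard ≤ cnt k := by
  apply ncard_le
  rintro q ⟨hq, hpat⟩
  obtain ⟨g, rfl⟩ := isConj_iff.1 hq
  refine ⟨g, rfl, ?_⟩
  have hp := act.2.2.1 g
  apply testBit_pat _ (lt_pow hp) (full_testBit hp)
  · intro w hw
    obtain ⟨i, hi, rfl⟩ := List.mem_map.1 hw
    have hi' := List.mem_range.1 hi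
    show wperm [netO (nm i)] (rho g 0) ≠ rho g 0 ↔ relO (nm i) (nm k) = true
    rw [← rho_el, ← ncomm_iff]
    apply not_congr
    rw [fixes_iff]
    exact hpat i hi'
  · intro w hw
    obtain ⟨i, -, rfl⟩ := List.mem_map.1 hw
    exact ok_el _

theorem cand_subset (k : ℕ) : cand D s k ⊆ cand' k := fun _ hq => ⟨hq.1, fun i hi => (hq.2 i hi).1⟩

theorem cand_le (k : ℕ) : (cand D s k).ncard ≤ cnt k :=
  (Set.ncard_le_ncard (cand_subset k) (Set.toFinite _)).trans (cand'_le k)

/-- elements of the frame among the candidates -/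
theorem cand_add_le (k : ℕ) (T : Finset ℕ) (hT : ∀ i ∈ T, i < k)
    (hinj : ∀ i ∈ T, ∀ j ∈ T, s i = s j → i = j)
    (hpat : ∀ i ∈ T, ∀ j < k, relO (nm j) (nm i) = relO (nm j) (nm k)) :
    (cand D s k).ncard + T.card ≤ cnt k := by
  classical
  refine le_trans ?_ (cand'_le k)
  have h1 : (s '' (T : Set ℕ)).ncard = T.card := by
    rw [Set.InjOn.ncard_image (fun i hi j hj h => hinj i hi j hj h), Set.ncard_coe_finset]
  have hd : Disjoint (cand D s k) (s '' (T : Set ℕ)) := by
    rw [Set.disjoint_left]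
    rintro _ hq ⟨i, hi, rfl⟩
    exact (hq.2 i (hT i hi)).2 rfl
  rw [← h1, ← Set.ncard_union_eq hd (Set.toFinite _) (Set.toFinite _)]
  apply Set.ncard_le_ncard _ (Set.toFinite _)
  rintro q (hq | ⟨i, hi, rfl⟩)
  · exact cand_subset k hq
  · refine ⟨el_mem _, fun j hj => ?_⟩
    apply not_iff_not.1
    show ¬ Commute (el (nm j)) (el (nm i)) ↔ ¬ Commute (el (nm j)) (el (nm k))
    rw [ncomm_iff, ncomm_iff, hpat i hi j hj]

/-- the elements of the frame are different -/
theorem el_inj {x y : Option Gen} (h : el x = el y) : x = y := by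
  have h1 : ∀ w : Option Gen, relO w x = relO w y := by
    intro w
    have h2 : (relO w x = true) ↔ (relO w y = true) := by rw [← ncomm_iff, ← ncomm_iff, h]
    cases h3 : relO w x <;> cases h4 : relO w y <;> simp_all
  have key : ∀ x y : Option Gen, (∀ w ∈ [none, some Gen.a, some .b, some .c, some .d, some .e, some .f, some .g,
      some .h, some .i, some .j], relO w x = relO w y) → x = y := by
    intro x y
    rcases x with _ | x <;> rcases y with _ | y
    · decide
    · cases y <;> decide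
    · cases x <;> decide
    · cases x <;> cases y <;> decide
  exact key x y (fun w _ => h1 w)

theorem nm_inj : ∀ i < 11, ∀ j < 11, nm i = nm j → i = j := by decide

/-- the numbers of candidates -/
def N : ℕ → ℕ
  | 0 => 31671
  | 1 => 3510
  | 2 => 693
  | 3 => 512
  | 4 => 144
  | 5 => 30
  | 6 => 6
  | 7 => 1
  | 8 => 1
  | 9 => 4
  | _ => 1

theorem cand_zero : (cand D s 0).ncard ≤ 31671 := by
  classical
  have h' : ∀ q : Fi23, ∃ g : Fi23, q ∈ cand D s 0 → q = g * z0 * g⁻¹ := by
    intro q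
    by_cases hq : q ∈ cand D s 0
    · obtain ⟨g, hg⟩ := isConj_iff.1 hq.1
      exact ⟨g, fun _ => hg.symm⟩
    · exact ⟨1, fun h => absurd h hq⟩
  choose f hf using h'
  have h1 : (cand D s 0).ncard ≤ ((Finset.range 31671 : Finset ℕ) : Set ℕ).ncard := by
    apply Set.ncard_le_ncard_of_injOn (fun q => rho (f q) 0)
    · intro q hq
      exact Finset.mem_coe.2 (Finset.mem_range.2 (act.2.2.1 _))
    · intro q hq q' hq' he
      rw [hf q hq, hf q' hq']
      exact eq_of_rho_eq he
  rwa [Set.ncard_coe_finset, Finset.card_range] at h1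

theorem hN : ∀ k < 11, (cand D s k).ncard ≤ N k := by
  have hc : ∀ {k n : ℕ}, Nat.beq (cnt k) n = true → (cand D s k).ncard ≤ n := by
    intro k n h
    rw [← Nat.eq_of_beq_eq_true h]
    exact cand_le k
  intro k hk
  interval_cases k
  · exact cand_zero
  · have h := cand_add_le 1 {0} (by simp) (by simp) (by decide)
    rw [Nat.eq_of_beq_eq_true cnt_1, Finset.card_singleton] at h
    show (cand D s 1).ncard ≤ 3510
    omega
  · have h := cand_add_le 2 {0, 1} (by simp) (by
      intro i hi j hj h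
      have hi' : i < 11 := by simp at hi; omega
      have hj' : j < 11 := by simp at hj; omega
      exact nm_inj i hi' j hj' (el_inj h)) (by decide)
    rw [Nat.eq_of_beq_eq_true cnt_2] at h
    have h2 : ({0, 1} : Finset ℕ).card = 2 := by decide
    rw [h2] at h
    show (cand D s 2).ncard ≤ 693
    omega
  · exact hc cnt_3
  · exact hc cnt_4
  · exact hc cnt_5
  · exact hc cnt_6
  · have h := cand_add_le 7 {6} (by simp) (by simp) (by decide)
    rw [Nat.eq_of_beq_eq_true cnt_7, Finset.card_singleton] at h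
    show (cand D s 7).ncard ≤ 1
    omega
  · exact hc cnt_8
  · exact hc cnt_9
  · exact hc cnt_10

theorem prod_N : ∏ k ∈ Finset.range 11, N k = 4089470473293004800 := by
  simp only [Finset.prod_range_succ, Finset.prod_range_zero, N]
  norm_num

theorem center_bot (g : Fi23) (h : ∀ x : Gen, g * gen x = gen x * g) : g = 1 := by
  have hs : IsSimpleGroup Fi23 := isFi23.1
  have hc : g ∈ center Fi23 := by
    rw [mem_center_iff]
    intro y
    have hy : y ∈ closure (Set.range gen) := by rw [Fi23Final.gens_top]; exact mem_top y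
    have h1 : closure (Set.range gen) ≤ centralizer ({g} : Set Fi23) := by
      rw [closure_le]
      rintro _ ⟨x, rfl⟩
      exact mem_centralizer_singleton_iff.2 (h x).symm
    exact mem_centralizer_singleton_iff.1 (h1 hy)
  rcases hs.eq_bot_or_eq_top_of_normal (center Fi23) inferInstance with h1 | h1
  · rw [h1] at hc
    exact mem_bot.1 hc
  · exfalso
    apply z0_ncomm
    have : z0 ∈ center Fi23 := by rw [h1]; exact mem_top _
    exact (mem_center_iff.1 this _).symm

theorem htriv (g : Fi23) (h : ∀ i < 11, g * s i = s i * g) : g = 1 := by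
  apply center_bot g
  intro x
  cases x
  · exact h 6 (by norm_num)
  · exact h 9 (by norm_num)
  · exact h 7 (by norm_num)
  · exact h 10 (by norm_num)
  · exact h 2 (by norm_num)
  · exact h 4 (by norm_num)
  · exact h 0 (by norm_num)
  · exact h 5 (by norm_num)
  · exact h 1 (by norm_num)
  · exact h 3 (by norm_num)

theorem hne : ∀ k < 11, ∀ i < k, s k ≠ s i := by
  intro k hk i hi h
  have := nm_inj k hk i (by omega) (el_inj h)
  omega

theorem orb_eq : ∀ k < 11, orb s k = cand D s k :=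
  Cfsg.Agent.Lib.ClassFrame.orb_eq D_conj (fun _ _ => el_mem _) hne hN (by rw [prod_N, card_Fi23]) htriv

/-- an automorphism preserving the class of transpositions is inner -/
theorem inner_of (α : MulAut Fi23) (hα : IsConj z0 (α z0)) : ∃ g : Fi23, α = MulAut.conj g := by
  apply Cfsg.Agent.Lib.ClassFrame.inner D_conj (fun _ _ => el_mem _) orb_eq hne
  · rw [eq_top_iff, ← Fi23Final.gens_top]
    apply Subgroup.closure_mono
    rintro _ ⟨x, rfl⟩
    cases x
    · exact ⟨6, by norm_num, rfl⟩
    · exact ⟨9, by norm_num, rfl⟩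
    · exact ⟨7, by norm_num, rfl⟩
    · exact ⟨10, by norm_num, rfl⟩
    · exact ⟨2, by norm_num, rfl⟩
    · exact ⟨4, by norm_num, rfl⟩
    · exact ⟨0, by norm_num, rfl⟩
    · exact ⟨5, by norm_num, rfl⟩
    · exact ⟨1, by norm_num, rfl⟩
    · exact ⟨3, by norm_num, rfl⟩
  · intro x hx
    obtain ⟨g, rfl⟩ := isConj_iff.1 hx
    refine IsConj.trans hα (isConj_iff.2 ⟨α g, ?_⟩)
    rw [map_mul, map_mul, map_inv]

end Cfsg.Agent.KFacts.FiTTh.Inn
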