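import Cfsg.Agent.KFacts.FiTTh.Cent
import Cfsg.Agent.S1696
import Cfsg.Prelude.Def_CaseTheorems

/-!
# K-facts for `Fi₂₃`: `C(z0) = 2.Fi₂₂` is quasisimple with centre `⟨z0⟩`
-/

set_option autoImplicit false
set_option maxRecDepth 100000
set_option linter.style.haveILetI false

namespace Cfsg.Agent.KFacts.FiTTh.Quasi

open Subgroup
open Cfsg.Agent.Fischer.Fi23Hom Cfsg.Agent.Fischer.Fi23Class Cfsg.Agent.Fischer.Fi23Z
open Cfsg.Agent.Fischer
open Cfsg.Agent.KFacts.FiTTh.Cent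
open Cfsg.Spor

theorem cover : Cfsg.IsNonsplitDoubleCover K Fi22 :=
  Fi23Cover.isNonsplitDoubleCover Fi23Simple.isFi23 S1696.result

theorem qs_K : Cfsg.IsQuasisimple K := by
  obtain ⟨-, ⟨e⟩, -⟩ := cover
  refine ⟨⟨Fi23Cover.commutator_K⟩, ?_⟩
  haveI : IsSimpleGroup Fi22 := S1696.result.1
  exact e.isSimpleGroup

theorem qs : Cfsg.IsQuasisimple (centralizer ({z0} : Set Fi23)) := by
  rw [← K_eq]
  exact qs_K

theorem cen (x : Fi23) (h : ∀ y : Fi23, y * z0 = z0 * y → x * y = y * x) : x = 1 ∨ x = z0 := by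
  have hx : x ∈ K := (mem_K_iff x).2 (h z0 rfl)
  have hc : (⟨x, hx⟩ : K) ∈ center K := by
    rw [mem_center_iff]
    intro g
    exact Subtype.ext (h g ((mem_K_iff _).1 g.2)).symm
  have h2 : Nat.card (center K) = 2 := cover.1
  have hz1 : z0 ≠ 1 := by
    intro h
    apply z0_ncomm
    rw [h, one_mul, mul_one]
  by_cases hx1 : x = 1
  · exact Or.inl hx1
  right
  obtain ⟨y, -, hy⟩ := (Nat.card_eq_two_iff' (1 : center K)).1 h2
  have e1 := hy ⟨Fi23Cover.zK, zK_center⟩ (by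
    intro h
    exact hz1 (congrArg (fun t : center K => ((t : K) : Fi23)) h))
  have e2 := hy ⟨⟨x, hx⟩, hc⟩ (by
    intro h
    exact hx1 (congrArg (fun t : center K => ((t : K) : Fi23)) h))
  exact congrArg (fun t : center K => ((t : K) : Fi23)) (e2.trans e1.symm)

end Cfsg.Agent.KFacts.FiTTh.Quasi
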