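import Cfsg.Agent.KFacts.FiTTh.BasSheet
import Cfsg.Agent.KFacts.FiTTh.BasLoc
import Cfsg.Agent.KFacts.FiTTh.BasFi
import Cfsg.Agent.KFacts.FiTTh.Quasi
import Cfsg.Agent.KFacts.FiTTh.Der
import Cfsg.Agent.KFacts.FiTTh.Inn

/-!
# Fi23: the sheet of D8, and `Out(Fi23) = 1`

* `has : OddHalf.D8.Fi23.Has Spor.Fi23` (helper286, helper840, helper8);
* `inn : ∀ α : MulAut Spor.Fi23, ∃ g, α = MulAut.conj g`.
-/

set_option autoImplicit false
set_option maxRecDepth 100000

namespace Cfsg.Agent.KFacts.FiTTh.Has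

open Cfsg Subgroup
open Cfsg.Spor Cfsg.Spor.Fi23
open Cfsg.Agent.Fischer Cfsg.Agent.Fischer.Fi23Hom Cfsg.Agent.Fischer.Fi23Z Cfsg.Agent.Fischer.Fi23Simple
open Cfsg.Agent.KFacts.FiTTh

/-- the data of helper286 -/
theorem base : BasDef.Base BasFi.e := BasFi.base BasFi.pre.cardA

theorem loc : Uniq.Loc (BasDef.A BasFi.e) BasFi.e (BasDef.pr BasFi.e) base.ind := base.loc

/-- the numbering of the 23 points -/
def s : Fin 23 ≃ ZMod 23 := (List.formPerm [(0 : Fin 23), 13, 2, 1] : Equiv.Perm (Fin 23))

theorem s0 : s 0 = 13 := by decide +kernel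
theorem s1 : s 1 = 0 := by decide +kernel
theorem s2 : s 2 = 1 := by decide +kernel

theorem odd : ¬ 2 ∣ (normalizer (BasDef.A BasFi.e : Set Fi23)).index := Uniq.odd_index card_Fi23 base.cardN

theorem u_mem : gen .b * (BasFi.e (some 0) * BasFi.e (some 1)) * gen .b ∈
    normalizer (BasDef.A BasFi.e : Set Fi23) := BasDef.Base.mem_normalizer_of BasFi.b_conj

theorem ind_u : ((base.ind ⟨_, u_mem⟩ : Spor.M23) : Equiv.Perm GolayPt) = BasTau.tau 4 :=
  base.ind_eq BasFi.b_conj

/-- every involution is conjugate into `A` -/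
theorem exists_conj {t : Fi23} (ht : t * t = 1) : ∃ y ∈ BasDef.A BasFi.e, IsConj t y := by
  refine loc.exists_conj odd (x := gen .b) (i := some 0) (j := some 1) BasFi.octB_mem
    (Fi23Final.gen_sq .b) (fun p hp => BasFi.b_comm (List.mem_toFinset.1 hp)) u_mem ?_ ?_ ht
  · intro p hp
    rw [ind_u]
    exact BasChk.tau4_octB p (List.mem_toFinset.1 hp)
  · rw [ind_u]
    intro h
    have := BasChk.tau4_zero
    rw [h] at this
    exact absurd this (by decide)

theorem three : ∀ i j k i' j' k' : Fin 23, i ≠ j → i ≠ k → j ≠ k → i' ≠ j' → i' ≠ k' → j' ≠ k' →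
    ∃ n ∈ normalizer (BasDef.A BasFi.e : Set Fi23), n * BasFi.e (some (s i)) * n⁻¹ = BasFi.e (some (s i')) ∧
      n * BasFi.e (some (s j)) * n⁻¹ = BasFi.e (some (s j')) ∧
      n * BasFi.e (some (s k)) * n⁻¹ = BasFi.e (some (s k')) := BasSheet.three s loc

theorem inv : ∀ x : Fi23, x * x = 1 → x ≠ 1 → IsConj x z0 ∨ IsConj x (z0 * gen .a) ∨
    IsConj x (z0 * gen .a * gen .c) := by
  have h := Uniq.inv_of (A := BasDef.A BasFi.e) (a := fun i => BasFi.e (some (s i))) loc.sq (BasSheet.mem s loc)
    (BasSheet.shape s loc) three (fun t ht => exists_conj ht)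
  simp only [s0, s1, s2, BasFi.e_z, BasFi.e_a, BasFi.e_c] at h
  exact h

/-- **the facts on `Fi23`** -/
theorem sheet : ∃ S : Sylow 2 Fi23, OddHalf.D8.Fi23.Sheet Fi23 (BasDef.A BasFi.e) S
    (fun i => BasFi.e (some (s i))) := by
  obtain ⟨S, hAS, hcS⟩ := BasSheet.exists_S loc card_Fi23 base.cardN
  refine ⟨S, ?_⟩
  have h0 : BasFi.e (some (s 0)) = z0 := by rw [s0, BasFi.e_z]
  have h1 : BasFi.e (some (s 1)) = gen .a := by rw [s1, BasFi.e_a]
  have h2 : BasFi.e (some (s 2)) = gen .c := by rw [s2, BasFi.e_c]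
  exact
    { sq := loc.sq
      cardA := loc.cardA
      self := BasSheet.self loc
      mem := BasSheet.mem s loc
      shape := BasSheet.shape s loc
      perm := BasSheet.perm s loc
      three := three
      fix := BasSheet.fix s loc
      cardN := base.cardN
      AS := hAS
      cardS := hcS
      uniq := loc.uniq odd S hAS
      inv := Uniq.inv_of (A := BasDef.A BasFi.e) (a := fun i => BasFi.e (some (s i))) loc.sq
        (BasSheet.mem s loc) (BasSheet.shape s loc) three (fun t ht => exists_conj ht)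
      der2 := by have h := Der.der2; rw [← h0, ← h1] at h; exact h
      der3 := by have h := Der.der3; rw [← h0, ← h1, ← h2] at h; exact h
      qs := by have h := Quasi.qs; rw [← h0] at h; exact h
      cen := by have h := Quasi.cen; rw [← h0] at h; exact h
      thirteen := by have h := Cent.thirteen; rw [← h0] at h; exact h
      gen := by have h := Cent.gen_top; rw [← h0, ← h1] at h; exact h
      c2 := by have h := Cent.c2; rw [← h0, ← h1] at h; exact h
      c3 := by have h := Cent.c3; rw [← h0, ← h1, ← h2] at h; exact h }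

theorem has : OddHalf.D8.Fi23.Has Spor.Fi23 := by
  obtain ⟨S, h⟩ := sheet
  exact ⟨_, S, _, h⟩

/-! ### Automorphisms -/

theorem card_cent_conj (α : MulAut Fi23) (x : Fi23) :
    Nat.card (centralizer ({α x} : Set Fi23)) = Nat.card (centralizer ({x} : Set Fi23)) := by
  have h : (centralizer ({x} : Set Fi23)).map α.toMonoidHom = centralizer ({α x} : Set Fi23) := by
    ext y
    rw [mem_centralizer_singleton_iff]
    constructor
    · rintro ⟨z, hz, rfl⟩
      have hz' := mem_centralizer_singleton_iff.1 hz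
      show α z * α x = α x * α z
      rw [← map_mul, hz', map_mul]
    · intro hy
      refine ⟨α.symm y, mem_centralizer_singleton_iff.2 ?_, α.apply_symm_apply y⟩
      apply α.injective
      rw [map_mul, map_mul]
      have e1 : α (α.symm y) = y := α.apply_symm_apply y
      rw [e1, hy]
  rw [← h]
  exact (Nat.card_congr ((centralizer ({x} : Set Fi23)).equivMapOfInjective _ α.injective).toEquiv).symm

theorem card_cent_of_isConj {x y : Fi23} (h : IsConj x y) :
    Nat.card (centralizer ({x} : Set Fi23)) = Nat.card (centralizer ({y} : Set Fi23)) := by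
  obtain ⟨g, rfl⟩ := isConj_iff.1 h
  exact (card_cent_conj (MulAut.conj g) x).symm

/-- **`Out(Fi23) = 1`** -/
theorem inn (α : MulAut Fi23) : ∃ g : Fi23, α = MulAut.conj g := by
  apply Inn.inner_of
  have h13 : 13 ∣ Nat.card (centralizer ({α z0} : Set Fi23)) := by
    rw [card_cent_conj]; exact Cent.thirteen
  have hz : z0 * z0 = 1 := Cent.zz
  have hne : α z0 ≠ 1 := by
    intro h
    have h1 : z0 = 1 := α.injective (by rw [h, map_one])
    exact BasFi.z0_ne h1
  rcases inv (α z0) (by rw [← map_mul, hz, map_one]) hne with h | h | h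
  · exact h.symm
  · rw [card_cent_of_isConj h] at h13
    exact absurd h13 Cent.c2
  · rw [card_cent_of_isConj h] at h13
    exact absurd h13 Cent.c3

end Cfsg.Agent.KFacts.FiTTh.Has
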