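import Cfsg.Agent.KFacts.FiTTh.GamCore
import Cfsg.Agent.KFacts.FiTTh.Has
import Cfsg.Agent.OddHalf.D8.Fi23.Loc
import Cfsg.Agent.Lib.ComponentSolvable

/-!
# Fi23: kind (GAM) of D4 (helper8)

`gam` : a subgroup `D` normalizing `B`, containing `C(b)` for all the involutions `b` of `B`, where `B` has two
commuting involutions, is the whole group.
-/

set_option autoImplicit false

namespace Cfsg.Agent.KFacts.FiTTh.Gam

open Cfsg Subgroup
open Cfsg.Agent.KFacts.FiTTh Cfsg.Agent.KFacts.FiTTh.Uniq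
open Cfsg.Agent.OddHalf.D8.Fi23 (Sheet Code)
open scoped Pointwise

variable {K : Type*} [Group K] {A : Subgroup K} {e : GolayPt → K} {pr : Finset GolayPt → K}
  {ind : ↥(normalizer (A : Set K)) →* ↥Spor.M23}

/-- the situation: `D` normalizes `B` and contains `C(b)` for the involutions `b` of `B` -/
structure Sit (B D : Subgroup K) : Prop where
  cen : ∀ b ∈ B, b * b = 1 → b ≠ 1 → ∀ c : K, c * b = b * c → c ∈ D
  nor : ∀ d ∈ D, ∀ n ∈ B, d * n * d⁻¹ ∈ B

theorem Sit.conj {B D : Subgroup K} (h : Sit B D) (g : K) :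
    Sit (B.map (MulAut.conj g).toMonoidHom) (D.map (MulAut.conj g).toMonoidHom) := by
  have hm : ∀ {H : Subgroup K} {y : K}, y ∈ H.map (MulAut.conj g).toMonoidHom ↔ g⁻¹ * y * g ∈ H := by
    intro H y
    constructor
    · rintro ⟨z, hz, rfl⟩
      show g⁻¹ * (g * z * g⁻¹) * g ∈ H
      rwa [show g⁻¹ * (g * z * g⁻¹) * g = z by group]
    · intro hy
      exact ⟨_, hy, by show g * (g⁻¹ * y * g) * g⁻¹ = y; group⟩
  constructor
  · intro b hb hbb hb1 c hc
    rw [hm] at hb ⊢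
    refine h.cen _ hb ?_ ?_ _ ?_
    · calc g⁻¹ * b * g * (g⁻¹ * b * g) = g⁻¹ * (b * b) * g := by group
        _ = 1 := by rw [hbb]; group
    · intro h1
      apply hb1
      calc b = g * (g⁻¹ * b * g) * g⁻¹ := by group
        _ = 1 := by rw [h1]; group
    · calc g⁻¹ * c * g * (g⁻¹ * b * g) = g⁻¹ * (c * b) * g := by group
        _ = g⁻¹ * (b * c) * g := by rw [hc]
        _ = _ := by group
  · intro d hd n hn
    rw [hm] at hd hn ⊢
    have := h.nor _ hd _ hn
    rwa [show g⁻¹ * d * g * (g⁻¹ * n * g) * (g⁻¹ * d * g)⁻¹ = g⁻¹ * (d * n * d⁻¹) * g by group] at this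

/-! ### Step A: two involutions of `A` -/

section

variable {S : Sylow 2 K} {s : Fin 23 ≃ ZMod 23}

theorem stepA [Finite K] (hl : Loc A e pr ind) (hz : e none = 1) (hoct : ∀ O ∈ octads, pr O = 1)
    (hs : Sheet K A S (fun i => e (some (s i)))) {B D : Subgroup K} (h : Sit B D) {x w : K} (hx : x ∈ A) (hxB : x ∈ B)
    (hx1 : x ≠ 1) (hw : w ∈ A) (hwB : w ∈ B) (hw1 : w ≠ 1) (hxw : x ≠ w) : D = ⊤ := by
  have H : GamCore.Hyp A e pr ind (B ⊓ A) :=
    { loc := hl
      zero := hz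
      oct := hoct
      le := inf_le_right
      inv := by
        intro u hu hu1 n hn hc v hv
        have hnD : n ∈ D := h.cen u hu.1 (hl.sq u hu.2) hu1 n hc
        exact ⟨h.nor n hnD v hv.1, (mem_normalizer_iff.1 hn v).1 hv.2⟩ }
  obtain ⟨p, hp, hpU⟩ := H.single (x := x) (w := w) ⟨hxB, hx⟩ hx1 ⟨hwB, hw⟩ hw1 hxw
  obtain ⟨i, rfl⟩ : ∃ i, p = some (s i) := by
    rcases p with _ | q
    · exact absurd rfl hp
    · exact ⟨s.symm q, by rw [Equiv.apply_symm_apply]⟩
  have hai : e (some (s i)) ≠ 1 := hl.single_ne hp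
  have hsq : e (some (s i)) * e (some (s i)) = 1 := hl.sq _ hpU.2
  -- an element of `A ∩ B` different from `1`, `e p`
  obtain ⟨v, hvA, hvB, hv1, hvp⟩ : ∃ v ∈ A, v ∈ B ∧ v ≠ 1 ∧ v ≠ e (some (s i)) := by
    by_cases hxp : x = e (some (s i))
    · exact ⟨w, hw, hwB, hw1, fun h' => hxw (hxp.trans h'.symm)⟩
    · exact ⟨x, hx, hxB, hx1, hxp⟩
  have hCD : ∀ c : K, c * e (some (s i)) = e (some (s i)) * c → c ∈ D := h.cen _ hpU.1 hsq hai
  have hnorm : ((B ⊓ centralizer ({e (some (s i))} : Set K)).subgroupOf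
      (centralizer ({e (some (s i))} : Set K))).Normal := by
    constructor
    intro n hn g
    rw [mem_subgroupOf] at hn ⊢
    exact ⟨h.nor g (hCD g (mem_centralizer_singleton_iff.1 g.2)) n hn.1, (g * n * g⁻¹).2⟩
  have hCB : centralizer ({e (some (s i))} : Set K) ≤ B := by
    rcases Cfsg.Agent.Lib.ComponentSolvable.quasisimple_normal_cases (hs.qs' i) hnorm with h1 | h1
    · intro c hc
      have : (⟨c, hc⟩ : centralizer ({e (some (s i))} : Set K)) ∈ (B ⊓ centralizer ({e (some (s i))} : Set K)).subgroupOf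
          (centralizer ({e (some (s i))} : Set K)) := by rw [h1]; exact mem_top _
      rw [mem_subgroupOf] at this
      exact this.1
    · exfalso
      have hvC : v ∈ centralizer ({e (some (s i))} : Set K) :=
        mem_centralizer_singleton_iff.2 (hl.comm hvA hpU.2)
      have h2 : (⟨v, hvC⟩ : centralizer ({e (some (s i))} : Set K)) ∈ center _ := h1 (by
        rw [mem_subgroupOf]
        exact ⟨hvB, hvC⟩)
      rcases hs.cen' i (x := v) (fun y hy => by
        have h3 := mem_center_iff.1 h2 ⟨y, mem_centralizer_singleton_iff.2 hy⟩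
        exact (congrArg Subtype.val h3).symm) with h4 | h4
      · exact hv1 h4
      · exact hvp h4
  obtain ⟨j, hij⟩ : ∃ j, i ≠ j := by
    obtain ⟨j, k, h1, -, -⟩ := OddHalf.D8.Fi23.exists_two i
    exact ⟨j, h1⟩
  have hjA : e (some (s j)) ∈ A := hs.mem j
  have hjB : e (some (s j)) ∈ B := hCB (mem_centralizer_singleton_iff.2 (hl.comm hjA hpU.2))
  have hj1 : e (some (s j)) ≠ 1 := hl.single_ne (by simp)
  rw [eq_top_iff, ← hs.gen' hij]
  refine sup_le (fun c hc => hCD c (mem_centralizer_singleton_iff.1 hc)) (fun c hc => ?_)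
  exact h.cen _ hjB (hl.sq _ hjA) hj1 c (mem_centralizer_singleton_iff.1 hc)

/-! ### Step B: a Sylow subgroup centralizing `x ∈ A` -/

theorem exists_move (hl : Loc A e pr ind) {T T' : Finset GolayPt} (hn : none ∉ T) (hn' : none ∉ T')
    (hc : T.card = T'.card) (h3 : T.card ≤ 3) : ∃ n ∈ normalizer (A : Set K), n * pr T * n⁻¹ = pr T' := by
  classical
  let f : Fin T.card ≃ T := (Finset.equivFin T).symm
  let f' : Fin T.card ≃ T' := (Finset.equivFinOfCardEq hc.symm).symm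
  have hemb : ∀ {U : Finset GolayPt} (g : Fin T.card ≃ U), none ∉ U →
      Function.Injective (Fin.cons none (fun i => ((g i : U) : GolayPt)) : Fin (T.card + 1) → GolayPt) := by
    intro U g hU
    rw [Fin.cons_injective_iff]
    refine ⟨?_, fun i j h => g.injective (Subtype.ext h)⟩
    rintro ⟨i, hi⟩
    exact hU (hi ▸ (g i).2)
  obtain ⟨m, hm⟩ := BasCode.exists_map_emb (n := T.card + 1) (by omega) ⟨_, hemb f hn⟩ ⟨_, hemb f' hn'⟩
  have hm0 : (m : Equiv.Perm GolayPt) none = none := hm 0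
  obtain ⟨n, hn1⟩ := hl.surj ⟨(m : Equiv.Perm GolayPt), MTwThree.mem_M23.2 ⟨m.2, hm0⟩⟩
  refine ⟨n, n.2, ?_⟩
  rw [hl.conj, hn1]
  congr 1
  show (m : Equiv.Perm GolayPt) • T = T'
  ext x
  rw [Finset.mem_smul_finset]
  constructor
  · rintro ⟨y, hy, rfl⟩
    have h1 := hm (Fin.succ (f.symm ⟨y, hy⟩))
    have h2 : (m : Equiv.Perm GolayPt) ((f (f.symm ⟨y, hy⟩) : T) : GolayPt) =
        ((f' (f.symm ⟨y, hy⟩) : T') : GolayPt) := h1
    rw [Equiv.apply_symm_apply] at h2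
    show (m : Equiv.Perm GolayPt) y ∈ T'
    have h3 : (m : Equiv.Perm GolayPt) y = ((f' (f.symm ⟨y, hy⟩) : T') : GolayPt) := h2
    rw [h3]
    exact (f' _).2
  · intro hx
    refine ⟨(f (f'.symm ⟨x, hx⟩) : T), (f _).2, ?_⟩
    have h1 := hm (Fin.succ (f'.symm ⟨x, hx⟩))
    have h2 : (m : Equiv.Perm GolayPt) ((f (f'.symm ⟨x, hx⟩) : T) : GolayPt) =
        ((f' (f'.symm ⟨x, hx⟩) : T') : GolayPt) := h1
    rw [Equiv.apply_symm_apply] at h2
    exact h2

theorem card_sets {k : ℕ} (hk : k = 1 ∨ k = 2 ∨ k = 3) :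
    ¬ 2 ∣ Nat.card {T : Finset GolayPt // none ∉ T ∧ T.card = k} := by
  classical
  have h1 : Nat.card {T : Finset GolayPt // none ∉ T ∧ T.card = k} =
      (Finset.powersetCard k ((Finset.univ : Finset GolayPt).erase none)).card := by
    rw [Nat.card_eq_fintype_card, Fintype.card_subtype]
    congr 1
    ext T
    rw [Finset.mem_filter, Finset.mem_powersetCard]
    constructor
    · rintro ⟨-, hn, hc⟩
      exact ⟨fun x hx => Finset.mem_erase.2 ⟨fun h => hn (h ▸ hx), Finset.mem_univ _⟩, hc⟩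
    · rintro ⟨hs, hc⟩
      exact ⟨Finset.mem_univ _, fun hn => Finset.notMem_erase _ _ (hs hn), hc⟩
  rw [h1, Finset.card_powersetCard, Finset.card_erase_of_mem (Finset.mem_univ _), Finset.card_univ,
    MTwThree.card_pts]
  rcases hk with rfl | rfl | rfl <;> decide

theorem exists_fixed [Finite K] (hl : Loc A e pr ind) (P : Sylow 2 K) (hP : (P : Subgroup K) ≤ normalizer (A : Set K))
    {k : ℕ} (hk : k = 1 ∨ k = 2 ∨ k = 3) :
    ∃ T : Finset GolayPt, none ∉ T ∧ T.card = k ∧ ∀ g ∈ P, g * pr T = pr T * g := by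
  classical
  let Ω := {T : Finset GolayPt // none ∉ T ∧ T.card = k}
  let act : MulAction ↥(P : Subgroup K) Ω :=
    { smul := fun g T => ⟨((ind ⟨g, hP g.2⟩ : Spor.M23) : Equiv.Perm GolayPt) • T.1, by
        constructor
        · rw [Finset.mem_smul_finset]
          rintro ⟨y, hy, hyn⟩
          have h1 : ((ind ⟨g, hP g.2⟩ : Spor.M23) : Equiv.Perm GolayPt) y =
            ((ind ⟨g, hP g.2⟩ : Spor.M23) : Equiv.Perm GolayPt) none := by
              rw [BasSheet.ind_none]; exact hyn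
          exact T.2.1 ((Equiv.injective _ h1) ▸ hy)
        · rw [Finset.card_smul_finset]; exact T.2.2⟩
      one_smul := fun T => Subtype.ext (by
        show ((ind ⟨((1 : ↥(P : Subgroup K)) : K), _⟩ : Spor.M23) : Equiv.Perm GolayPt) • T.1 = T.1
        have h1 : (⟨((1 : ↥(P : Subgroup K)) : K), hP (1 : ↥(P : Subgroup K)).2⟩ : ↥(normalizer (A : Set K))) = 1 := rfl
        rw [h1, map_one]
        exact one_smul _ _)
      mul_smul := fun g g' T => Subtype.ext (by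
        show ((ind ⟨((g * g' : ↥(P : Subgroup K)) : K), _⟩ : Spor.M23) : Equiv.Perm GolayPt) • T.1 =
          ((ind ⟨g, hP g.2⟩ : Spor.M23) : Equiv.Perm GolayPt) • (((ind ⟨g', hP g'.2⟩ : Spor.M23) : Equiv.Perm GolayPt) • T.1)
        have h1 : (⟨((g * g' : ↥(P : Subgroup K)) : K), hP (g * g').2⟩ : ↥(normalizer (A : Set K))) =
          ⟨g, hP g.2⟩ * ⟨g', hP g'.2⟩ := rfl
        rw [h1, map_mul, ← mul_smul]
        rfl) }
  have hfin : Finite Ω := by infer_instance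
  obtain ⟨T, hT⟩ := P.isPGroup'.nonempty_fixed_point_of_prime_not_dvd_card Ω (card_sets hk)
  refine ⟨T.1, T.2.1, T.2.2, fun g hg => ?_⟩
  have h1 := congrArg Subtype.val (hT ⟨g, hg⟩)
  have h2 : ((ind ⟨g, hP hg⟩ : Spor.M23) : Equiv.Perm GolayPt) • T.1 = T.1 := h1
  have h3 := hl.conj ⟨g, hP hg⟩ T.1
  rw [h2] at h3
  have h4 : g * pr T.1 * g⁻¹ = pr T.1 := h3
  calc g * pr T.1 = (g * pr T.1 * g⁻¹) * g := by group
    _ = pr T.1 * g := by rw [h4]

/-- a Sylow 2-subgroup between `A` and `N(A)`, centralizing `x ∈ A` -/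
theorem exists_sylow [Finite K] (hl : Loc A e pr ind) (hodd : ¬ 2 ∣ (normalizer (A : Set K)).index) {x : K}
    (hx : x ∈ A) : ∃ P : Sylow 2 K, (P : Subgroup K) ≤ normalizer (A : Set K) ∧ ∀ g ∈ P, g * x = x * g := by
  obtain ⟨P, hP⟩ := Loc.exists_sylow hodd
  obtain ⟨X, hnX, hX3, rfl⟩ := hl.repr x hx
  by_cases h0 : X.card = 0
  · refine ⟨P, hP, fun g _ => ?_⟩
    rw [Finset.card_eq_zero.1 h0, hl.empty, one_mul, mul_one]
  obtain ⟨T, hT, hTc, hT'⟩ := exists_fixed hl P hP (k := X.card) (by omega)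
  obtain ⟨n, hn, hnT⟩ := exists_move hl hT hnX hTc (by omega)
  have hmem : ∀ {y : K}, y ∈ (n • P : Sylow 2 K) ↔ n⁻¹ * y * n ∈ P := by
    intro y
    have h0 : y ∈ (n • P : Sylow 2 K) ↔ y ∈ MulAut.conj n • (P : Subgroup K) := Iff.rfl
    rw [h0, Subgroup.mem_pointwise_smul_iff_inv_smul_mem, ← map_inv, MulAut.smul_def, MulAut.conj_apply, inv_inv]
    exact Iff.rfl
  refine ⟨n • P, ?_, ?_⟩
  · intro y hy
    have h1 := hP (hmem.1 hy)
    have h2 := (normalizer (A : Set K)).mul_mem ((normalizer (A : Set K)).mul_mem hn h1)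
      ((normalizer (A : Set K)).inv_mem hn)
    rwa [show n * (n⁻¹ * y * n) * n⁻¹ = y by group] at h2
  · intro g hg
    have h1 := hT' _ (hmem.1 hg)
    rw [← hnT]
    calc g * (n * pr T * n⁻¹) = n * ((n⁻¹ * g * n) * pr T) * n⁻¹ := by group
      _ = n * (pr T * (n⁻¹ * g * n)) * n⁻¹ := by rw [h1]
      _ = _ := by group

/-- an element `w ∈ N(A)` with `[w, A] ≤ ⟨x⟩` is in `A` -/
theorem mem_of_comm [Finite K] (hs : Sheet K A S (fun i => e (some (s i)))) {w x : K}
    (hw : w ∈ normalizer (A : Set K)) (h : ∀ a ∈ A, w * a * w⁻¹ * a⁻¹ = 1 ∨ w * a * w⁻¹ * a⁻¹ = x) : w ∈ A := by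
  classical
  have C := hs.code
  set a : Fin 23 → K := fun i => e (some (s i)) with ha
  by_cases hall : ∀ i, w * a i = a i * w
  · apply hs.fix w hw
    have h1 : {i | w * a i = a i * w} = Set.univ := by
      ext i; simp [hall i]
    rw [h1, Set.ncard_univ, Nat.card_eq_fintype_card, Fintype.card_fin]
    norm_num
  · push Not at hall
    obtain ⟨i0, hi0⟩ := hall
    have key : ∀ i, w * a i ≠ a i * w → ∃ j, j ≠ i ∧ x = a j * a i := by
      intro i hi
      obtain ⟨j, hj⟩ := hs.perm w hw i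
      have hj' : w * a i * w⁻¹ = a j := hj
      refine ⟨j, ?_, ?_⟩
      · rintro rfl
        apply hi
        calc w * a j = (w * a j * w⁻¹) * w := by group
          _ = a j * w := by rw [hj']
      · rcases h (a i) (hs.mem i) with h1 | h1
        · exfalso
          apply hi
          rw [mul_inv_eq_one] at h1
          calc w * a i = (w * a i * w⁻¹) * w := by group
            _ = a i * w := by rw [h1]
        · rw [← h1, hj', C.inv_eq (hs.mem i)]
    obtain ⟨j0, hj0, hx0⟩ := key i0 hi0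
    apply hs.fix w hw
    have h2 : ((Finset.univ \ {i0, j0} : Finset (Fin 23)) : Set (Fin 23)) ⊆ {i | w * a i = a i * w} := by
      intro i hi
      rw [Finset.mem_coe, Finset.mem_sdiff, Finset.mem_insert, Finset.mem_singleton] at hi
      by_contra hne
      obtain ⟨j, hj, hxj⟩ := key i hne
      have h3 : C.pr {j, i} = C.pr {j0, i0} := by
        rw [C.pr_pair hj, C.pr_pair hj0, ← hxj, hx0]
      have h4 := C.inj (Finset.card_le_two.trans (by norm_num)) (Finset.card_le_two.trans (by norm_num)) h3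
      have h5 : i ∈ ({j0, i0} : Finset (Fin 23)) := by rw [← h4]; simp
      rw [Finset.mem_insert, Finset.mem_singleton] at h5
      exact hi.2 h5.symm
    have h3 := Set.ncard_le_ncard h2 (Set.toFinite _)
    rw [Set.ncard_coe_finset, Finset.card_sdiff_of_subset (Finset.subset_univ _), Finset.card_univ,
      Fintype.card_fin] at h3
    have h4 : ({i0, j0} : Finset (Fin 23)).card ≤ 2 := Finset.card_le_two
    refine le_trans ?_ h3
    omega

theorem stepB [Finite K] (hl : Loc A e pr ind) (hz : e none = 1) (hoct : ∀ O ∈ octads, pr O = 1)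
    (hodd : ¬ 2 ∣ (normalizer (A : Set K)).index)
    (hs : Sheet K A S (fun i => e (some (s i)))) {B D : Subgroup K} (h : Sit B D) {x x' : K} (hx : x ∈ A)
    (hxB : x ∈ B) (hx1 : x ≠ 1) (hxB' : x' ∈ B) (hxx' : x' * x' = 1) (hx1' : x' ≠ 1) (hc : x * x' = x' * x)
    (hne : x ≠ x') : D = ⊤ := by
  have hsq : x * x = 1 := hl.sq x hx
  obtain ⟨P, hPN, hPx⟩ := exists_sylow hl hodd hx
  have hCD : ∀ c : K, c * x = x * c → c ∈ D := h.cen x hxB hsq hx1
  -- conjugate `x'` into `P`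
  obtain ⟨c, hcx, hcP⟩ : ∃ c : K, c * x = x * c ∧ c * x' * c⁻¹ ∈ P := by
    set C : Subgroup K := centralizer ({x} : Set K) with hC
    have hPC : (P : Subgroup K) ≤ C := fun g hg => mem_centralizer_singleton_iff.2 (hPx g hg)
    have hx'C : x' ∈ C := mem_centralizer_singleton_iff.2 hc.symm
    have h2 : IsPGroup 2 (zpowers (⟨x', hx'C⟩ : C)) := by
      rintro ⟨y, hy⟩
      refine ⟨1, ?_⟩
      obtain ⟨k, rfl⟩ := mem_zpowers_iff.1 hy
      apply Subtype.ext
      have h3 : (⟨x', hx'C⟩ : C) * ⟨x', hx'C⟩ = 1 := Subtype.ext hxx'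
      show ((⟨x', hx'C⟩ : C) ^ k) ^ 2 ^ 1 = 1
      rw [pow_one, pow_two, ← zpow_add, ← two_mul, zpow_mul, zpow_two, h3, one_zpow]
    obtain ⟨Q, hQ⟩ := h2.exists_le_sylow
    obtain ⟨c, hcQ⟩ := MulAction.exists_smul_eq C Q (P.subtype hPC)
    refine ⟨c, mem_centralizer_singleton_iff.1 c.2, ?_⟩
    have h4 : c * ⟨x', hx'C⟩ * c⁻¹ ∈ P.subtype hPC := by
      rw [← hcQ]
      exact ⟨⟨x', hx'C⟩, hQ (mem_zpowers _), rfl⟩
    exact h4
  set w1 := c * x' * c⁻¹ with hw1
  have hw1B : w1 ∈ B := h.nor c (hCD c hcx) x' hxB'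
  have hw11 : w1 ≠ 1 := by
    intro h'
    apply hx1'
    calc x' = c⁻¹ * w1 * c := by rw [hw1]; group
      _ = 1 := by rw [h']; group
  have hw1x : x ≠ w1 := by
    intro h'
    apply hne
    calc x = c⁻¹ * (c * x) := by group
      _ = c⁻¹ * (x * c) := by rw [hcx]
      _ = c⁻¹ * (w1 * c) := by rw [← h']
      _ = x' := by rw [hw1]; group
  have hw1N : w1 ∈ normalizer (A : Set K) := hPN hcP
  by_cases hw1A : w1 ∈ A
  · exact stepA hl hz hoct hs h hx hxB hx1 hw1A hw1B hw11 hw1x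
  · obtain ⟨a, ha, ha1, hax⟩ : ∃ a ∈ A, w1 * a * w1⁻¹ * a⁻¹ ≠ 1 ∧ w1 * a * w1⁻¹ * a⁻¹ ≠ x := by
      by_contra hcon
      push Not at hcon
      apply hw1A
      apply mem_of_comm (x := x) hs hw1N
      intro a ha
      by_cases h1 : w1 * a * w1⁻¹ * a⁻¹ = 1
      · exact Or.inl h1
      · exact Or.inr (hcon a ha h1)
    refine stepA hl hz hoct hs h hx hxB hx1 (w := w1 * a * w1⁻¹ * a⁻¹) ?_ ?_ ha1 (Ne.symm hax)
    · exact A.mul_mem ((mem_normalizer_iff.1 hw1N a).1 ha) (A.inv_mem ha)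
    · have haD : a ∈ D := hCD a (hl.comm ha hx)
      have h1 := h.nor a haD w1⁻¹ (B.inv_mem hw1B)
      have h2 := B.mul_mem hw1B h1
      rwa [show w1 * (a * w1⁻¹ * a⁻¹) = w1 * a * w1⁻¹ * a⁻¹ by group] at h2

theorem stepC [Finite K] (hl : Loc A e pr ind) (hz : e none = 1) (hoct : ∀ O ∈ octads, pr O = 1)
    (hodd : ¬ 2 ∣ (normalizer (A : Set K)).index) (hconj : ∀ t : K, t * t = 1 → ∃ y ∈ A, IsConj t y)
    (hs : Sheet K A S (fun i => e (some (s i)))) {B D : Subgroup K} (h : Sit B D) {x x' : K} (hsq : x * x = 1)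
    (hxB : x ∈ B) (hx1 : x ≠ 1) (hxB' : x' ∈ B) (hxx' : x' * x' = 1) (hx1' : x' ≠ 1) (hc : x * x' = x' * x)
    (hne : x ≠ x') : D = ⊤ := by
  obtain ⟨y, hy, hxy⟩ := hconj x hsq
  obtain ⟨g, hg⟩ := isConj_iff.1 hxy
  have h1 := stepB hl hz hoct hodd hs (h.conj g) (x := y) (x' := g * x' * g⁻¹) hy ⟨x, hxB, hg⟩ (by
    intro h'
    apply hx1
    calc x = g⁻¹ * (g * x * g⁻¹) * g := by group
      _ = 1 := by rw [hg, h']; group) ⟨x', hxB', rfl⟩ (by
    calc g * x' * g⁻¹ * (g * x' * g⁻¹) = g * (x' * x') * g⁻¹ := by group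
      _ = 1 := by rw [hxx']; group) (by
    intro h'
    apply hx1'
    calc x' = g⁻¹ * (g * x' * g⁻¹) * g := by group
      _ = 1 := by rw [h']; group) (by
    rw [← hg]
    calc g * x * g⁻¹ * (g * x' * g⁻¹) = g * (x * x') * g⁻¹ := by group
      _ = g * (x' * x) * g⁻¹ := by rw [hc]
      _ = _ := by group) (by
    rw [← hg]
    intro h'
    exact hne (mul_left_cancel (mul_right_cancel h')))
  rw [eq_top_iff]
  intro z _
  have h2 : g * z * g⁻¹ ∈ D.map (MulAut.conj g).toMonoidHom := by rw [h1]; exact mem_top _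
  obtain ⟨z', hz', hzz⟩ := h2
  have h3 : g * z' * g⁻¹ = g * z * g⁻¹ := hzz
  rw [← mul_left_cancel (mul_right_cancel h3)]
  exact hz'

end

/-- **kind (GAM) for `Fi23`** -/
theorem gam (B D : Subgroup Spor.Fi23) (hB : ∀ b ∈ B, b * b = 1 → b ≠ 1 → ∀ c, c * b = b * c → c ∈ D)
    (hD : ∀ d ∈ D, ∀ n ∈ B, d * n * d⁻¹ ∈ B) (x : Spor.Fi23) (hx : x ∈ B) (hxx : x * x = 1) (hx1 : x ≠ 1)
    (x' : Spor.Fi23) (hx' : x' ∈ B) (hxx' : x' * x' = 1) (hx1' : x' ≠ 1) (hc : x * x' = x' * x) (hne : x ≠ x') :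
    D = ⊤ := by
  obtain ⟨S, hS⟩ := Has.sheet
  have hfin : Finite Spor.Fi23 := by infer_instance
  exact stepC Has.loc BasFi.pre.zero (fun O hO => BasFi.pre.pr_oct hO) Has.odd (fun t ht => Has.exists_conj ht) hS
    ⟨hB, hD⟩ hxx hx hx1 hx' hxx' hx1' hc hne

end Cfsg.Agent.KFacts.FiTTh.Gam
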