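import Cfsg.Agent.KFacts.FiTTh.MvPt

/-!
# Subgroups of `A = 2^11` closed under `N(A) ∩ C(u)`, `1 ≠ u ∈ U` (helper8)

`single` : such a subgroup `U` with at least two involutions contains one of the 23 transpositions `e p`.
-/

set_option autoImplicit false

namespace Cfsg.Agent.KFacts.FiTTh.GamCore

open Cfsg Subgroup
open Cfsg.Agent.SporadicA.GolayBase Cfsg.Agent.SporadicStructure
open Cfsg.Agent.KFacts.FiTTh.Uniq Cfsg.Agent.KFacts.FiTTh.MvPt
open scoped Pointwise

variable {K : Type*} [Group K] {A : Subgroup K} {e : GolayPt → K} {pr : Finset GolayPt → K}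
  {ind : ↥(normalizer (A : Set K)) →* ↥Spor.M23}

/-- the hypotheses -/
structure Hyp (A : Subgroup K) (e : GolayPt → K) (pr : Finset GolayPt → K)
    (ind : ↥(normalizer (A : Set K)) →* ↥Spor.M23) (U : Subgroup K) : Prop where
  loc : Loc A e pr ind
  zero : e none = 1
  oct : ∀ O ∈ octads, pr O = 1
  le : U ≤ A
  inv : ∀ u ∈ U, u ≠ 1 → ∀ n ∈ normalizer (A : Set K), n * u = u * n → ∀ v ∈ U, n * v * n⁻¹ ∈ U

namespace Hyp

variable {U : Subgroup K} (h : Hyp A e pr ind U)

include h

theorem pr_ne_one {T : Finset GolayPt} (hn : none ∉ T) (hc : T.card ≤ 3) (hT : T.Nonempty) : pr T ≠ 1 := by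
  intro h1
  rw [← h.loc.empty] at h1
  have := h.loc.inj T ∅ hn hc (Finset.notMem_empty _) (by rw [Finset.card_empty]; omega) h1
  rw [this] at hT
  exact Finset.not_nonempty_empty hT

/-- moving -/
theorem mv {X T : Finset GolayPt} (hX : pr X ∈ U) (hX1 : pr X ≠ 1) (hT : pr T ∈ U) {m : Equiv.Perm GolayPt}
    (hm : m ∈ M24) (hmn : m none = none) (hmX : ∀ x ∈ X, m x = x) : pr (m • T) ∈ U := by
  obtain ⟨n, hn⟩ := h.loc.surj ⟨m, MTwThree.mem_M23.2 ⟨hm, hmn⟩⟩
  have h1 := h.loc.conj n T
  rw [hn] at h1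
  have h2 := h.loc.conj n X
  rw [hn] at h2
  have h3 : (m • X : Finset GolayPt) = X := by
    ext x
    rw [Finset.mem_smul_finset]
    constructor
    · rintro ⟨y, hy, rfl⟩
      show m y ∈ X
      rw [hmX y hy]; exact hy
    · intro hx
      exact ⟨x, hx, hmX x hx⟩
  show pr (m • T) ∈ U
  have h4 : (n : K) * pr X = pr X * n := by
    have h5 : (n : K) * pr X * (n : K)⁻¹ = pr X := by
      rw [h2]
      exact congrArg pr h3
    calc (n : K) * pr X = ((n : K) * pr X * (n : K)⁻¹) * n := by group
      _ = _ := by rw [h5]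
  rw [← show (n : K) * pr T * (n : K)⁻¹ = pr (m • T) from h1]
  exact h.inv _ hX hX1 n n.2 h4 _ hT

/-- `m` fixes `none`, `X`, `T \ {t}` and moves `t ∈ T`: a pair -/
theorem pairof {X T : Finset GolayPt} (hX : pr X ∈ U) (hX1 : pr X ≠ 1) (hT : pr T ∈ U) {m : Equiv.Perm GolayPt}
    (hm : m ∈ M24) (hmn : m none = none) (hmX : ∀ x ∈ X, m x = x) {t : GolayPt} (ht : t ∈ T)
    (hmT : ∀ x ∈ T, x ≠ t → m x = x) (hmt : m t ≠ t) : pr {t, m t} ∈ U := by
  classical
  have h1 := h.mv hX hX1 hT hm hmn hmX
  have h2 : symmDiff T (m • T) = {t, m t} := by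
    have hmt' : m t ∉ T := by
      intro h3
      have h4 := hmT _ h3 hmt
      exact hmt (m.injective h4)
    ext x
    rw [Finset.mem_symmDiff, Finset.mem_insert, Finset.mem_singleton, Finset.mem_smul_finset]
    constructor
    · rintro (⟨hx, hx'⟩ | ⟨⟨y, hy, rfl⟩, hx'⟩)
      · left
        by_contra hxt
        exact hx' ⟨x, hx, hmT x hx hxt⟩
      · right
        show m y = m t
        by_cases hyt : y = t
        · rw [hyt]
        · exfalso
          apply hx'
          show m y ∈ T
          rw [hmT y hy hyt]; exact hy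
    · rintro (rfl | rfl)
      · left
        refine ⟨ht, ?_⟩
        rintro ⟨y, hy, hyx⟩
        have hyx' : m y = x := hyx
        by_cases hy' : y = x
        · rw [hy'] at hyx'; exact hmt hyx'
        · rw [hmT y hy hy'] at hyx'
          exact hy' hyx'
      · right
        exact ⟨⟨t, ht, rfl⟩, hmt'⟩
  rw [← h2, h.loc.symm]
  exact U.mul_mem hT h1

/-- the elements `pr {p, r}` for fixed `p` -/
theorem pairs_all {p q r : GolayPt} (hp : p ≠ none) (hq : q ≠ none) (hr : r ≠ none) (hpq : p ≠ q) (hpr : p ≠ r)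
    (hqr : q ≠ r) (h1 : pr {p, q} ∈ U) (h2 : pr {p, r} ∈ U) : ∀ r', r' ≠ none → e p * e r' ∈ U := by
  intro r' hr'
  by_cases hr'p : r' = p
  · rw [hr'p, h.loc.sq _ (by rw [← h.loc.single]; exact h.loc.mem _)]
    exact U.one_mem
  by_cases hr'q : r' = q
  · rw [hr'q, ← h.loc.pair hpq]; exact h1
  obtain ⟨m, hm⟩ := BasCode.exists_map_emb (n := 4) (by norm_num)
    ⟨![none, p, q, r], by
      intro a b hab
      fin_cases a <;> fin_cases b <;>
        simp [hp, hq, hr, hpq, hpr, hqr, Ne.symm hp, Ne.symm hq, Ne.symm hr, Ne.symm hpq, Ne.symm hpr,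
          Ne.symm hqr] at hab ⊢⟩
    ⟨![none, p, q, r'], by
      intro a b hab
      fin_cases a <;> fin_cases b <;>
        simp [hp, hq, hr', hpq, Ne.symm hp, Ne.symm hq, Ne.symm hr', Ne.symm hpq, hr'p, hr'q, Ne.symm hr'p,
          Ne.symm hr'q] at hab ⊢⟩
  have m0 : (m : Equiv.Perm GolayPt) none = none := hm 0
  have m1 : (m : Equiv.Perm GolayPt) p = p := hm 1
  have m2 : (m : Equiv.Perm GolayPt) q = q := hm 2
  have m3 : (m : Equiv.Perm GolayPt) r = r' := hm 3
  have h3 := h.mv h1 (h.pr_ne_one (by simp [Ne.symm hp, Ne.symm hq]) (Finset.card_le_two.trans (by norm_num))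
    ⟨p, by simp⟩) h2 m.2 m0 (by
      intro x hx
      rw [Finset.mem_insert, Finset.mem_singleton] at hx
      rcases hx with rfl | rfl
      · exact m1
      · exact m2)
  rw [Loc.smul_pair, m1, m3, h.loc.pair (Ne.symm hr'p)] at h3
  exact h3

/-- two pairs with a common point -/
theorem of_overlap {p q r : GolayPt} (hp : p ≠ none) (hq : q ≠ none) (hr : r ≠ none) (hpq : p ≠ q) (hpr : p ≠ r)
    (hqr : q ≠ r) (h1 : pr {p, q} ∈ U) (h2 : pr {p, r} ∈ U) : ∃ p, p ≠ none ∧ e p ∈ U := by
  classical
  have hall := h.pairs_all hp hq hr hpq hpr hqr h1 h2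
  have hmem : ∀ x, e x ∈ A := fun x => by rw [← h.loc.single]; exact h.loc.mem _
  have key : ∀ T : Finset GolayPt, none ∉ T → pr T * e p ^ T.card ∈ U := by
    intro T
    induction T using Finset.induction_on with
    | empty =>
      intro _
      rw [h.loc.empty, Finset.card_empty, pow_zero, mul_one]
      exact U.one_mem
    | insert x T hx ih =>
      intro hn
      rw [Finset.mem_insert] at hn
      push Not at hn
      have h3 := hall x (Ne.symm hn.1)
      have h4 := ih hn.2
      rw [h.loc.insert_eq hx, Finset.card_insert_of_notMem hx, pow_succ]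
      have h5 : e x * pr T * (e p ^ T.card * e p) = (e p * e x) * (pr T * e p ^ T.card) := by
        have hpT : e p ^ T.card ∈ A := A.pow_mem (hmem p) _
        calc e x * pr T * (e p ^ T.card * e p) = (e x * (pr T * e p ^ T.card)) * e p := by group
          _ = e p * (e x * (pr T * e p ^ T.card)) :=
            h.loc.comm (A.mul_mem (hmem x) (A.mul_mem (h.loc.mem T) hpT)) (hmem p)
          _ = _ := by group
      rw [h5]
      exact U.mul_mem h3 h4
  obtain ⟨S, hS, hS5⟩ := Finset.exists_subset_card_eq (s := (Finset.univ : Finset GolayPt).erase none) (n := 4) (by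
    rw [Finset.card_erase_of_mem (Finset.mem_univ _), Finset.card_univ, MTwThree.card_pts]; norm_num)
  have hSn : none ∉ S := fun hn => Finset.notMem_erase _ _ (hS hn)
  obtain ⟨O, ⟨hO, hSO⟩, -⟩ := Cfsg.Agent.S0363.result.2 (insert none S) (by
    rw [Finset.card_insert_of_notMem hSn, hS5])
  have hnO : none ∈ O := hSO (Finset.mem_insert_self _ _)
  obtain ⟨x, hx⟩ : ∃ x, x ∈ S := by
    rw [← Finset.Nonempty, ← Finset.card_pos]; omega
  have hxO : x ∈ O := hSO (Finset.mem_insert_of_mem hx)
  have hxn : x ≠ none := fun h' => hSn (h' ▸ hx)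
  set T := (O.erase none).erase x with hT
  have hxO' : x ∈ O.erase none := Finset.mem_erase.2 ⟨hxn, hxO⟩
  have hc : T.card = 6 := by
    rw [hT, Finset.card_erase_of_mem hxO', Finset.card_erase_of_mem hnO, octad_card hO]
  have hnT : none ∉ T := fun h' => Finset.notMem_erase _ _ (Finset.mem_of_mem_erase h')
  have h3 := key T hnT
  have hsq : e p * e p = 1 := h.loc.sq _ (hmem p)
  have h6 : e p ^ 6 = 1 := by
    rw [show (6 : ℕ) = 2 * 3 from rfl, pow_mul, pow_two, hsq, one_pow]
  rw [hc, h6, mul_one] at h3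
  have h7 : pr O = 1 := h.oct O hO
  rw [← Finset.insert_erase hnO, h.loc.insert_eq (Finset.notMem_erase _ _), h.zero, one_mul,
    ← Finset.insert_erase hxO', h.loc.insert_eq (Finset.notMem_erase _ _)] at h7
  refine ⟨x, hxn, ?_⟩
  rw [eq_inv_of_mul_eq_one_left h7]
  exact U.inv_mem h3

omit h in
theorem card_le_five {X Y : Finset GolayPt} (hX : X.card ≤ 2) (hY : Y.card ≤ 2) :
    (insert none (X ∪ Y)).card ≤ 5 := by
  classical
  have h1 := Finset.card_insert_le none (X ∪ Y)
  have h2 := Finset.card_union_le X Y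
  omega

/-- a pair and something else -/
theorem of_pair {X T : Finset GolayPt} (hX2 : X.card = 2) (hnX : none ∉ X) (hX : pr X ∈ U) (hT3 : T.card ≤ 3)
    (hT0 : T.Nonempty) (hnT : none ∉ T) (hT : pr T ∈ U) (hne : T ≠ X) : ∃ p, p ≠ none ∧ e p ∈ U := by
  classical
  have hX1 : pr X ≠ 1 := h.pr_ne_one hnX (by omega) (Finset.card_pos.1 (by omega))
  by_cases hsub : T ⊆ X
  · -- a single point
    have h1 : T.card < 2 := by
      rw [← hX2]
      exact Finset.card_lt_card (Finset.ssubset_iff_subset_ne.2 ⟨hsub, hne⟩)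
    have h2 : T.card = 1 := by
      have := Finset.card_pos.2 hT0
      omega
    obtain ⟨p, rfl⟩ := Finset.card_eq_one.1 h2
    exact ⟨p, fun hp => hnT (by rw [hp]; exact Finset.mem_singleton_self _), by rw [← h.loc.single]; exact hT⟩
  · obtain ⟨t, ht, htX⟩ := Finset.not_subset.1 hsub
    have htn : t ≠ none := fun h' => hnT (h' ▸ ht)
    have hc1 : (T.erase t).card ≤ 2 := by rw [Finset.card_erase_of_mem ht]; omega
    obtain ⟨m, hm, hmF, hmt⟩ := mv_five (F := insert none (X ∪ T.erase t)) (t := t)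
      (card_le_five (by omega) hc1) (by
        rw [Finset.mem_insert, Finset.mem_union]
        push Not
        exact ⟨htn, htX, Finset.notMem_erase _ _⟩)
    have hmn : m none = none := hmF _ (Finset.mem_insert_self _ _)
    have hmX : ∀ x ∈ X, m x = x := fun x hx => hmF x (Finset.mem_insert_of_mem (Finset.mem_union_left _ hx))
    have h1 := h.pairof hX hX1 hT hm hmn hmX ht
      (fun x hx hxt => hmF x (Finset.mem_insert_of_mem (Finset.mem_union_right _ (Finset.mem_erase.2 ⟨hxt, hx⟩)))) hmt
    -- the pair `{t, t'}`, `t ∉ X`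
    set t' := m t with ht'
    have ht'n : t' ≠ none := by
      intro h'
      rw [← hmn] at h'
      exact htn (m.injective h')
    have htt : t ≠ t' := Ne.symm hmt
    have hc2 : ({t'} : Finset GolayPt).card ≤ 2 := by rw [Finset.card_singleton]; norm_num
    obtain ⟨m', hm', hmF', hmt'⟩ := mv_five (F := insert none (X ∪ {t'})) (t := t)
      (card_le_five (by omega) hc2) (by
        rw [Finset.mem_insert, Finset.mem_union, Finset.mem_singleton]
        push Not
        exact ⟨htn, htX, htt⟩)
    have hmn' : m' none = none := hmF' _ (Finset.mem_insert_self _ _)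
    have hmX' : ∀ x ∈ X, m' x = x := fun x hx => hmF' x (Finset.mem_insert_of_mem (Finset.mem_union_left _ hx))
    have hmt'' : m' t' = t' := hmF' t' (by simp)
    have h2 := h.mv hX hX1 h1 hm' hmn' hmX'
    rw [Loc.smul_pair, hmt''] at h2
    refine h.of_overlap (p := t') (q := t) (r := m' t) ht'n htn ?_ (Ne.symm htt) ?_ (Ne.symm hmt') ?_ ?_
    · intro h'
      rw [← hmn'] at h'
      exact htn (m'.injective h')
    · intro h'
      rw [← hmt''] at h'
      exact htt (m'.injective h').symm
    · rw [Finset.pair_comm]; exact h1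
    · rw [Finset.pair_comm]; exact h2

omit h in
theorem bool_aux {W O N : Prop} (h1 : W → O) (h2 : N → O) (h3 : N → ¬ W) :
    (W ∧ ¬ (N ∧ ¬ O ∨ O ∧ ¬ N) ∨ (N ∧ ¬ O ∨ O ∧ ¬ N) ∧ ¬ W) ↔ (O ∧ ¬ (N ∨ W)) := by
  by_cases hW : W <;> by_cases hO : O <;> by_cases hN : N <;> simp_all

set_option maxHeartbeats 1000000 in
theorem of_triple {X T : Finset GolayPt} (hX3 : X.card = 3) (hnX : none ∉ X) (hX : pr X ∈ U) (hT3 : T.card = 3)
    (hnT : none ∉ T) (hT : pr T ∈ U) (hne : T ≠ X) : ∃ p, p ≠ none ∧ e p ∈ U := by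
  classical
  have hX1 : pr X ≠ 1 := h.pr_ne_one hnX (by omega) (Finset.card_pos.1 (by omega))
  have hXn : (insert none X : Finset GolayPt).card = 4 := by
    rw [Finset.card_insert_of_notMem hnX]; omega
  -- the end of the argument: a pair
  have fin : ∀ m ∈ M24, m none = none → (∀ x ∈ X, m x = x) → ∀ t ∈ T, (∀ x ∈ T, x ≠ t → m x = x) → m t ≠ t →
      ∃ p, p ≠ none ∧ e p ∈ U := by
    intro m hm hmn hmX t ht hmT hmt
    have htn : t ≠ none := fun h' => hnT (h' ▸ ht)
    have h1 := h.pairof hX hX1 hT hm hmn hmX ht hmT hmt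
    have hc : ({t, m t} : Finset GolayPt).card = 2 := Finset.card_pair (Ne.symm hmt)
    refine h.of_pair hc ?_ h1 (T := X) (by omega) (Finset.card_pos.1 (by omega)) hnX hX ?_
    · rw [Finset.mem_insert, Finset.mem_singleton]
      rintro (h' | h')
      · exact htn h'.symm
      · rw [← hmn] at h'
        exact htn (m.injective h').symm
    · intro h'
      rw [← h'] at hc
      omega
  have hd : (T \ X).card + (T ∩ X).card = 3 := by
    rw [← hT3]; exact Finset.card_sdiff_add_card_inter T X
  have hd0 : (T \ X).Nonempty := by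
    rw [Finset.sdiff_nonempty]
    intro hsub
    exact hne (Finset.eq_of_subset_of_card_le hsub (by omega))
  have hd1 := Finset.card_pos.2 hd0
  by_cases h2 : (T \ X).card ≤ 2
  · obtain ⟨t, ht⟩ := hd0
    rw [Finset.mem_sdiff] at ht
    have htn : t ≠ none := fun h' => hnT (h' ▸ ht.1)
    obtain ⟨m, hm, hmF, hmt⟩ := mv_five (F := insert none X ∪ (T \ X).erase t) (t := t) (by
        have h3 := Finset.card_union_le (insert none X) ((T \ X).erase t)
        rw [Finset.card_erase_of_mem (Finset.mem_sdiff.2 ht)] at h3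
        omega) (by
        rw [Finset.mem_union, Finset.mem_insert]
        push Not
        exact ⟨⟨htn, ht.2⟩, Finset.notMem_erase _ _⟩)
    refine fin m hm (hmF _ (by simp)) (fun x hx => hmF x (by simp [hx])) t ht.1 ?_ hmt
    intro x hx hxt
    apply hmF
    rw [Finset.mem_union, Finset.mem_insert, Finset.mem_erase, Finset.mem_sdiff]
    by_cases hxX : x ∈ X
    · exact Or.inl (Or.inr hxX)
    · exact Or.inr ⟨hxt, hx, hxX⟩
  · -- disjoint
    have h3 : (T \ X).card = 3 := by omega
    have hTX : T \ X = T := Finset.eq_of_subset_of_card_le Finset.sdiff_subset (by omega)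
    have hdis : ∀ x ∈ T, x ∉ X := fun x hx => by
      rw [← hTX] at hx
      exact (Finset.mem_sdiff.1 hx).2
    obtain ⟨d, f, g, hdf, hdg, hfg, rfl⟩ := Finset.card_eq_three.1 hT3
    have hdT : d ∈ ({d, f, g} : Finset GolayPt) := by simp
    have hfT : f ∈ ({d, f, g} : Finset GolayPt) := by simp
    have hgT : g ∈ ({d, f, g} : Finset GolayPt) := by simp
    have hdn : d ≠ none := fun h' => hnT (h' ▸ hdT)
    have hfn : f ≠ none := fun h' => hnT (h' ▸ hfT)
    have hgn : g ≠ none := fun h' => hnT (h' ▸ hgT)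
    have hdX := hdis d hdT
    have hfX := hdis f hfT
    have hgX := hdis g hgT
    set S : Finset GolayPt := insert d (insert none X) with hS
    have hS5 : S.card = 5 := by
      rw [hS, Finset.card_insert_of_notMem, hXn]
      rw [Finset.mem_insert]
      push Not
      exact ⟨hdn, hdX⟩
    obtain ⟨o, ⟨ho, hSo⟩, -⟩ := Cfsg.Agent.S0363.result.2 S hS5
    have hfS : f ∉ S := by
      rw [hS, Finset.mem_insert, Finset.mem_insert]
      push Not
      exact ⟨Ne.symm hdf, hfn, hfX⟩
    have hgS : g ∉ S := by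
      rw [hS, Finset.mem_insert, Finset.mem_insert]
      push Not
      exact ⟨Ne.symm hdg, hgn, hgX⟩
    by_cases hboth : f ∈ o ∧ g ∈ o
    · -- the octad is `none, X, d, f, g, y`
      obtain ⟨hfo, hgo⟩ := hboth
      have hsub : insert none (X ∪ {d, f, g}) ⊆ o := by
        intro x hx
        rw [Finset.mem_insert, Finset.mem_union] at hx
        rcases hx with rfl | hx | hx
        · exact hSo (by rw [hS]; simp)
        · exact hSo (by rw [hS]; simp [hx])
        · simp only [Finset.mem_insert, Finset.mem_singleton] at hx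
          rcases hx with rfl | rfl | rfl
          · exact hSo (by rw [hS]; simp)
          · exact hfo
          · exact hgo
      have hdis' : Disjoint X ({d, f, g} : Finset GolayPt) := by
        rw [Finset.disjoint_left]
        intro x hx hx'
        exact hdis x hx' hx
      have hc7 : (insert none (X ∪ {d, f, g})).card = 7 := by
        rw [Finset.card_insert_of_notMem, Finset.card_union_of_disjoint hdis']
        · omega
        · rw [Finset.mem_union]
          push Not
          exact ⟨hnX, hnT⟩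
      have hc1 : (o \ insert none (X ∪ {d, f, g})).card = 1 := by
        rw [Finset.card_sdiff_of_subset hsub, octad_card ho, hc7]
      obtain ⟨y, hy⟩ := Finset.card_eq_one.1 hc1
      have hyn : y ≠ none := by
        rintro rfl
        have : none ∈ o \ insert none (X ∪ {d, f, g}) := by rw [hy]; simp
        rw [Finset.mem_sdiff] at this
        exact this.2 (Finset.mem_insert_self _ _)
      refine ⟨y, hyn, ?_⟩
      have h4 : symmDiff (symmDiff X {d, f, g}) (symmDiff {none} o) = {y} := by
        have hXT : symmDiff X {d, f, g} = X ∪ {d, f, g} := by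
          rw [hdis'.symmDiff_eq_sup]; rfl
        rw [hXT]
        ext x
        have hxy : x = y ↔ x ∈ o ∧ ¬ (x = none ∨ x ∈ X ∪ {d, f, g}) := by
          rw [← Finset.mem_singleton, ← hy, Finset.mem_sdiff, Finset.mem_insert]
        rw [Finset.mem_singleton, hxy, Finset.mem_symmDiff, Finset.mem_symmDiff, Finset.mem_singleton]
        have hno : (none : GolayPt) ∈ o := hsub (Finset.mem_insert_self _ _)
        have hnn : (none : GolayPt) ∉ X ∪ {d, f, g} := by
          rw [Finset.mem_union]
          push Not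
          exact ⟨hnX, hnT⟩
        have hx1 : x ∈ X ∪ {d, f, g} → x ∈ o := fun h' => hsub (Finset.mem_insert_of_mem h')
        have hx2 : x = none → x ∈ o := fun h' => h' ▸ hno
        have hx3 : x = none → x ∉ X ∪ {d, f, g} := fun h' => h' ▸ hnn
        exact bool_aux hx1 hx2 hx3
      rw [← h.loc.single, ← h4, h.loc.symm, h.loc.symm, h.loc.symm, h.loc.single, h.zero, h.oct o ho, mul_one, mul_one]
      exact U.mul_mem hX hT
    · obtain ⟨m, hm, hmS, hmf, hmg⟩ := mv_six ho hSo hS5 hfS hgS hfg hboth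
      refine fin m hm (hmS _ (by rw [hS]; simp)) (fun x hx => hmS x (by rw [hS]; simp [hx])) g hgT ?_ hmg
      intro x hx hxg
      simp only [Finset.mem_insert, Finset.mem_singleton] at hx
      rcases hx with rfl | rfl | rfl
      · exact hmS _ (by rw [hS]; simp)
      · exact hmf
      · exact absurd rfl hxg

/-- **main** -/
theorem single {x w : K} (hx : x ∈ U) (hx1 : x ≠ 1) (hw : w ∈ U) (hw1 : w ≠ 1) (hxw : x ≠ w) :
    ∃ p, p ≠ none ∧ e p ∈ U := by
  classical
  obtain ⟨X, hnX, hX3, rfl⟩ := h.loc.repr x (h.le hx)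
  obtain ⟨T, hnT, hT3, rfl⟩ := h.loc.repr w (h.le hw)
  have hX0 : X.Nonempty := by
    rw [Finset.nonempty_iff_ne_empty]
    rintro rfl
    exact hx1 h.loc.empty
  have hT0 : T.Nonempty := by
    rw [Finset.nonempty_iff_ne_empty]
    rintro rfl
    exact hw1 h.loc.empty
  have hne : X ≠ T := fun h' => hxw (by rw [h'])
  have hXp := Finset.card_pos.2 hX0
  have hTp := Finset.card_pos.2 hT0
  have one : ∀ Y : Finset GolayPt, Y.card = 1 → none ∉ Y → pr Y ∈ U → ∃ p, p ≠ none ∧ e p ∈ U := by
    intro Y hY hn hYU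
    obtain ⟨p, rfl⟩ := Finset.card_eq_one.1 hY
    exact ⟨p, fun hp => hn (by rw [hp]; exact Finset.mem_singleton_self _), by rw [← h.loc.single]; exact hYU⟩
  by_cases hc1 : X.card = 1
  · exact one X hc1 hnX hx
  by_cases hc1' : T.card = 1
  · exact one T hc1' hnT hw
  by_cases hc2 : X.card = 2
  · exact h.of_pair hc2 hnX hx hT3 hT0 hnT hw (Ne.symm hne)
  by_cases hc2' : T.card = 2
  · exact h.of_pair hc2' hnT hw hX3 hX0 hnX hx hne
  · exact h.of_triple (by omega) hnX hx (by omega) hnT hw (Ne.symm hne)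

end Hyp

end Cfsg.Agent.KFacts.FiTTh.GamCore
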