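import Cfsg.Agent.J4Type.DuadM24
import Cfsg.Agent.J4Type.OctadFixTrans
import Cfsg.Prelude.Def_Spor_Mathieu

/-!
# Fi23, facts on `K` (helper840): involutions of `M23`

* `exists_octad` : an involution of `M23` fixes exactly the points of an octad through `none`;
* `conj_of` : `M23` has one class of involutions;
* `card_le_sixteen` : an elementary abelian 2-subgroup of `M23` has order at most `16`;
* `exists_moved` : two different commuting involutions `v`, `w` of `M23` do not preserve the same pairs `{p, v p}`.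
-/

set_option autoImplicit false

namespace Cfsg.Agent.KFacts.FiTTh.MTwThree

open Cfsg Cfsg.Agent.SporadicA.GolayBase Cfsg.Agent.SporadicA.OctadFix
open Cfsg.Agent.GolayOrbit.Flags Cfsg.Agent.J4Type.OctadFixTrans
open Cfsg.Agent.GolayOrbit.Basic (ofMask)
open scoped Pointwise

theorem mem_M23 {g : Equiv.Perm GolayPt} : g ∈ Spor.M23 ↔ g ∈ M24 ∧ g none = none := Iff.rfl

/-- an involution of `M23` fixes exactly the points of an octad through `none` -/
theorem exists_octad {g : Equiv.Perm GolayPt} (hg : g ∈ Spor.M23) (h2 : g * g = 1) (h1 : g ≠ 1) :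
    ∃ O ∈ octads, none ∈ O ∧ ∀ p, g p = p ↔ p ∈ O := by
  obtain ⟨O, hO, h⟩ := Cfsg.Agent.J4Type.DuadM24.fix_octad hg.1 h2 h1 (mem_M23.1 hg).2
  exact ⟨O, hO, (h none).1 (mem_M23.1 hg).2, h⟩

theorem exists_ne {O : Finset GolayPt} (hO : O ∈ octads) : ∃ y ∈ O, none ≠ y := by
  by_contra h
  push Not at h
  have h1 : O ⊆ {none} := fun y hy => Finset.mem_singleton.2 (h y hy).symm
  have h2 := Finset.card_le_card h1
  rw [octad_card hO, Finset.card_singleton] at h2
  omega

/-- `M23` is transitive on the octads through `none` -/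
theorem octad_trans {O O' : Finset GolayPt} (hO : O ∈ octads) (hO' : O' ∈ octads) (h : none ∈ O)
    (h' : none ∈ O') : ∃ k ∈ Spor.M23, k • O = O' := by
  obtain ⟨y, hy, hny⟩ := exists_ne hO
  obtain ⟨y', hy', hny'⟩ := exists_ne hO'
  obtain ⟨k, hk, k1, k2, -⟩ := flagIn hO h hy hny
  obtain ⟨l, hl, l1, l2, -⟩ := flagIn hO' h' hy' hny'
  refine ⟨l * k⁻¹, mem_M23.2 ⟨M24.mul_mem hl (M24.inv_mem hk), ?_⟩, ?_⟩
  · rw [Equiv.Perm.mul_apply, show k⁻¹ none = p₀ by rw [Equiv.Perm.inv_eq_iff_eq, k2], l2]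
  · rw [mul_smul, show k⁻¹ • O = ofMask O₀ by rw [inv_smul_eq_iff, k1], l1]

/-- `M23` has one class of involutions -/
theorem conj_of {g g' : Equiv.Perm GolayPt} (hg : g ∈ Spor.M23) (hg' : g' ∈ Spor.M23) (h2 : g * g = 1)
    (h2' : g' * g' = 1) (h1 : g ≠ 1) (h1' : g' ≠ 1) : ∃ k ∈ Spor.M23, k * g * k⁻¹ = g' := by
  obtain ⟨O, hO, hn, h⟩ := exists_octad hg h2 h1
  obtain ⟨O', hO', hn', h'⟩ := exists_octad hg' h2' h1'
  obtain ⟨y', hy', hny'⟩ := exists_ne hO'
  obtain ⟨m, hm, hmO⟩ := octad_trans hO hO' hn hn'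
  have hf : g ∈ fixOct O := mem_fixOct.2 ⟨(mem_M23.1 hg).1, fun p hp => (h p).2 hp⟩
  have hf' : g' ∈ fixOct O' := mem_fixOct.2 ⟨(mem_M23.1 hg').1, fun p hp => (h' p).2 hp⟩
  have hfm : m * g * m⁻¹ ∈ fixOct O' := by
    rw [← hmO]
    exact (conj_mem_fixOct (o := O) (mem_M23.1 hm).1).2 hf
  have hne : m * g * m⁻¹ ≠ 1 := by
    intro he
    apply h1
    rw [mul_inv_eq_one] at he
    exact mul_left_cancel (he.trans (mul_one m).symm)
  obtain ⟨k, hk, k1, -, -, k4⟩ := fix_conj hO' hn' hy' hny' hfm hf' hne h1'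
  refine ⟨k * m, mem_M23.2 ⟨M24.mul_mem hk (mem_M23.1 hm).1, ?_⟩, ?_⟩
  · rw [Equiv.Perm.mul_apply, (mem_M23.1 hm).2, k1]
  · rw [← k4]
    group

theorem card_pts : Fintype.card GolayPt = 24 := by decide +kernel

theorem card_fix {g : Equiv.Perm GolayPt} (hg : g ∈ Spor.M23) (h2 : g * g = 1) (h1 : g ≠ 1) :
    (Finset.univ.filter fun p : GolayPt => g p = p).card = 8 := by
  obtain ⟨O, hO, -, h⟩ := exists_octad hg h2 h1
  rw [← octad_card hO]
  congr 1
  ext p
  rw [Finset.mem_filter, h p]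
  simp

/-- an elementary abelian 2-subgroup of `M23` has order at most `16` -/
theorem card_le_sixteen {V : Subgroup (Equiv.Perm GolayPt)} (hV : V ≤ Spor.M23) (h2 : ∀ v ∈ V, v * v = 1) :
    Nat.card V ≤ 16 := by
  classical
  haveI : Fintype V := Fintype.ofFinite V
  haveI : Fintype (Quotient (MulAction.orbitRel V GolayPt)) := Fintype.ofFinite _
  have hB := MulAction.sum_card_fixedBy_eq_card_orbits_mul_card_group V GolayPt
  have h1 : ∀ v : V, Fintype.card (MulAction.fixedBy GolayPt v) = if v = 1 then 24 else 8 := by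
    intro v
    have e1 : Fintype.card (MulAction.fixedBy GolayPt v)
        = (Finset.univ.filter fun p : GolayPt => (v : Equiv.Perm GolayPt) p = p).card := by
      rw [Fintype.card_subtype]
      congr 1
    rw [e1]
    split_ifs with hv
    · subst hv
      rw [Finset.filter_true_of_mem (fun p _ => by rw [Subgroup.coe_one, Equiv.Perm.one_apply]),
        Finset.card_univ, card_pts]
    · exact card_fix (hV v.2) (h2 _ v.2) (fun he => hv (Subtype.ext he))
  rw [Finset.sum_congr rfl (fun v _ => h1 v), Finset.sum_ite, Finset.sum_const, Finset.sum_const] at hB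
  have h3 : (Finset.univ.filter fun v : V => v = 1).card = 1 := by
    rw [Finset.filter_eq' Finset.univ (1 : V), if_pos (Finset.mem_univ _), Finset.card_singleton]
  have h4 : (Finset.univ.filter fun v : V => v = 1).card + (Finset.univ.filter fun v : V => ¬ v = 1).card
      = Fintype.card V := by
    rw [Finset.card_filter_add_card_filter_not, Finset.card_univ]
  rw [h3] at h4 hB
  have h5 : Fintype.card V ∣ 16 := by
    have h6 : 16 + 8 * Fintype.card V = Fintype.card (Quotient (MulAction.orbitRel V GolayPt)) * Fintype.card V := by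
      rw [← hB, ← h4]
      simp only [smul_eq_mul]
      ring
    have h7 : Fintype.card V ∣ 16 + 8 * Fintype.card V := ⟨_, h6.trans (mul_comm _ _)⟩
    exact (Nat.dvd_add_left (Dvd.intro_left 8 rfl)).1 h7
  rw [Nat.card_eq_fintype_card]
  exact Nat.le_of_dvd (by norm_num) h5

/-- two different commuting involutions of `M23` do not preserve the same pairs -/
theorem exists_moved {v w : Equiv.Perm GolayPt} (hv : v ∈ Spor.M23) (hw : w ∈ Spor.M23) (hv2 : v * v = 1)
    (hw2 : w * w = 1) (hc : v * w = w * v) (hv1 : v ≠ 1) (hw1 : w ≠ 1) (hvw : v ≠ w) :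
    ∃ p, v p ≠ p ∧ w p ≠ p ∧ w p ≠ v p := by
  classical
  have hx : v * w ∈ Spor.M23 := Subgroup.mul_mem _ hv hw
  have hx2 : v * w * (v * w) = 1 := by
    calc v * w * (v * w) = v * (w * v) * w := by group
      _ = v * (v * w) * w := by rw [hc]
      _ = (v * v) * (w * w) := by group
      _ = 1 := by rw [hv2, hw2, one_mul]
  have hx1 : v * w ≠ 1 := by
    intro he
    apply hvw
    have : v * w = v * v := by rw [he, hv2]
    exact (mul_left_cancel this).symm
  let F : Equiv.Perm GolayPt → Finset GolayPt := fun g => Finset.univ.filter fun p : GolayPt => g p = p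
  have hF : ∀ g p, p ∈ F g ↔ g p = p := fun g p => by
    simp only [F, Finset.mem_filter, Finset.mem_univ, true_and]
  have hcv : (F v).card = 8 := card_fix hv hv2 hv1
  have hcw : (F w).card = 8 := card_fix hw hw2 hw1
  have hcx : (F (v * w)).card = 8 := card_fix hx hx2 hx1
  have hlt : (F v ∪ F w ∪ F (v * w)).card < (Finset.univ : Finset GolayPt).card := by
    rw [Finset.card_univ, card_pts]
    have h1 := Finset.card_union_add_card_inter (F v) (F w)
    have h2 : 0 < (F v ∩ F w).card := Finset.card_pos.2 ⟨none, Finset.mem_inter.2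
      ⟨(hF _ _).2 (mem_M23.1 hv).2, (hF _ _).2 (mem_M23.1 hw).2⟩⟩
    have h3 := Finset.card_union_le (F v ∪ F w) (F (v * w))
    omega
  obtain ⟨p, -, hp⟩ := Finset.exists_mem_notMem_of_card_lt_card hlt
  rw [Finset.mem_union, Finset.mem_union, hF, hF, hF] at hp
  push Not at hp
  refine ⟨p, hp.1.1, hp.1.2, ?_⟩
  intro he
  apply hp.2
  rw [Equiv.Perm.mul_apply, he, ← Equiv.Perm.mul_apply, hv2, Equiv.Perm.one_apply]

end Cfsg.Agent.KFacts.FiTTh.MTwThree
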