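import Cfsg.Agent.Lib.PermNetFix
import Cfsg.Agent.Fischer.Fi23Z
import Cfsg.Agent.Fischer.Fi23OrbData

/-!
# K-facts for `Fi₂₃`: kernel checks on the fixed points of `z0 a` and `z0 a c` in the degree 31671 action
-/

set_option autoImplicit false
set_option maxRecDepth 100000
set_option Elab.async false

namespace Cfsg.Agent.KFacts.FiTTh.Masks

open Cfsg.Agent.Lib.PermNet Cfsg.Agent.Lib.PermNetFix Cfsg.Agent.Fischer.Fi23Nets
open Cfsg.Agent.Fischer.Fi23Z Cfsg.Agent.Fischer.Fi23Hom Cfsg.Agent.Fischer.Fi23Rel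
open Cfsg.Agent.Fischer.Fi23OrbData
open Cfsg.Spor Cfsg.Spor.Fi23

theorem sub_z2 : subB 15 [nz] [nz, na] = true := by decide +kernel
theorem sub_a2 : subB 15 [na] [nz, na] = true := by decide +kernel
theorem sub_z3 : subB 15 [nz] [nz, na, nc] = true := by decide +kernel
theorem sub_a3 : subB 15 [na] [nz, na, nc] = true := by decide +kernel
theorem sub_c3 : subB 15 [nc] [nz, na, nc] = true := by decide +kernel

theorem only2 : Nat.beq (movedL 15 [[nz, na], [nc], [nd], [ne], [nf], [ng], [nh], [ni]])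
    (Nat.xor (Nat.sub (Nat.pow 2 (31671 : ℕ)) 1) (Nat.lor 1 (Nat.pow 2 (11589 : ℕ)))) = true := by
  decide +kernel

theorem only3 : Nat.beq (movedL 15 [[nz, na, nc], [ne], [nf], [ng], [nh], [ni]])
    (Nat.xor (Nat.sub (Nat.pow 2 (31671 : ℕ)) 1)
      (Nat.lor 1 (Nat.lor (Nat.pow 2 (8003 : ℕ)) (Nat.pow 2 (11589 : ℕ))))) = true := by
  decide +kernel

theorem tb_a : tb Cfsg.Agent.Fischer.Fi23OrbData.U2 11589 = true := by decide +kernel

/-- a transposition `t1` with `z0 a c e g = t1 t2` -/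
def U1 : List Gen := [.d, .h, .i, .e, .d, .h, .b, .c, .d, .e, .a, .b, .c, .d, .h, .i, .d, .e, .f, .c, .d, .e,
  .b, .c, .d, .h, .g, .f, .e, .d, .c, .b]

def T1 : List Gen := U1 ++ .a :: U1.reverse

noncomputable def T1n : List Net := T1.map net

noncomputable def T2n : List Net := T1n ++ [nz, na, nc, ne, ng]

theorem t1_w3 : checkEq 15 (T1n ++ [nz, na, nc]) ([nz, na, nc] ++ T1n) = true := by decide +kernel
theorem t1_w5 : checkEq 15 (T1n ++ [nz, na, nc, ne, ng]) ([nz, na, nc, ne, ng] ++ T1n) = true := by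
  decide +kernel
theorem braid1 : checkEq 15 (nf :: (T1n ++ [nf])) (T1n ++ nf :: T1n) = true := by decide +kernel
theorem braid2 : checkEq 15 (nf :: (T2n ++ [nf])) (T2n ++ nf :: T2n) = true := by decide +kernel

end Cfsg.Agent.KFacts.FiTTh.Masks
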