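import Cfsg.Agent.KFacts.FiTTh.BasSheet

/-!
# Moving points with M24 (helper8)

* `mv_five` : for `|F| ≤ 5`, `t ∉ F` some element of `M24` fixes `F` pointwise and moves `t`;
* `mv_six` : the same for `F = S ∪ {f}`, `|S| = 5`, unless `f`, `t` are both in the octad of `S`.
-/

set_option autoImplicit false

namespace Cfsg.Agent.KFacts.FiTTh.MvPt

open Cfsg Subgroup
open Cfsg.Agent.SporadicA.GolayBase Cfsg.Agent.SporadicStructure
open Cfsg.Agent.KFacts.FiTTh.BasSheet
open scoped Pointwise

/-- frame maps: `S` five points of the octad `o`, `v, v' ∈ o \ S`, `q, q' ∉ o` -/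
theorem frame {o S : Finset GolayPt} (ho : o ∈ octads) (hS : S ⊆ o) (h5 : S.card = 5) {v v' : GolayPt}
    (hv : v ∈ o) (hvS : v ∉ S) (hv' : v' ∈ o) (hvS' : v' ∉ S) {q q' : GolayPt} (hq : q ∉ o) (hq' : q' ∉ o) :
    ∃ g ∈ M24, (∀ x ∈ S, g x = x) ∧ g v = v' ∧ g q = q' := by
  classical
  let f : Fin 5 ≃ S := (Finset.equivFinOfCardEq h5).symm
  let a : GolayPt → Fin 6 → GolayPt := fun w => Fin.cons w (fun i => (f i : GolayPt))
  have ha : ∀ {w : GolayPt}, w ∉ S → Function.Injective (a w) := by
    intro w hw
    rw [Fin.cons_injective_iff]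
    refine ⟨?_, fun i j h => f.injective (Subtype.ext h)⟩
    rintro ⟨i, hi⟩
    apply hw
    rw [← hi]
    exact (f i).2
  have hao : ∀ {w : GolayPt}, w ∈ o → ∀ i, a w i ∈ o := by
    intro w hw i
    refine Fin.cases ?_ ?_ i
    · exact hw
    · intro j
      exact hS (f j).2
  obtain ⟨g, ⟨hg, hga, hgq⟩, -⟩ := M24Frame.exists_unique_frame_map ho ho (ha hvS) (ha hvS') (hao hv) (hao hv') hq hq'
  refine ⟨g, hg, ?_, hga 0, hgq⟩
  intro x hx
  have h1 := hga (Fin.succ (f.symm ⟨x, hx⟩))
  have h2 : ∀ w, a w (Fin.succ (f.symm ⟨x, hx⟩)) = x := by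
    intro w
    show ((f (f.symm ⟨x, hx⟩) : S) : GolayPt) = x
    rw [Equiv.apply_symm_apply]
  rwa [h2, h2] at h1

theorem exists_out {o : Finset GolayPt} (ho : o ∈ octads) (q : GolayPt) : ∃ q' : GolayPt, q' ∉ o ∧ q' ≠ q := by
  classical
  by_contra hcon
  push Not at hcon
  have h1 : (Finset.univ : Finset GolayPt) ⊆ insert q o := by
    intro x _
    by_cases hx : x ∈ o
    · exact Finset.mem_insert_of_mem hx
    · rw [hcon x hx]; exact Finset.mem_insert_self _ _
  have h2 := Finset.card_le_card h1
  have h3 := Finset.card_insert_le q o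
  rw [Finset.card_univ, octad_card ho] at *
  have h4 : Fintype.card GolayPt = 24 := MTwThree.card_pts
  omega

theorem exists_in {o S : Finset GolayPt} (ho : o ∈ octads) (hS : S ⊆ o) (h5 : S.card = 5) (q : GolayPt) :
    ∃ v ∈ o, v ∉ S ∧ v ≠ q := by
  classical
  by_contra hcon
  push Not at hcon
  have h1 : o ⊆ insert q S := by
    intro x hx
    by_cases hxS : x ∈ S
    · exact Finset.mem_insert_of_mem hxS
    · rw [hcon x hx hxS]; exact Finset.mem_insert_self _ _
  have h2 := Finset.card_le_card h1
  have h3 := Finset.card_insert_le q S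
  rw [octad_card ho] at h2
  omega

theorem mv_five {F : Finset GolayPt} (hF : F.card ≤ 5) {t : GolayPt} (ht : t ∉ F) :
    ∃ g ∈ M24, (∀ x ∈ F, g x = x) ∧ g t ≠ t := by
  classical
  obtain ⟨S, hFS, hSt, hS5⟩ : ∃ S : Finset GolayPt, F ⊆ S ∧ t ∉ S ∧ S.card = 5 := by
    have h1 : F ⊆ Finset.univ.erase t := fun x hx => Finset.mem_erase.2 ⟨fun h => ht (h ▸ hx), Finset.mem_univ _⟩
    have h2 : (Finset.univ.erase t : Finset GolayPt).card = 23 := by
      rw [Finset.card_erase_of_mem (Finset.mem_univ _), Finset.card_univ, MTwThree.card_pts]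
    obtain ⟨S, h3, h4, h5⟩ := Finset.exists_subsuperset_card_eq h1 hF (by omega : 5 ≤ (Finset.univ.erase t : Finset GolayPt).card)
    exact ⟨S, h3, fun h => Finset.notMem_erase _ _ (h4 h), h5⟩
  obtain ⟨o, ⟨ho, hSo⟩, -⟩ := Cfsg.Agent.S0363.result.2 S hS5
  by_cases hto : t ∈ o
  · obtain ⟨v, hv, hvS, hvt⟩ := exists_in ho hSo hS5 t
    obtain ⟨q, hq, -⟩ := exists_out ho t
    obtain ⟨g, hg, h1, h2, -⟩ := frame ho hSo hS5 hto hSt hv hvS hq hq
    exact ⟨g, hg, fun x hx => h1 x (hFS hx), by rw [h2]; exact hvt⟩
  · obtain ⟨v, hv, hvS, -⟩ := exists_in ho hSo hS5 t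
    obtain ⟨q, hq, hqt⟩ := exists_out ho t
    obtain ⟨g, hg, h1, -, h2⟩ := frame ho hSo hS5 hv hvS hv hvS hto hq
    exact ⟨g, hg, fun x hx => h1 x (hFS hx), by rw [h2]; exact hqt⟩

theorem mv_six {o S : Finset GolayPt} (ho : o ∈ octads) (hS : S ⊆ o) (h5 : S.card = 5) {f t : GolayPt}
    (hf : f ∉ S) (ht : t ∉ S) (hft : f ≠ t) (hn : ¬ (f ∈ o ∧ t ∈ o)) :
    ∃ g ∈ M24, (∀ x ∈ S, g x = x) ∧ g f = f ∧ g t ≠ t := by
  classical
  by_cases hfo : f ∈ o
  · have hto : t ∉ o := fun h => hn ⟨hfo, h⟩
    obtain ⟨q, hq, hqt⟩ := exists_out ho t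
    obtain ⟨g, hg, h1, h2, h3⟩ := frame ho hS h5 hfo hf hfo hf hto hq
    exact ⟨g, hg, h1, h2, by rw [h3]; exact hqt⟩
  · by_cases hto : t ∈ o
    · obtain ⟨v, hv, hvS, hvt⟩ := exists_in ho hS h5 t
      obtain ⟨g, hg, h1, h2, h3⟩ := frame ho hS h5 hto ht hv hvS hfo hfo
      exact ⟨g, hg, h1, h3, by rw [h2]; exact hvt⟩
    · -- both outside: an element of order 3
      obtain ⟨v, hv, hvS, -⟩ := exists_in ho hS h5 t
      obtain ⟨v', hv', hvS', hvv⟩ := exists_in ho hS h5 v
      obtain ⟨g, hg, h1, h2, h3⟩ := frame ho hS h5 hv hvS hv' hvS' hfo hfo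
      refine ⟨g, hg, h1, h3, fun hgt => ?_⟩
      have hg1 : g ≠ 1 := by
        intro h
        rw [h] at h2
        exact hvv h2.symm
      have hgo : g • o = o := M24Frame.smul_octad_eq_of_five hg ho ho hS (by omega)
        (fun z hz => by rw [h1 z hz]; exact hS hz)
      have hinv : ∀ x ∈ o, g x ∈ o := by
        intro x hx
        have := Finset.smul_mem_smul_finset (a := g) hx
        rwa [hgo] at this
      have hnofix : ∀ x ∈ o, x ∉ S → g x ≠ x := by
        intro x hx hxS hgx
        apply hg1
        refine M24Frame.eq_one_of_fix_frame hg ho (s := insert x S) (Finset.insert_subset hx hS) ?_ ?_ hfo h3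
        · rw [Finset.card_insert_of_notMem hxS]; omega
        · intro z hz
          rcases Finset.mem_insert.1 hz with rfl | hz
          · exact hgx
          · exact h1 z hz
      have hinv' : ∀ x ∈ o \ S, g x ∈ o \ S := by
        intro x hx
        rw [Finset.mem_sdiff] at hx ⊢
        refine ⟨hinv x hx.1, fun h => ?_⟩
        have h4 := h1 _ h
        rw [g.injective h4] at h
        exact hx.2 h
      have hc : (o \ S).card = 3 := by rw [Finset.card_sdiff_of_subset hS, octad_card ho]; omega
      -- `g ^ 3` fixes `o`
      have h33 : ∀ x ∈ o \ S, g (g (g x)) = x := by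
        intro x hx
        have hx1 := hinv' x hx
        have hx2 := hinv' _ hx1
        have hx3 := hinv' _ hx2
        have n1 : g x ≠ x := hnofix x (Finset.mem_sdiff.1 hx).1 (Finset.mem_sdiff.1 hx).2
        have n2 : g (g x) ≠ g x := hnofix _ (Finset.mem_sdiff.1 hx1).1 (Finset.mem_sdiff.1 hx1).2
        have n3 : g (g (g x)) ≠ g (g x) := hnofix _ (Finset.mem_sdiff.1 hx2).1 (Finset.mem_sdiff.1 hx2).2
        by_cases n4 : g (g x) = x
        · -- then the third point is fixed
          exfalso
          have h4 : ({x, g x} : Finset GolayPt) ⊆ o \ S := by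
            intro y hy
            rw [Finset.mem_insert, Finset.mem_singleton] at hy
            rcases hy with rfl | rfl
            · exact hx
            · exact hx1
          have h6 : ({x, g x} : Finset GolayPt).card = 2 := Finset.card_pair (Ne.symm n1)
          obtain ⟨y, hy, hy'⟩ : ∃ y ∈ o \ S, y ∉ ({x, g x} : Finset GolayPt) := by
            by_contra hcon
            push Not at hcon
            have := Finset.card_le_card (s := o \ S) hcon
            omega
          have hy1 := hinv' y hy
          have h7 : g y ∉ ({x, g x} : Finset GolayPt) := by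
            intro h
            rw [Finset.mem_insert, Finset.mem_singleton] at h hy'
            rcases h with h | h
            · apply hy'
              right
              rw [← n4] at h
              exact g.injective h
            · apply hy'
              left
              exact g.injective h
          have h8 : g y = y := by
            by_contra h9
            have h10 : ({x, g x, y, g y} : Finset GolayPt) ⊆ o \ S := by
              intro z hz
              simp only [Finset.mem_insert, Finset.mem_singleton] at hz
              rcases hz with rfl | rfl | rfl | rfl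
              · exact hx
              · exact hx1
              · exact hy
              · exact hy1
            have h11 : ({x, g x, y, g y} : Finset GolayPt).card = 4 := by
              rw [Finset.mem_insert, Finset.mem_singleton] at h7 hy'
              push Not at h7 hy'
              rw [Finset.card_insert_of_notMem, Finset.card_insert_of_notMem, Finset.card_pair (Ne.symm h9)]
              · simp only [Finset.mem_insert, Finset.mem_singleton]
                push Not
                exact ⟨Ne.symm hy'.2, Ne.symm h7.2⟩
              · simp only [Finset.mem_insert, Finset.mem_singleton]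
                push Not
                exact ⟨Ne.symm n1, Ne.symm hy'.1, Ne.symm h7.1⟩
            have := Finset.card_le_card h10
            omega
          exact hnofix y (Finset.mem_sdiff.1 hy).1 (Finset.mem_sdiff.1 hy).2 h8
        · by_contra n5
          have h10 : ({x, g x, g (g x), g (g (g x))} : Finset GolayPt) ⊆ o \ S := by
            intro z hz
            simp only [Finset.mem_insert, Finset.mem_singleton] at hz
            rcases hz with rfl | rfl | rfl | rfl
            · exact hx
            · exact hx1
            · exact hx2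
            · exact hx3
          have n6 : g (g (g x)) ≠ g x := fun h => n4 (g.injective h)
          have h11 : ({x, g x, g (g x), g (g (g x))} : Finset GolayPt).card = 4 := by
            rw [Finset.card_insert_of_notMem, Finset.card_insert_of_notMem, Finset.card_pair (Ne.symm n3)]
            · simp only [Finset.mem_insert, Finset.mem_singleton]
              push Not
              exact ⟨Ne.symm n2, Ne.symm n6⟩
            · simp only [Finset.mem_insert, Finset.mem_singleton]
              push Not
              exact ⟨Ne.symm n1, Ne.symm n4, Ne.symm n5⟩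
          have := Finset.card_le_card h10
          omega
      have hg3 : g ^ 3 = 1 := by
        have hM : g ^ 3 ∈ M24 := M24.pow_mem hg 3
        have e3 : ∀ x, (g ^ 3) x = g (g (g x)) := by
          intro x
          rw [pow_succ, pow_two]
          rfl
        refine M24Frame.eq_one_of_fix_frame hM ho (s := o) (Finset.Subset.refl _) (by rw [octad_card ho]; omega) ?_
          hfo (by rw [e3, h3, h3, h3])
        intro z hz
        rw [e3]
        by_cases hzS : z ∈ S
        · rw [h1 z hzS, h1 z hzS, h1 z hzS]
        · exact h33 z (Finset.mem_sdiff.2 ⟨hz, hzS⟩)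
      apply hg1
      have hfS : f ∉ S := hf
      refine seven_three hg hg3 (F := insert f (insert t S)) ?_ ?_ ?_
      · rw [Finset.card_insert_of_notMem (by rw [Finset.mem_insert]; push Not; exact ⟨hft, hf⟩),
          Finset.card_insert_of_notMem ht]
        omega
      · intro o' ho'
        by_contra hcon
        push Not at hcon
        have h4 : o = o' := by
          have h5' : 5 ≤ (o ∩ o').card := by
            rw [← h5]
            apply Finset.card_le_card
            intro x hx
            rw [Finset.mem_inter]
            exact ⟨hS hx, hcon x (Finset.mem_insert_of_mem (Finset.mem_insert_of_mem hx))⟩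
          rcases eq_octad_or ho ho' (by omega) with h | h
          · exact h
          · omega
        apply hfo
        rw [h4]
        exact hcon f (Finset.mem_insert_self _ _)
      · intro x hx
        rcases Finset.mem_insert.1 hx with rfl | hx
        · exact h3
        · rcases Finset.mem_insert.1 hx with rfl | hx
          · exact hgt
          · exact h1 x hx

end Cfsg.Agent.KFacts.FiTTh.MvPt
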